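import Groth.Agent.H12AlgSp.LocP
import Groth.Agent.H12AlgSp.LocPCancel
import Groth.Agent.H12AlgSp.Basic
import Mathlib.RingTheory.RingHom.FaithfullyFlat

/-!
# Flatness and finite presentation pass to retracts
-/

set_option autoImplicit false
set_option backward.isDefEq.respectTransparency false
set_option backward.isDefEq.respectTransparency.types false

universe u

open CategoryTheory CategoryTheory.Limits AlgebraicGeometry AlgSp
open scoped TensorProduct

namespace Groth.Agent.H14Gerbe

section Ring

variable {A C D C' : Type u} [CommRing A] [CommRing C] [CommRing D] [CommRing C']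
  [Algebra A C] [Algebra A D] [Algebra A C'] [Algebra C C'] [IsScalarTower A C C']

/-- Flatness of an algebra which maps to a flat one, compatibly with a faithfully flat extension. -/
lemma flat_of_factor [Module.Flat A D] [Module.FaithfullyFlat C C'] (r : C →ₐ[A] D)
    (j : D →ₐ[A] C') (h : ∀ x, j (r x) = algebraMap C C' x) : Module.Flat A C := by
  rw [Module.Flat.iff_lTensor_preserves_injective_linearMap]
  intro N P _ _ _ _ f hf
  rw [injective_iff_map_eq_zero]
  intro x hx
  have h1 : (r.toLinearMap.rTensor N) x = 0 := by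
    refine Module.Flat.lTensor_preserves_injective_linearMap (M := D) f hf ?_
    rw [map_zero, ← LinearMap.comp_apply, LinearMap.lTensor_comp_rTensor,
      ← LinearMap.rTensor_comp_lTensor, LinearMap.comp_apply, hx, map_zero]
  have h2 : ((IsScalarTower.toAlgHom A C C').toLinearMap.rTensor N) x = 0 := by
    have e : (IsScalarTower.toAlgHom A C C').toLinearMap = j.toLinearMap ∘ₗ r.toLinearMap :=
      LinearMap.ext fun y => (h y).symm
    rw [e, LinearMap.rTensor_comp, LinearMap.comp_apply, h1, map_zero]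
  let Φ := TensorProduct.AlgebraTensorModule.cancelBaseChange A C C' C' N
  have e : ∀ y : C ⊗[A] N, ((IsScalarTower.toAlgHom A C C').toLinearMap.rTensor N) y =
      Φ (TensorProduct.mk C C' (C ⊗[A] N) 1 y) := by
    intro y
    induction y using TensorProduct.induction_on with
    | zero => simp
    | tmul c n =>
      simp [Φ, TensorProduct.AlgebraTensorModule.cancelBaseChange_tmul, Algebra.smul_def]
    | add a b ha hb => simp [map_add, TensorProduct.tmul_add, ha, hb]
  have e := e x
  rw [h2] at e
  apply Module.FaithfullyFlat.tensorProduct_mk_injective (A := C) (B := C') (C ⊗[A] N)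
  rw [map_zero]
  exact Φ.injective (e.symm.trans (map_zero Φ).symm)

end Ring

section Scheme

variable {A U U' V : Scheme.{u}} (j : U' ⟶ A) (r : A ⟶ U) (e : U' ⟶ U) [Flat e] [Surjective e]
  (h : U ⟶ V)

lemma flat_of_factor_scheme (he : j ≫ r = e) [hg : Flat (r ≫ h)] : Flat h := by
  rw [Flat.iff_flat_stalkMap]
  intro x
  obtain ⟨x', rfl⟩ := e.surjective x
  subst he
  have h1 := Flat.stalkMap (r ≫ h) (j x')
  rw [Scheme.Hom.stalkMap_comp] at h1
  have h2 := Flat.stalkMap (j ≫ r) x'
  let φ : V.presheaf.stalk (h (r (j x'))) →+* U.presheaf.stalk (r (j x')) :=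
    (h.stalkMap (r (j x'))).hom
  let ρ : U.presheaf.stalk (r (j x')) →+* A.presheaf.stalk (j x') := (r.stalkMap (j x')).hom
  let θ : A.presheaf.stalk (j x') →+* U'.presheaf.stalk x' := (j.stalkMap x').hom
  let := φ.toAlgebra
  let := (ρ.comp φ).toAlgebra
  let := (θ.comp (ρ.comp φ)).toAlgebra
  let κ : U.presheaf.stalk (r (j x')) →+* U'.presheaf.stalk x' := ((j ≫ r).stalkMap x').hom
  have hκ : κ = θ.comp ρ := by
    change ((j ≫ r).stalkMap x').hom = _
    rw [Scheme.Hom.stalkMap_comp]
    rfl
  let := κ.toAlgebra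
  have : Module.Flat (U.presheaf.stalk (r (j x'))) (U'.presheaf.stalk x') := h2
  have : IsLocalHom (algebraMap (U.presheaf.stalk (r (j x'))) (U'.presheaf.stalk x')) :=
    inferInstanceAs (IsLocalHom ((j ≫ r).stalkMap x').hom)
  have : Module.FaithfullyFlat (U.presheaf.stalk (r (j x'))) (U'.presheaf.stalk x') :=
    Module.FaithfullyFlat.of_flat_of_isLocalHom
  have : Module.Flat (V.presheaf.stalk (h (r (j x')))) (A.presheaf.stalk (j x')) := h1
  have : IsScalarTower (V.presheaf.stalk (h (r (j x')))) (U.presheaf.stalk (r (j x')))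
      (U'.presheaf.stalk x') := IsScalarTower.of_algebraMap_eq fun y => (RingHom.congr_fun hκ _).symm
  exact RingHom.flat_algebraMap_iff.2 (flat_of_factor
    ({ ρ with commutes' := fun _ => rfl } : _ →ₐ[V.presheaf.stalk (h (r (j x')))] _)
    ({ θ with commutes' := fun _ => rfl } : _ →ₐ[V.presheaf.stalk (h (r (j x')))] _)
    fun y => (RingHom.congr_fun hκ y).symm)

lemma lfp_of_factor_scheme [Etale e] (he : j ≫ r = e) [hg : LocallyOfFinitePresentation (r ≫ h)] :
    LocallyOfFinitePresentation h := by
  have hr : LocallyOfFiniteType r := locallyOfFiniteType_of_comp r h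
  have : LocallyOfFinitePresentation (j ≫ r) := by rw [he]; infer_instance
  have := H12AlgSp.lfp_of_comp j r
  have : LocallyOfFinitePresentation (e ≫ h) := by
    rw [← he, Category.assoc]
    infer_instance
  exact H12AlgSp.EtaleSource.locallyOfFinitePresentation e h

end Scheme

variable {S : Scheme.{u}} {P : MorphismProperty Scheme.{u}}

/-- A property local for the étale topology passes to retracts of spaces. -/
theorem locP_of_retract (hP : H12AlgSp.EtLocal P)
    (hret : ∀ {A U U' V : Scheme.{u}} (j : U' ⟶ A) (r : A ⟶ U) (e : U' ⟶ U) (h : U ⟶ V),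
      Etale e → Surjective e → j ≫ r = e → P (r ≫ h) → P h)
    {X Y B : Sp S} (hX : IsAlgSpace X) (hY : IsAlgSpace Y) (hB : IsAlgSpace B)
    (πY : Y ⟶ B) (i : Y ⟶ X) (r : X ⟶ Y) (hir : i ≫ r = 𝟙 Y) (h : LocP P (r ≫ πY)) :
    LocP P πY := by
  obtain ⟨U, V, a, b, f, ha, has, hb, -, comm⟩ := H12AlgSp.exists_chart hY hB πY
  let σ : (yon S).obj U ⟶ pullback r a := pullback.lift (a ≫ i) (𝟙 _)
    (by rw [Category.assoc, hir, Category.comp_id, Category.id_comp])
  have hXU : IsAlgSpace (pullback r a) :=
    H12AlgSp.isAlgSpace_of_isPullback hY.diag hX (IsAlgSpace.yon_obj U) (IsPullback.of_hasPullback r a)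
  have hfst : RepWith @Etale (pullback.fst r a) :=
    H12AlgSp.repWith_of_isPullback (IsPullback.of_hasPullback r a).flip ha
  obtain ⟨A, p, hp, hps⟩ := hXU.atlas
  obtain ⟨W, z, k, sq⟩ := hp.rep σ
  obtain ⟨k, rfl⟩ := (yon S).map_surjective k
  have hz : Etale z.left := hp.property σ _ z sq
  have hzs : Surjective z.left := hps.property σ _ z sq
  obtain ⟨q, hq⟩ := (yon S).map_surjective (p ≫ pullback.snd r a)
  have e : k ≫ q = z := (yon S).map_injective (by
    rw [Functor.map_comp, hq, ← Category.assoc, sq.w, Category.assoc, pullback.lift_snd,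
      Category.comp_id])
  have hA : P (q ≫ f).left := by
    refine h (p ≫ pullback.fst r a) b (q ≫ f) (H12AlgSp.repWith_comp hp hfst) hb ?_
    rw [Functor.map_comp, hq, Category.assoc, pullback.condition_assoc]
    simp only [Category.assoc]
    rw [comm]
  refine H12AlgSp.locP_of_one_chart hP f ha has hb comm
    (hret k.left q.left z.left f.left hz hzs ?_ ?_)
  · rw [← Over.comp_left, e]
  · rwa [← Over.comp_left]

theorem locP_flat_of_retract {X Y B : Sp S} (hX : IsAlgSpace X) (hY : IsAlgSpace Y)
    (hB : IsAlgSpace B) (πY : Y ⟶ B) (i : Y ⟶ X) (r : X ⟶ Y) (hir : i ≫ r = 𝟙 Y)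
    (h : LocP @Flat (r ≫ πY)) : LocP @Flat πY :=
  locP_of_retract H12AlgSp.etLocal_flat (fun j r e h' _ _ he hg =>
    flat_of_factor_scheme j r e h' he (hg := hg)) hX hY hB πY i r hir h

theorem locP_lfp_of_retract {X Y B : Sp S} (hX : IsAlgSpace X) (hY : IsAlgSpace Y)
    (hB : IsAlgSpace B) (πY : Y ⟶ B) (i : Y ⟶ X) (r : X ⟶ Y) (hir : i ≫ r = 𝟙 Y)
    (h : LocP @LocallyOfFinitePresentation (r ≫ πY)) : LocP @LocallyOfFinitePresentation πY :=
  locP_of_retract H12AlgSp.etLocal_lfp (fun j r e h' _ _ he hg =>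
    lfp_of_factor_scheme j r e h' he (hg := hg)) hX hY hB πY i r hir h

end Groth.Agent.H14Gerbe
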