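import Groth.Agent.H14Gerbe.Diag
import Groth.Agent.H14AlgSt.ReducedSub
import Groth.Agent.H14AlgSt.LocQ4
import Groth.Agent.H14AlgSt.UnivTop
import Groth.Agent.H13Flat.SmoothDescent
import Groth.Agent.H14AlgSt.LargestSmooth
import Groth.Agent.S10542

/-!
# A gerbe is surjective, smooth and a universal homeomorphism
-/

set_option autoImplicit false
set_option backward.isDefEq.respectTransparency false
set_option backward.isDefEq.respectTransparency.types false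

universe u

open CategoryTheory CategoryTheory.Functor Opposite AlgebraicGeometry CategoryTheory.Limits

noncomputable section

namespace Groth.Agent.H14Gerbe

open H14Fib H14Stk H14AlgSt

variable {S : Scheme.{u}} {𝒳 𝒴 𝒵 : AlgSt.Cat S}

local notation "K₀" => Scheme.fppfPrecoverage
local notation "LP" => AlgSp.LocP

lemma prop_of_repWith_overMap {Q : MorphismProperty Scheme.{u}} (hQ : H12AlgSp.EtLocal Q)
    {T U : Over S} (h : T ⟶ U) (hh : AlgSt.RepByAlgSpWith (LP Q) (AlgSt.overMap h)) : Q h.left := by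
  have hd := prop_of_repWith_spMap (sourceIsoInv_locP Q)
    (F := ⟨(AlgSp.yon S).obj T, AlgSp.IsAlgSpace.yon_obj T⟩)
    (Φ := BasedFunctor.comp (AlgSt.toOverCat T) (AlgSt.overMap h))
    ((repWith_equiv_comp_iff (toOverCat_isEquivOver T)).1 hh)
  rw [spMapOfOver_overMap, spMapOfOver_toOverCat, Category.id_comp] at hd
  exact (locP_yon_iff hQ h).1 hd

/-- A smooth chart and a flat chart have a common chart. -/
lemma exists_chart_pair (h𝒵 : AlgSt.IsAlgStack K₀ 𝒵) {A C : Over S}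
    {a : FibCat.overCat A ⥤ᵇ 𝒵} {z : FibCat.overCat C ⥤ᵇ 𝒵}
    (ha : AlgSt.RepByAlgSpWith (LP @Smooth) a) (hz₁ : AlgSt.RepByAlgSpWith (LP @Flat) z)
    (hz₂ : AlgSt.RepByAlgSpWith (LP @LocallyOfFinitePresentation) z) :
    ∃ (Q : Over S) (q₁ : Q ⟶ A) (q₂ : Q ⟶ C), Flat q₁.left ∧
      LocallyOfFinitePresentation q₁.left ∧ Smooth q₂.left ∧
      Nonempty (BasedFunctor.comp (AlgSt.overMap q₁) a ≅ BasedFunctor.comp (AlgSt.overMap q₂) z) ∧
      ∀ t w, AlgSt.Points.ofChart a t = AlgSt.Points.ofChart z w →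
        ∃ s, q₁.left s = t ∧ q₂.left s = w := by
  have hA := isAlgStack_overCat (S := S) A
  have hC := isAlgStack_overCat (S := S) C
  have hW : AlgSt.IsAlgStack K₀ (FibCat.fp a z) := isAlgStack_fp' hA hC h𝒵 a z
  obtain ⟨Q, r, hr, hrs⟩ := hW.atlas
  obtain ⟨q₁, ⟨j₁⟩⟩ := exists_overMap_iso (BasedFunctor.comp r (FibCat.fpFst a z))
  obtain ⟨q₂, ⟨j₂⟩⟩ := exists_overMap_iso (BasedFunctor.comp r (FibCat.fpSnd a z))
  have hQg := fibGrpd_overCat (S := S) Q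
  refine ⟨Q, q₁, q₂, prop_of_repWith_overMap H12AlgSp.etLocal_flat q₁ (repWith_of_iso j₁ ?_),
    prop_of_repWith_overMap H12AlgSp.etLocal_lfp q₁ (repWith_of_iso j₁ ?_),
    prop_of_repWith_overMap H12AlgSp.etLocal_smooth q₂ (repWith_of_iso j₂ ?_), ⟨?_⟩, fun t w e => ?_⟩
  · exact repWith_locP_comp H12AlgSp.etLocal_flat hQg hW.isStack.1
      (repWith_locP_mono smooth_le_flat hr) (repWith_fpFst a hz₁)
  · exact repWith_locP_comp H12AlgSp.etLocal_lfp hQg hW.isStack.1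
      (repWith_locP_mono smooth_le_lfp hr) (repWith_fpFst a hz₂)
  · exact repWith_locP_comp H12AlgSp.etLocal_smooth hQg hW.isStack.1 hr (repWith_fpSnd z ha)
  · exact (post (FibCat.overCat Q) a).mapIso j₁.symm ≪≫
      (Stk.restr r 𝒵).mapIso (FibCat.fpIso a z) ≪≫ (post (FibCat.overCat Q) z).mapIso j₂
  · rw [ofChart_eq_map a, ofChart_eq_map z] at e
    obtain ⟨v, hv₁, hv₂⟩ := exists_points_fp (fibGrpd_overCat A) (fibGrpd_overCat C) h𝒵.isStack.1 e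
    obtain ⟨s, rfl⟩ := surjective_of_repWith hW.isStack.1 hrs v
    refine ⟨chartPoint s, ?_, ?_⟩
    · rw [← chartPoint_overMap, ← points_map_iso j₁, points_map_comp, hv₁, chartPoint_ofChart]
    · rw [← chartPoint_overMap, ← points_map_iso j₂, points_map_comp, hv₂, chartPoint_ofChart]

/-- Charts with the same image in a scheme under a functor to it. -/
lemma eq_of_pair {A C V Q : Over S} {a : FibCat.overCat A ⥤ᵇ 𝒵} {z : FibCat.overCat C ⥤ᵇ 𝒵}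
    (p : 𝒵 ⥤ᵇ FibCat.overCat V) {h : A ⟶ V} {c : C ⟶ V}
    (ja : BasedFunctor.comp a p ≅ AlgSt.overMap h) (jz : BasedFunctor.comp z p ≅ AlgSt.overMap c)
    {q₁ : Q ⟶ A} {q₂ : Q ⟶ C}
    (j : BasedFunctor.comp (AlgSt.overMap q₁) a ≅ BasedFunctor.comp (AlgSt.overMap q₂) z) :
    q₁ ≫ h = q₂ ≫ c :=
  overMap_injective ((overMapCompIso q₁ h).symm ≪≫
    (Stk.restr (AlgSt.overMap q₁) _).mapIso ja.symm ≪≫ (post (FibCat.overCat Q) p).mapIso j ≪≫
    (Stk.restr (AlgSt.overMap q₂) _).mapIso jz ≪≫ overMapCompIso q₂ c)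

variable {f : 𝒳 ⥤ᵇ 𝒴}

/-- Local sections of a gerbe over a chart. -/
lemma exists_local_sections (h𝒳 : AlgSt.IsAlgStack K₀ 𝒳) (h𝒴 : AlgSt.IsAlgStack K₀ 𝒴)
    (hf : Gerb.IsGerbeOver (QuotSh.J K₀ S) f) {V : Over S} (y : FibCat.overCat V ⥤ᵇ 𝒴) :
    ∃ (C : V.left → Over S) (c : ∀ i, C i ⟶ V) (z : ∀ i, FibCat.overCat (C i) ⥤ᵇ FibCat.fp f y),
      (∀ i, Flat (c i).left) ∧ (∀ i, LocallyOfFinitePresentation (c i).left) ∧
      (∀ v : V.left, ∃ i, v ∈ Set.range (c i).left) ∧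
      (∀ i, AlgSt.RepByAlgSpWith (LP @Flat) (z i) ∧
        AlgSt.RepByAlgSpWith (LP @LocallyOfFinitePresentation) (z i)) ∧
      ∀ i, Nonempty (BasedFunctor.comp (z i) (FibCat.fpSnd f y) ≅ AlgSt.overMap (c i)) := by
  have hW : AlgSt.IsAlgStack K₀ (FibCat.fp f y) :=
    isAlgStack_fp' h𝒳 (isAlgStack_overCat V) h𝒴 f y
  let π : FibCat.fp f y ⥤ᵇ FibCat.overCat V := FibCat.fpSnd f y
  have hπ : Gerb.IsGerbeOver (QuotSh.J K₀ S) π :=
    isGerbeOver_of_comp_equiv (fpSwap y f) π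
      (fp_fibGrpd (fibGrpd_overCat V) h𝒳.isStack.1 h𝒴.isStack.1) hW.isStack.1
      (fpSwap_isEquivOver y f)
      (isGerbeOver_fpFst y f h𝒴.isStack.1 (fibGrpd_overCat V) hf)
  obtain ⟨R, hR, hloc⟩ := hπ.1 (topObj V)
  obtain ⟨C, c, hc₁, hc₂, hc₃, hcR⟩ := exists_fppf_family (R := R) hR
  have hz : ∀ i, ∃ z : FibCat.overCat (C i) ⥤ᵇ FibCat.fp f y,
      Nonempty (BasedFunctor.comp z π ≅ AlgSt.overMap (c i)) := by
    intro i
    obtain ⟨ξ, g, hg⟩ := hloc (c i) (hcR i)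
    have hξ : (FibCat.fp f y).p.obj ξ = C i := obj_over_of_lift (f := c i) g
    have := isFibered_of_fibGrpd hW.isStack.1
    obtain ⟨z, e, -, he⟩ := exists_fromOver (U := C i) hξ
    have hg' : (FibCat.overCat V).p.IsHomLift (c i) (π.map e.hom ≫ g) :=
      IsHomLift.comp_lift_id_left' (FibCat.overCat V).p (C i) (π.map e.hom) (c i) g
    let s : (FibCat.overCat V).obj := (AlgSt.overMap (c i)).obj (topObj (C i))
    have hs : (FibCat.overCat V).p.IsHomLift (c i) (toTop s) :=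
      IsHomLift.of_fac' _ _ _ rfl rfl (by
        change 𝟙 (C i) ≫ c i = 𝟙 _ ≫ c i ≫ 𝟙 _
        simp)
    obtain ⟨κ, hκ, -⟩ := exists_vertIso (fibGrpd_overCat V) (c i) (π.map e.hom ≫ g) (toTop s)
    exact ⟨z, ⟨isoOfTop (topSC_of_fibGrpd (fibGrpd_overCat V) _)
      (topSC_of_fibGrpd (fibGrpd_overCat V) _) κ hκ⟩⟩
  choose z hzi using hz
  refine ⟨C, c, z, hc₁, hc₂, hc₃, fun i => ?_, hzi⟩
  obtain ⟨j⟩ := hzi i
  let pr := FibCat.fpFst (AlgSt.overMap (c i)) π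
  have hC := isAlgStack_overCat (S := S) (C i)
  have h𝒵 : AlgSt.IsAlgStack K₀ (FibCat.fp (AlgSt.overMap (c i)) π) :=
    isAlgStack_fp' hC hW (isAlgStack_overCat V) _ _
  have hpr := (isGerbeOver_fpFst (AlgSt.overMap (c i)) π (fibGrpd_overCat V)
    (fibGrpd_overCat (C i)) hπ).2
  let x := FibCat.fpLift (F := AlgSt.overMap (c i)) (G := π) (BasedFunctor.id _) (z i) j.symm
  have e : BasedFunctor.comp x pr ≅ BasedFunctor.id (FibCat.overCat (C i)) := Iso.refl _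
  exact ⟨repWith_locP_comp H12AlgSp.etLocal_flat (fibGrpd_overCat (C i)) h𝒵.isStack.1
      (flat_section (x := x) e h𝒵 hpr)
      (repWith_fpSnd π (repWith_overMap H12AlgSp.etLocal_flat (c i) (hc₁ i))),
    repWith_locP_comp H12AlgSp.etLocal_lfp (fibGrpd_overCat (C i)) h𝒵.isStack.1
      (lfp_section (x := x) e h𝒵 hpr)
      (repWith_fpSnd π (repWith_overMap H12AlgSp.etLocal_lfp (c i) (hc₂ i)))⟩

/-- A gerbe is universally injective. -/
theorem univInjective_gerbe (h𝒳 : AlgSt.IsAlgStack K₀ 𝒳) (h𝒴 : AlgSt.IsAlgStack K₀ 𝒴)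
    (hf : Gerb.IsGerbeOver (QuotSh.J K₀ S) f) : AlgSt.IsUnivInjective K₀ f :=
  isUnivInjective_of_surjective_diag h𝒳.isStack.1 h𝒴.isStack.1
    (surjective_of_repWith (fp_fibGrpd h𝒳.isStack.1 h𝒳.isStack.1 h𝒴.isStack.1)
      (surjective_diag_gerbe h𝒳 h𝒴 hf))

/-- A gerbe is surjective. -/
theorem surjective_gerbe (h𝒳 : AlgSt.IsAlgStack K₀ 𝒳) (h𝒴 : AlgSt.IsAlgStack K₀ 𝒴)
    (hf : Gerb.IsGerbeOver (QuotSh.J K₀ S) f) : AlgSt.IsSurjective f := by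
  obtain ⟨V, y, -, hys⟩ := h𝒴.atlas
  intro q
  obtain ⟨v, rfl⟩ := ofChart_surjective h𝒴.isStack.1 hys q
  obtain ⟨C, c, z, -, -, hc₃, -, hzi⟩ := exists_local_sections h𝒳 h𝒴 hf y
  obtain ⟨i, w, rfl⟩ := hc₃ v
  obtain ⟨j⟩ := hzi i
  refine ⟨AlgSt.Points.ofChart (BasedFunctor.comp (z i) (FibCat.fpFst f y)) w, ?_⟩
  rw [← ofChart_comp, ← ofChart_comp_overMap]
  exact ofChart_iso ((Stk.restr (z i) _).mapIso (FibCat.fpIso f y) ≪≫
    (post (FibCat.overCat (C i)) y).mapIso j) w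

/-- A property descends from the charts of local sections to a gerbe. -/
lemma chart_cover_gerbe (h𝒳 : AlgSt.IsAlgStack K₀ 𝒳) (h𝒴 : AlgSt.IsAlgStack K₀ 𝒴)
    (hf : Gerb.IsGerbeOver (QuotSh.J K₀ S) f) {V A : Over S} {y : FibCat.overCat V ⥤ᵇ 𝒴}
    {a : FibCat.overCat A ⥤ᵇ FibCat.fp f y} (ha : AlgSt.RepByAlgSpWith (LP @Smooth) a) {h : A ⟶ V}
    (ja : BasedFunctor.comp a (FibCat.fpSnd f y) ≅ AlgSt.overMap h) (t : A.left) :
    ∃ (Q C : Over S) (q₁ : Q ⟶ A) (q₂ : Q ⟶ C) (c : C ⟶ V), Flat q₁.left ∧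
      LocallyOfFinitePresentation q₁.left ∧ Smooth q₂.left ∧ Flat c.left ∧
      LocallyOfFinitePresentation c.left ∧ t ∈ Set.range q₁.left ∧ q₁ ≫ h = q₂ ≫ c := by
  obtain ⟨C, c, z, hc₁, hc₂, hc₃, hz, hzi⟩ := exists_local_sections h𝒳 h𝒴 hf y
  have hW : AlgSt.IsAlgStack K₀ (FibCat.fp f y) :=
    isAlgStack_fp' h𝒳 (isAlgStack_overCat V) h𝒴 f y
  obtain ⟨i, w, hw⟩ := hc₃ (h.left t)
  obtain ⟨jz⟩ := hzi i
  obtain ⟨Q, q₁, q₂, h1, h2, h3, ⟨j⟩, hpts⟩ :=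
    exists_chart_pair hW ha (hz i).1 (hz i).2
  refine ⟨Q, C i, q₁, q₂, c i, h1, h2, h3, hc₁ i, hc₂ i, ?_, eq_of_pair _ ja jz j⟩
  have hπ : Gerb.IsGerbeOver (QuotSh.J K₀ S) (FibCat.fpSnd f y) :=
    isGerbeOver_of_comp_equiv (fpSwap y f) _
      (fp_fibGrpd (fibGrpd_overCat V) h𝒳.isStack.1 h𝒴.isStack.1) hW.isStack.1
      (fpSwap_isEquivOver y f)
      (isGerbeOver_fpFst y f h𝒴.isStack.1 (fibGrpd_overCat V) hf)
  have hinj := univInjective_gerbe hW (isAlgStack_overCat V) hπ (FibCat.overCat V)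
    (isAlgStack_overCat V) (BasedFunctor.id _)
  have hbij := points_map_bijective (fpSnd_id_isEquivOver (FibCat.fpSnd f y))
  have hinj' : Function.Injective (AlgSt.Points.map (FibCat.fpSnd f y)) := by
    intro u v e
    obtain ⟨u, rfl⟩ := hbij.2 u
    obtain ⟨v, rfl⟩ := hbij.2 v
    rw [← points_map_comp, ← points_map_comp,
      ← points_map_iso (FibCat.fpIso (BasedFunctor.id _) (FibCat.fpSnd f y)),
      ← points_map_iso (FibCat.fpIso (BasedFunctor.id _) (FibCat.fpSnd f y))] at e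
    exact congrArg _ (hinj e)
  have hov : ∀ {B : Over S} (d : B ⟶ V) (b : B.left), AlgSt.Points.ofChart (AlgSt.overMap d) b =
      AlgSt.Points.ofChart (BasedFunctor.id (FibCat.overCat V)) (d.left b) :=
    fun d b => ofChart_comp_overMap (BasedFunctor.id (FibCat.overCat V)) d b
  obtain ⟨s, hs, -⟩ := hpts t w (hinj' (by
    rw [← ofChart_comp, ← ofChart_comp, ofChart_iso ja, ofChart_iso jz, hov, hov, hw]))
  exact ⟨s, hs⟩

/-- A gerbe is flat. -/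
theorem locQ_flat_gerbe (h𝒳 : AlgSt.IsAlgStack K₀ 𝒳) (h𝒴 : AlgSt.IsAlgStack K₀ 𝒴)
    (hf : Gerb.IsGerbeOver (QuotSh.J K₀ S) f) : AlgSt.LocQ (LP @Flat) f := by
  obtain ⟨V, y, hy, hys⟩ := h𝒴.atlas
  obtain ⟨A, a, h, ha, has, ⟨ja⟩⟩ := exists_atlas_fp h𝒳 h𝒴 f y
  refine locQ_of_atlas h𝒳.isStack.1 h𝒴.isStack.1 hy hys ha has ja
    ((locP_yon_iff H12AlgSp.etLocal_flat h).2 ?_)
  rw [Flat.iff_flat_stalkMap]
  intro t
  obtain ⟨Q, C, q₁, q₂, c, h1, -, h3, h4, -, ⟨s, rfl⟩, e⟩ := chart_cover_gerbe h𝒳 h𝒴 hf ha ja t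
  have : Flat q₂.left := inferInstance
  have hqh : Flat (q₁.left ≫ h.left) := by
    rw [← Over.comp_left, e, Over.comp_left]
    infer_instance
  have hq := Flat.stalkMap (q₁.left ≫ h.left) s
  rw [Scheme.Hom.stalkMap_comp] at hq
  have hq₁ : (q₁.left.stalkMap s).hom.Flat := Flat.stalkMap q₁.left s
  let φ : V.left.presheaf.stalk (h.left (q₁.left s)) →+* A.left.presheaf.stalk (q₁.left s) :=
    (h.left.stalkMap (q₁.left s)).hom
  let ρ : A.left.presheaf.stalk (q₁.left s) →+* Q.left.presheaf.stalk s :=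
    (q₁.left.stalkMap s).hom
  let := φ.toAlgebra
  let := ρ.toAlgebra
  let := (ρ.comp φ).toAlgebra
  have : IsScalarTower (V.left.presheaf.stalk (h.left (q₁.left s)))
      (A.left.presheaf.stalk (q₁.left s)) (Q.left.presheaf.stalk s) :=
    IsScalarTower.of_algebraMap_eq fun _ => rfl
  have : Module.Flat (A.left.presheaf.stalk (q₁.left s)) (Q.left.presheaf.stalk s) := hq₁
  have : IsLocalHom (algebraMap (A.left.presheaf.stalk (q₁.left s)) (Q.left.presheaf.stalk s)) :=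
    inferInstanceAs (IsLocalHom (q₁.left.stalkMap s).hom)
  have : Module.FaithfullyFlat (A.left.presheaf.stalk (q₁.left s)) (Q.left.presheaf.stalk s) :=
    Module.FaithfullyFlat.of_flat_of_isLocalHom
  have : Module.Flat (V.left.presheaf.stalk (h.left (q₁.left s))) (Q.left.presheaf.stalk s) := hq
  exact RingHom.flat_algebraMap_iff.2 (flat_of_factor
    (IsScalarTower.toAlgHom _ _ (Q.left.presheaf.stalk s)) (AlgHom.id _ _) fun _ => rfl)

/-- A gerbe is locally of finite presentation. -/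
theorem locQ_lfp_gerbe (h𝒳 : AlgSt.IsAlgStack K₀ 𝒳) (h𝒴 : AlgSt.IsAlgStack K₀ 𝒴)
    (hf : Gerb.IsGerbeOver (QuotSh.J K₀ S) f) :
    AlgSt.LocQ (LP @LocallyOfFinitePresentation) f := by
  obtain ⟨V, y, hy, hys⟩ := h𝒴.atlas
  obtain ⟨A, a, h, ha, has, ⟨ja⟩⟩ := exists_atlas_fp h𝒳 h𝒴 f y
  refine locQ_of_atlas h𝒳.isStack.1 h𝒴.isStack.1 hy hys ha has ja
    ((locP_yon_iff H12AlgSp.etLocal_lfp h).2 ?_)
  refine H13Flat.of_fppf_covering_simple @LocallyOfFinitePresentation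
    (Q := RingHom.FinitePresentation)
    (fun {A B C} _ _ _ _ _ _ _ _ _ h => by
      beta_reduce at h ⊢
      rw [RingHom.finitePresentation_algebraMap] at h ⊢
      exact H13Flat.finitePresentation_of_faithfullyFlat (B := C)) h.left fun t => ?_
  obtain ⟨Q, C, q₁, q₂, c, h1, h2, h3, -, h5, ht, e⟩ := chart_cover_gerbe h𝒳 h𝒴 hf ha ja t
  refine ⟨Q.left, q₁.left, h1, h2, ht, ?_⟩
  rw [← Over.comp_left, e, Over.comp_left]
  infer_instance

/-- A gerbe with a section over a scheme is smooth. -/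
lemma locQ_smooth_of_section {T : Over S} {π : 𝒳 ⥤ᵇ FibCat.overCat T}
    {x : FibCat.overCat T ⥤ᵇ 𝒳} (e : BasedFunctor.comp x π ≅ BasedFunctor.id (FibCat.overCat T))
    (h𝒳 : AlgSt.IsAlgStack K₀ 𝒳) (hπ : Gerb.LocSurjHom (QuotSh.J K₀ S) π) :
    AlgSt.LocQ (LP @Smooth) π := by
  obtain ⟨A, a, ha, has⟩ := h𝒳.atlas
  obtain ⟨h, ⟨ja⟩⟩ := exists_overMap_iso (BasedFunctor.comp a π)
  have jx : BasedFunctor.comp x π ≅ AlgSt.overMap (𝟙 T) := e ≪≫
    mkIso (fun s => Over.isoMk (Iso.refl _) ((Category.id_comp _).trans (Category.comp_id _)))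
      (fun {_ _} φ => Over.OverMorphism.ext ((Category.comp_id _).trans (Category.id_comp _).symm))
      (fun s => IsHomLift.id rfl)
  obtain ⟨Q, q₁, q₂, h1, h2, h3, ⟨j⟩, hpts⟩ :=
    exists_chart_pair h𝒳 ha (flat_section e h𝒳 hπ) (lfp_section e h𝒳 hπ)
  have he := eq_of_pair π ja jx j
  rw [Category.comp_id] at he
  have hxs := ofChart_surjective h𝒳.isStack.1 (surjective_section e h𝒳 hπ)
  have hh : Smooth h.left := H13Flat.smooth_of_fppf_covering h.left fun t => by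
    obtain ⟨w, hw⟩ := hxs (AlgSt.Points.ofChart a t)
    obtain ⟨s, hs, -⟩ := hpts t w hw.symm
    refine ⟨Q.left, q₁.left, h1, h2, ⟨s, hs⟩, ?_⟩
    rw [← Over.comp_left, he]
    exact h3
  refine ⟨A, T, a, BasedFunctor.id _, h, ja, ha, has, ?_, ?_⟩
  · refine repWith_of_iso ?_ (repWith_overMap H12AlgSp.etLocal_smooth (𝟙 T)
      (H12AlgSp.etLocal_smooth.id_mem _))
    exact mkIso (fun s => Over.isoMk (Iso.refl _) ((Category.id_comp _).trans (Category.comp_id _).symm))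
      (fun {_ _} φ => Over.OverMorphism.ext ((Category.comp_id _).trans (Category.id_comp _).symm))
      (fun s => IsHomLift.id rfl)
  · exact (locP_yon_iff H12AlgSp.etLocal_smooth h).2 hh

/-- A gerbe is smooth. -/
theorem locQ_smooth_gerbe (h𝒳 : AlgSt.IsAlgStack K₀ 𝒳) (h𝒴 : AlgSt.IsAlgStack K₀ 𝒴)
    (hf : Gerb.IsGerbeOver (QuotSh.J K₀ S) f) : AlgSt.LocQ (LP @Smooth) f := by
  have hP₂ := localFppf_of_fpqc (S10542.result S)
  have hP := smLocal_smooth (S := S)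
  have h𝒳𝒳 : AlgSt.IsAlgStack K₀ (FibCat.fp f f) := isAlgStack_fp' h𝒳 h𝒳 h𝒴 f f
  refine locQ_of_fpFst hP hP₂ h𝒳 h𝒴 h𝒳 (locQ_flat_gerbe h𝒳 h𝒴 hf) (locQ_lfp_gerbe h𝒳 h𝒴 hf)
    (surjective_gerbe h𝒳 h𝒴 hf) ?_
  obtain ⟨W, p, hp, hps⟩ := h𝒳.atlas
  have hW := isAlgStack_overCat (S := S) W
  refine locQ_of_fpFst hP hP₂ h𝒳𝒳 h𝒳 hW (locQ_of_repWith smLocal_flat hW h𝒳
      (repWith_locP_mono smooth_le_flat hp))
    (locQ_of_repWith smLocal_lfp hW h𝒳 (repWith_locP_mono smooth_le_lfp hp))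
    (surjective_of_repWith h𝒳.isStack.1 hps) ?_
  let g₁ := FibCat.fpFst f f
  have hg₁ := isGerbeOver_fpFst f f h𝒴.isStack.1 h𝒳.isStack.1 hf
  let x := FibCat.fpLift (F := p) (G := g₁) (BasedFunctor.id _)
    (BasedFunctor.comp p (FibCat.diag f)) (Iso.refl _)
  exact locQ_smooth_of_section (x := x) (Iso.refl _) (isAlgStack_fp' hW h𝒳𝒳 h𝒳 p g₁)
    (isGerbeOver_fpFst p g₁ h𝒳.isStack.1 hW.isStack.1 hg₁).2

/-- A gerbe is a universal homeomorphism. -/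
theorem univHomeo_gerbe (h𝒳 : AlgSt.IsAlgStack K₀ 𝒳) (h𝒴 : AlgSt.IsAlgStack K₀ 𝒴)
    (hf : Gerb.IsGerbeOver (QuotSh.J K₀ S) f) : AlgSt.IsUnivHomeo K₀ f := by
  intro 𝒲 hW g
  have h' := isGerbeOver_fpFst g f h𝒴.isStack.1 hW.isStack.1 hf
  have hA := isAlgStack_fp' hW h𝒳 h𝒴 g f
  refine ⟨continuous_points_map hW _,
    isOpenMor_of_locQ hA hW (locQ_flat_gerbe hA hW h') (locQ_lfp_gerbe hA hW h'),
    univInjective_gerbe h𝒳 h𝒴 hf 𝒲 hW g, surjective_gerbe hA hW h'⟩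

end Groth.Agent.H14Gerbe

namespace Groth.Agent.H14Gerbe

open H14Fib H14Stk H14AlgSt

variable {S : Scheme.{u}} {𝒳 𝒴 : AlgSt.Cat S} {f : 𝒳 ⥤ᵇ 𝒴}

local notation "K₀" => Scheme.fppfPrecoverage

/-- Local lifting along the diagonal is local lifting of morphisms. -/
lemma locSurjHom_of_diag (h𝒴 : FibCat.IsFibGrpd 𝒴.p)
    (h : Gerb.LocSurjObj (QuotSh.J K₀ S) (FibCat.diag f)) :
    Gerb.LocSurjHom (QuotSh.J K₀ S) f := by
  intro x x' b hb
  have := isIso_of_fibGrpd h𝒴 (𝟙 (𝒳.p.obj x)) b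
  let ζ : (FibCat.fp f f).obj := fpObj x x' (asIso b) rfl hb
  refine (locObj_at h ζ (U := 𝒳.p.obj x) rfl).mono ?_
  rintro V k ⟨ξ, g, hg⟩
  have h1 : 𝒳.p.IsHomLift k g.hom.fst := (fp_isHomLift_iff k g).1 hg
  have hw : f.map g.hom.fst ≫ b = 𝟙 _ ≫ f.map g.hom.snd := g.hom.w
  exact ⟨ξ, g.hom.fst, g.hom.snd, h1, fp_isHomLift_snd' k g, hw.trans (Category.id_comp _)⟩

end Groth.Agent.H14Gerbe
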