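import Groth.Agent.H14Gerbe.AlgGerbe
import Groth.Agent.H14Gerbe.Cover
import Groth.Agent.H14AlgSt.FieldPoint
import Groth.Agent.H12AlgSp.Residual

/-!
# Reduced, locally Noetherian stacks with one point are gerbes
-/

set_option autoImplicit false
set_option backward.isDefEq.respectTransparency false
set_option backward.isDefEq.respectTransparency.types false

universe u

open CategoryTheory CategoryTheory.Functor Opposite AlgebraicGeometry CategoryTheory.Limits

noncomputable section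

namespace Groth.Agent.H14Gerbe

open H14Fib H14Stk H14AlgSt

variable {S : Scheme.{u}} {𝒳 𝒴 𝒵 : AlgSt.Cat S}

local notation "K₀" => Scheme.fppfPrecoverage

/-- Over a locally Noetherian stack, finite type is finite presentation. -/
lemma locQ_lfp_of_lft_of_noetherian (hX : AlgSt.IsAlgStack K₀ 𝒳) (hY : AlgSt.IsAlgStack K₀ 𝒴)
    (hn : AlgSt.SmoothLocally (fun T => IsLocallyNoetherian T) 𝒴) {f : 𝒳 ⥤ᵇ 𝒴}
    (hf : AlgSt.LocQ (AlgSp.LocP @LocallyOfFiniteType) f) :
    AlgSt.LocQ (AlgSp.LocP @LocallyOfFinitePresentation) f := by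
  obtain ⟨V, y, hy, hys⟩ := hY.atlas
  obtain ⟨A, b, h, hb, hbs, ⟨j⟩⟩ := exists_atlas_fp hX hY f y
  have : IsLocallyNoetherian V.left := hn V y hy
  have : LocallyOfFiniteType h.left := (locP_yon_iff H12AlgSp.etLocal_lft h).1
    (prop_of_locQ smLocal_lft hf hy b hb j)
  exact locQ_of_atlas hX.isStack.1 hY.isStack.1 hy hys hb hbs j
    ((locP_yon_iff H12AlgSp.etLocal_lfp h).2 (H12AlgSp.lfp_of_lft_of_isLocallyNoetherian h.left))

/-- A stack with an fppf point over a field has flat inertia. -/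
lemma flat_inertia_of_field_point (hZ : AlgSt.IsAlgStack K₀ 𝒵) {k : Type u} [Field k]
    {a : Spec (CommRingCat.of k) ⟶ S} {z : FibCat.overCat (Over.mk a) ⥤ᵇ 𝒵}
    (hzp : AlgSt.RepByAlgSpWith (AlgSp.LocP @LocallyOfFinitePresentation) z)
    (hzs : AlgSt.RepByAlgSpWith AlgSp.IsSurjectiveMor z)
    (hzf : AlgSt.RepByAlgSpWith (AlgSp.LocP @Flat) z) :
    AlgSt.RepByAlgSpWith (AlgSp.LocP @Flat) (FibCat.inertiaToBase (FibCat.toSelf 𝒵)) := by
  have hI := isAlgStack_inertia hZ
  have hT := isAlgStack_overCat (Over.mk a : Over S)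
  have hr := rep1_inertia hZ
  have hP := isAlgStack_fp' hT hI hZ z (FibCat.inertiaToBase (FibCat.toSelf 𝒵))
  exact repWith_of_fppf (localFppf_of_fpqc (S10530.result S)) (sourceIsoInv_locP _) hr hzf hzp hzs
    (repWith_of_locQ smLocal_flat (baseStable_locP H12AlgSp.etLocal_flat)
      (localFppf_of_fpqc (S10530.result S)) hP hT (rep1_fpFst z hr)
      (locQ_flat_over_field hP _))

/-- A reduced, locally Noetherian stack with one point is a gerbe over a space of the same kind. -/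
theorem exists_gerbe_singleton (hZ : AlgSt.IsAlgStack K₀ 𝒵)
    (hred : AlgSt.SmoothLocally (fun T => IsReduced T) 𝒵)
    (hnoeth : AlgSt.SmoothLocally (fun T => IsLocallyNoetherian T) 𝒵)
    (hne : Nonempty (AlgSt.Points 𝒵)) (hsub : Subsingleton (AlgSt.Points 𝒵)) :
    ∃ (Z : AlgSp.Space S) (π : 𝒵 ⥤ᵇ AlgSt.ofSp Z.obj),
      Gerb.IsGerbeOver (QuotSh.J K₀ S) π ∧
        AlgSp.EtaleLocally (fun T => IsReduced T) Z.obj ∧ AlgSp.IsLocNoethSp Z.obj ∧
        Nonempty (AlgSp.Points Z.obj) ∧ Subsingleton (AlgSp.Points Z.obj) := by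
  obtain ⟨k₀, _, a₀, z₀, hz₀⟩ := exists_flat_field_point hZ hred hne
  obtain ⟨k, hk, a, z, hz⟩ := exists_lft_field_point hZ hne
  have hzs := surjective_of_subsingleton_points hZ hsub z
  have hzp := lfp_of_lft_of_noetherian hZ hnoeth hz
  have hzf := flat_of_field_point hZ (surjective_of_subsingleton_points hZ hsub z₀) hz₀ z
  have hI := isAlgStack_inertia hZ
  have hIt : AlgSt.RepByAlgSpWith (AlgSp.LocP @LocallyOfFiniteType)
      (FibCat.inertiaToBase (FibCat.toSelf 𝒵)) :=
    (repWith_inertiaToBase_iff hZ.isStack.1 _).2 (repWith_fpFst _ (repWith_lft_diag_toSelf hZ))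
  obtain ⟨Z, π, hπ⟩ := (isAlgGerbe_iff hZ).2
    ⟨locQ_of_repWith smLocal_flat hI hZ (flat_inertia_of_field_point hZ hzp hzs hzf),
      locQ_lfp_of_lft_of_noetherian hI hZ hnoeth (locQ_of_repWith smLocal_lft hI hZ hIt)⟩
  refine ⟨Z, π, hπ, (H12AlgSp.Residual.noeth_onePoint_iff Z.property).2 ?_⟩
  have hT := isAlgStack_overCat (Over.mk a : Over S)
  have hS := isAlgStack_ofSp Z
  let q := BasedFunctor.comp z π
  have hp : AlgSt.RepByAlgSpWith (AlgSp.LocP @LocallyOfFinitePresentation) q :=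
    repWith_of_locQ smLocal_lfp (baseStable_locP H12AlgSp.etLocal_lfp)
      (localFppf_of_fpqc (S10527.result S)) hT hS (rep1_chart hS q)
      (locQ_comp H12AlgSp.etLocal_lfp smLocal_lfp hT hZ hS (locQ_of_repWith smLocal_lfp hT hZ hzp)
        (locQ_lfp_gerbe hZ hS hπ))
  have hf : AlgSt.RepByAlgSpWith (AlgSp.LocP @Flat) q :=
    repWith_of_locQ smLocal_flat (baseStable_locP H12AlgSp.etLocal_flat)
      (localFppf_of_fpqc (S10530.result S)) hT hS (rep1_chart hS q)
      (locQ_comp H12AlgSp.etLocal_flat smLocal_flat hT hZ hS (locQ_of_repWith smLocal_flat hT hZ hzf)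
        (locQ_flat_gerbe hZ hS hπ))
  have hs : AlgSt.RepByAlgSpWith AlgSp.IsSurjectiveMor q :=
    surjective_of_subsingleton_points hS (surjective_gerbe hZ hS hπ).subsingleton q
  let p : (AlgSp.yon S).obj (Over.mk a) ⟶ Z.obj := ObjectProperty.homMk (testMap q)
  have key : ∀ {P : MorphismProperty (AlgSp.Sp S)}, SourceIsoInv P → TestOnSchemes P →
      AlgSt.RepByAlgSpWith P q → P p := fun hiso hloc h =>
    prop_of_repWith_ofSpMap hiso hloc (AlgSp.IsAlgSpace.yon_obj _) Z.property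
      (repWith_of_iso (isoOfPshMap (BasedFunctor.comp (AlgSt.toOverCat (Over.mk a)) q))
        ((repWith_equiv_comp_iff (toOverCat_isEquivOver _)).1 h))
  exact ⟨k, hk, a, p, key (sourceIsoInv_locP _) (testOnSchemes_locP _) hp,
    key (sourceIsoInv_locP _) (testOnSchemes_locP _) hf,
    key sourceIsoInv_surjective testOnSchemes_surjective hs⟩

end Groth.Agent.H14Gerbe
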