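import Groth.Agent.H14Gerbe.Cover
import Groth.Agent.H14AlgSt.QC
import Groth.Agent.H14AlgSt.AlgFp

/-!
# Gerbes and quasi-compactness
-/

set_option autoImplicit false
set_option backward.isDefEq.respectTransparency false
set_option backward.isDefEq.respectTransparency.types false

universe u

open CategoryTheory CategoryTheory.Functor Opposite AlgebraicGeometry CategoryTheory.Limits

noncomputable section

namespace Groth.Agent.H14Gerbe

open H14Fib H14Stk H14AlgSt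

variable {S : Scheme.{u}} {𝒳 𝒴 : AlgSt.Cat S} {f : 𝒳 ⥤ᵇ 𝒴}

local notation "K₀" => Scheme.fppfPrecoverage

/-- A gerbe is quasi-compact. -/
theorem qc_of_gerbe (h𝒳 : AlgSt.IsAlgStack K₀ 𝒳) (h𝒴 : AlgSt.IsAlgStack K₀ 𝒴)
    (hf : Gerb.IsGerbeOver (QuotSh.J K₀ S) f) : AlgSt.IsQuasiCompactMor K₀ f := by
  intro 𝒲 hW hWc g
  refine isQuasiCompact_of_compactSpace (isAlgStack_fp' hW h𝒳 h𝒴 g f) ?_
  have := compactSpace_points hW hWc
  exact (univHomeo_gerbe h𝒳 h𝒴 hf 𝒲 hW g).homeomorph.symm.compactSpace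

/-- Vertical morphisms of the base are identities. -/
lemma self_hom_eq {U a b : Over S} (m : (a : (FibCat.selfOver (Over S)).obj) ⟶ b)
    (h : (FibCat.selfOver (Over S)).p.IsHomLift (𝟙 U) m) :
    ∃ e : a = b, m = eqToHom e := by
  have ha : a = U := IsHomLift.domain_eq (FibCat.selfOver (Over S)).p (𝟙 U) m
  have hb : b = U := IsHomLift.codomain_eq (FibCat.selfOver (Over S)).p (𝟙 U) m
  subst ha hb
  exact ⟨rfl, (IsHomLift.fac' (FibCat.selfOver (Over S)).p (𝟙 b) m).trans (by simp; rfl)⟩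

variable (f) in
/-- The product of a functor with itself. -/
def prodMap : FibCat.fp (FibCat.toSelf 𝒳) (FibCat.toSelf 𝒳) ⥤ᵇ
    FibCat.fp (FibCat.toSelf 𝒴) (FibCat.toSelf 𝒴) :=
  fpMap (F := FibCat.toSelf 𝒴) (G := FibCat.toSelf 𝒴) (F' := FibCat.toSelf 𝒳)
    (G' := FibCat.toSelf 𝒳) f f (BasedFunctor.id _) (eqToIso (comp_toSelf f).symm)
    (eqToIso (comp_toSelf f).symm)

variable (f) in
/-- The diagonal commutes with the product map. -/
lemma exists_diag_prodMap : Nonempty (BasedFunctor.comp f (FibCat.diag (FibCat.toSelf 𝒴)) ≅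
    BasedFunctor.comp (FibCat.diag (FibCat.toSelf 𝒳)) (prodMap f)) := by
  refine ⟨mkIso (fun a => fpIsoMk (Iso.refl _) (Iso.refl _) ?_)
    (fun {_ _} m => fp_hom_ext ((Category.comp_id _).trans (Category.id_comp _).symm)
      ((Category.comp_id _).trans (Category.id_comp _).symm))
    (fun a => (fp_isHomLift_iff _ _).2 (IsHomLift.id (f.w_obj a)))⟩
  obtain ⟨_, h1⟩ := self_hom_eq _ ((BasedFunctor.comp f (FibCat.diag (FibCat.toSelf 𝒴))).obj a).property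
  obtain ⟨_, h2⟩ := self_hom_eq _
    ((BasedFunctor.comp (FibCat.diag (FibCat.toSelf 𝒳)) (prodMap f)).obj a).property
  change 𝒴.p.map (𝟙 (f.obj a)) ≫
      ((BasedFunctor.comp (FibCat.diag (FibCat.toSelf 𝒳)) (prodMap f)).obj a).obj.iso.hom =
    ((BasedFunctor.comp f (FibCat.diag (FibCat.toSelf 𝒴))).obj a).obj.iso.hom ≫ 𝒴.p.map (𝟙 (f.obj a))
  rw [h1, h2]
  simp
  exact (𝒴.p.map_id _).symm

/-- The product of a gerbe with itself is a gerbe. -/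
lemma isGerbeOver_prodMap (h𝒳 : FibCat.IsFibGrpd 𝒳.p) (hf : Gerb.IsGerbeOver (QuotSh.J K₀ S) f) :
    Gerb.IsGerbeOver (QuotSh.J K₀ S) (prodMap f) := by
  constructor
  · intro q
    refine (Locally.and (locObj_at hf.1 q.obj.fst (U := 𝒴.p.obj q.obj.fst) rfl)
      (locObj_at hf.1 q.obj.snd (fp_snd_obj q))).mono ?_
    rintro V k ⟨⟨a, g, hg⟩, ⟨b, g', hg'⟩⟩
    have ha : 𝒳.p.obj a = V := obj_over_of_lift (f := k) g
    have hb : 𝒳.p.obj b = V := obj_over_of_lift (f := k) g'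
    let o : (FibCat.fp (FibCat.toSelf 𝒳) (FibCat.toSelf 𝒳)).obj :=
      fpObj a b (eqToIso (ha.trans hb.symm)) ha
        (IsHomLift.of_fac' _ _ _ ha hb (by subst ha; simp; rfl))
    refine ⟨o, fpHom g g' ?_, (fp_isHomLift_iff _ _).2 hg⟩
    obtain ⟨_, h1⟩ := self_hom_eq _ q.property
    obtain ⟨_, h2⟩ := self_hom_eq _ ((prodMap f).obj o).property
    change 𝒴.p.map g ≫ q.obj.iso.hom = ((prodMap f).obj o).obj.iso.hom ≫ 𝒴.p.map g'
    rw [h1, h2, IsHomLift.fac' 𝒴.p k g, IsHomLift.fac' 𝒴.p k g']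
    simp
  · intro z z' β hβ
    have h1 : 𝒴.p.IsHomLift (𝟙 (𝒳.p.obj z.obj.fst)) β.hom.fst := (fp_isHomLift_iff _ _).1 hβ
    have h2 : 𝒴.p.IsHomLift (𝟙 (𝒳.p.obj z.obj.fst)) β.hom.snd := 
      haveI : (FibCat.fp (FibCat.toSelf 𝒴) (FibCat.toSelf 𝒴)).p.IsHomLift (𝟙 (𝒳.p.obj z.obj.fst)) β := hβ
      fp_isHomLift_snd' _ β
    refine (Locally.and (locHom_at hf.2 β.hom.fst (U := 𝒳.p.obj z.obj.fst) rfl)
      (locHom_at hf.2 β.hom.snd (fp_snd_obj z))).mono ?_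
    rintro V k ⟨⟨a, φ, ψ, hφ, hψ, e⟩, ⟨b, φ', ψ', hφ', hψ', e'⟩⟩
    have ha : 𝒳.p.obj a = V := IsHomLift.domain_eq 𝒳.p k φ
    have hb : 𝒳.p.obj b = V := IsHomLift.domain_eq 𝒳.p k φ'
    let o : (FibCat.fp (FibCat.toSelf 𝒳) (FibCat.toSelf 𝒳)).obj :=
      fpObj a b (eqToIso (ha.trans hb.symm)) ha
        (IsHomLift.of_fac' _ _ _ ha hb (by subst ha; simp; rfl))
    refine ⟨o, fpHom φ φ' ?_, fpHom ψ ψ' ?_, (fp_isHomLift_iff _ _).2 hφ,
      (fp_isHomLift_iff _ _).2 hψ, fp_hom_ext e e'⟩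
    · obtain ⟨_, h1⟩ := self_hom_eq _ z.property
      change 𝒳.p.map φ ≫ z.obj.iso.hom = eqToHom (ha.trans hb.symm) ≫ 𝒳.p.map φ'
      rw [h1, IsHomLift.fac' 𝒳.p k φ, IsHomLift.fac' 𝒳.p k φ']
      simp
    · obtain ⟨_, h1⟩ := self_hom_eq _ z'.property
      change 𝒳.p.map ψ ≫ z'.obj.iso.hom = eqToHom (ha.trans hb.symm) ≫ 𝒳.p.map ψ'
      rw [h1, IsHomLift.fac' 𝒳.p k ψ, IsHomLift.fac' 𝒳.p k ψ']
      simp

end Groth.Agent.H14Gerbe
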