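import Groth.Agent.H14AlgSt.MonoPoint
import Groth.Agent.H14AlgSt.SetoidSpace
import Groth.Agent.H14AlgSt.FieldPoint
import Groth.Prelude.Def_StGerb

/-!
# Residual gerbes and field-valued points
-/

set_option autoImplicit false
set_option backward.isDefEq.respectTransparency false
set_option backward.isDefEq.respectTransparency.types false

universe u

open CategoryTheory CategoryTheory.Functor Opposite AlgebraicGeometry CategoryTheory.Limits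

noncomputable section

namespace Groth.Agent.H14Gerbe

open H14Fib H14Stk H14AlgSt

variable {S : Scheme.{u}} {𝒳 𝒴 : AlgSt.Cat S}

local notation "K₀" => Scheme.fppfPrecoverage

lemma isMono_of_fully_faithful (hX : AlgSt.IsAlgStack K₀ 𝒳) (hY : AlgSt.IsAlgStack K₀ 𝒴)
    (f : 𝒳 ⥤ᵇ 𝒴) [f.toFunctor.Full] [f.toFunctor.Faithful] : AlgSt.IsMono f :=
  isMono_of_ff (repByAlgSp1_of_faithful hX hY)

lemma isMono_subIncl (hX : AlgSt.IsAlgStack K₀ 𝒳) {Q : 𝒳.obj → Prop}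
    (hQ : AlgSt.IsAlgStack K₀ (AlgSt.fullSub 𝒳 Q)) : AlgSt.IsMono (AlgSt.subIncl 𝒳 Q) := by
  have : (AlgSt.subIncl 𝒳 Q).toFunctor.Full :=
    inferInstanceAs (ObjectProperty.ι (P := Q)).Full
  have : (AlgSt.subIncl 𝒳 Q).toFunctor.Faithful :=
    inferInstanceAs (ObjectProperty.ι (P := Q)).Faithful
  exact isMono_of_fully_faithful hQ hX _

/-- A morphism between stacks with a nice field point factors through a monomorphism. -/
lemma exists_factor_of_mono {𝒵 𝒲 : AlgSt.Cat S} (hZ : AlgSt.IsAlgStack K₀ 𝒵)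
    (hW : AlgSt.IsAlgStack K₀ 𝒲) (hY : AlgSt.IsAlgStack K₀ 𝒴) (i : 𝒵 ⥤ᵇ 𝒴) (j : 𝒲 ⥤ᵇ 𝒴)
    [j.toFunctor.Full] [j.toFunctor.Faithful]
    {k : Type u} [Field k] {a : Spec (CommRingCat.of k) ⟶ S}
    {z : FibCat.overCat (Over.mk a) ⥤ᵇ 𝒵}
    (hzp : AlgSt.RepByAlgSpWith (AlgSp.LocP @LocallyOfFinitePresentation) z)
    (hzs : AlgSt.RepByAlgSpWith AlgSp.IsSurjectiveMor z)
    (hzf : AlgSt.RepByAlgSpWith (AlgSp.LocP @Flat) z)
    (p : AlgSt.Points 𝒵) (hp : AlgSt.Points.map i p ∈ Set.range (AlgSt.Points.map j)) :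
    ∃ g : 𝒵 ⥤ᵇ 𝒲, Nonempty (BasedFunctor.comp g j ≅ i) := by
  have hP := isAlgStack_fp' hZ hW hY i j
  obtain ⟨h1, h2⟩ := full_faithful_fpFst i j
  have hm : AlgSt.IsMono (FibCat.fpFst i j) := isMono_of_fully_faithful hP hZ _
  obtain ⟨q, hq⟩ := hp
  obtain ⟨w, -, -⟩ := exists_points_fp hZ.isStack.1 hW.isStack.1 hY.isStack.1
    (F := i) (G := j) hq.symm
  obtain ⟨E, ⟨c⟩, ⟨d⟩⟩ := isEquivOver_of_mono_of_field_point hP hZ hm hzp hzs hzf w
  exact ⟨BasedFunctor.comp E (FibCat.fpSnd i j), ⟨(Stk.restr E 𝒴).mapIso (FibCat.fpIso i j).symm ≪≫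
    (post 𝒵 i).mapIso d⟩⟩

end Groth.Agent.H14Gerbe
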