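import Groth.Agent.H14AlgSt.FppfImage
import Groth.Agent.H14Gerbe.ResPoint
import Groth.Agent.H14Gerbe.Singleton
import Groth.Agent.H14AlgSt.ReducedSub

/-!
# The substack with an fppf field point inside a stack with a flat surjective field point
-/

set_option autoImplicit false
set_option backward.isDefEq.respectTransparency false
set_option backward.isDefEq.respectTransparency.types false

universe u

open CategoryTheory CategoryTheory.Functor Opposite AlgebraicGeometry CategoryTheory.Limits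

noncomputable section

namespace Groth.Agent.H14Gerbe

open H14Fib H14Stk H14AlgSt

variable {S : Scheme.{u}} {𝒳 𝒵 : AlgSt.Cat S}

local notation "K₀" => Scheme.fppfPrecoverage

/-- The self fibre product of a flat point of finite type over a field is flat and locally of
finite presentation over it. -/
lemma repWith_fpFst_field (hZ : AlgSt.IsAlgStack K₀ 𝒵) {k : Type u} [Field k]
    {a : Spec (CommRingCat.of k) ⟶ S} {z : FibCat.overCat (Over.mk a) ⥤ᵇ 𝒵}
    (hz : AlgSt.RepByAlgSpWith (AlgSp.LocP @LocallyOfFiniteType) z)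
    (hzf : AlgSt.RepByAlgSpWith (AlgSp.LocP @Flat) z) (P : MorphismProperty Scheme.{u})
    (hP : P = @Flat ∨ P = @LocallyOfFinitePresentation) :
    AlgSt.RepByAlgSpWith (AlgSp.LocP P) (FibCat.fpFst z z) := by
  rcases hP with rfl | rfl
  · exact repWith_fpFst z hzf
  · have hT := isAlgStack_overCat (Over.mk a : Over S)
    have hR := isAlgStack_fp' hT hT hZ z z
    have hn : AlgSt.SmoothLocally (fun T => IsLocallyNoetherian T)
        (FibCat.overCat (Over.mk a : Over S)) := by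
      intro V y hy
      obtain ⟨h, ⟨i⟩⟩ := exists_overMap_iso y
      have : Smooth h.left := smooth_of_repWith_overMap h (repWith_of_iso i hy)
      have : IsLocallyNoetherian (Over.mk a : Over S).left :=
        inferInstanceAs (IsLocallyNoetherian (Spec (CommRingCat.of k)))
      exact LocallyOfFiniteType.isLocallyNoetherian h.left
    exact repWith_of_locQ smLocal_lfp (baseStable_locP H12AlgSp.etLocal_lfp)
      (localFppf_of_fpqc (S10527.result S)) hR hT (repByAlgSp1_of_with (repWith_fpFst z hz))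
      (locQ_lfp_of_lft_of_noetherian hR hT hn (locQ_of_repWith smLocal_lft hR hT (repWith_fpFst z hz)))

/-- A stack with a flat surjective field point has a substack with an fppf field point. -/
theorem exists_fppf_field_substack (hZ : AlgSt.IsAlgStack K₀ 𝒵) {k : Type u} [Field k]
    {a : Spec (CommRingCat.of k) ⟶ S} {z : FibCat.overCat (Over.mk a) ⥤ᵇ 𝒵}
    (hzs : AlgSt.RepByAlgSpWith AlgSp.IsSurjectiveMor z)
    (hzf : AlgSt.RepByAlgSpWith (AlgSp.LocP @Flat) z) :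
    ∃ Q : 𝒵.obj → Prop, ObjectProperty.IsClosedUnderIsomorphisms Q ∧
      AlgSt.IsAlgStack K₀ (AlgSt.fullSub 𝒵 Q) ∧
        (∃ (k' : Type u) (_ : Field k') (a' : Spec (CommRingCat.of k') ⟶ S)
          (z' : FibCat.overCat (Over.mk a') ⥤ᵇ AlgSt.fullSub 𝒵 Q),
          AlgSt.RepByAlgSpWith (AlgSp.LocP @LocallyOfFinitePresentation) z' ∧
            AlgSt.RepByAlgSpWith AlgSp.IsSurjectiveMor z' ∧
            AlgSt.RepByAlgSpWith (AlgSp.LocP @Flat) z') ∧
        AlgSt.IsMono (AlgSt.subIncl 𝒵 Q) := by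
  obtain ⟨hne, -⟩ := subsingleton_points_of_field_point hZ.isStack.1 hzs
  obtain ⟨k₁, _, a₁, z₁, hz₁⟩ := exists_lft_field_point hZ hne
  have hf₁ := flat_of_field_point hZ hzs hzf z₁
  obtain ⟨hA, hm, hf, hp, hs⟩ := exists_fppf_image z₁ (repWith_fpFst_field hZ hz₁ hf₁) hZ
  exact ⟨imgPred z₁, imgPred_closed z₁ hZ.isStack.1, hA,
    ⟨k₁, inferInstance, a₁, toImg z₁, hp, hs, hf⟩, hm⟩

/-- A substack with an fppf field point is contained in every other one through the same point. -/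
lemma le_of_field_point (hX : AlgSt.IsAlgStack K₀ 𝒳) {Q Q' : 𝒳.obj → Prop}
    (hc : ObjectProperty.IsClosedUnderIsomorphisms Q)
    (hQ : AlgSt.IsAlgStack K₀ (AlgSt.fullSub 𝒳 Q)) (hQ' : AlgSt.IsAlgStack K₀ (AlgSt.fullSub 𝒳 Q'))
    {k : Type u} [Field k] {a : Spec (CommRingCat.of k) ⟶ S}
    {z : FibCat.overCat (Over.mk a) ⥤ᵇ AlgSt.fullSub 𝒳 Q'}
    (hzp : AlgSt.RepByAlgSpWith (AlgSp.LocP @LocallyOfFinitePresentation) z)
    (hzs : AlgSt.RepByAlgSpWith AlgSp.IsSurjectiveMor z)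
    (hzf : AlgSt.RepByAlgSpWith (AlgSp.LocP @Flat) z)
    (p : AlgSt.Points (AlgSt.fullSub 𝒳 Q'))
    (hp : AlgSt.Points.map (AlgSt.subIncl 𝒳 Q') p ∈ Set.range (AlgSt.Points.map (AlgSt.subIncl 𝒳 Q)))
    {ξ : 𝒳.obj} (h : Q' ξ) : Q ξ := by
  have : (AlgSt.subIncl 𝒳 Q).toFunctor.Full := inferInstanceAs (ObjectProperty.ι (P := Q)).Full
  have : (AlgSt.subIncl 𝒳 Q).toFunctor.Faithful :=
    inferInstanceAs (ObjectProperty.ι (P := Q)).Faithful
  obtain ⟨g, ⟨e⟩⟩ := exists_factor_of_mono hQ' hQ hX (AlgSt.subIncl 𝒳 Q') (AlgSt.subIncl 𝒳 Q)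
    hzp hzs hzf p hp
  exact hc.of_iso (isoApp e ⟨ξ, h⟩) (g.obj ⟨ξ, h⟩).property

/-- A residual gerbe has an fppf field point. -/
lemma field_point_of_isResGerbe {x : AlgSt.Points 𝒳} {Q : 𝒳.obj → Prop}
    (hQ : Gerb.IsResGerbe K₀ 𝒳 x Q) :
    ∃ (k : Type u) (_ : Field k) (a : Spec (CommRingCat.of k) ⟶ S)
      (z : FibCat.overCat (Over.mk a) ⥤ᵇ AlgSt.fullSub 𝒳 Q),
      AlgSt.RepByAlgSpWith (AlgSp.LocP @LocallyOfFinitePresentation) z ∧
        AlgSt.RepByAlgSpWith AlgSp.IsSurjectiveMor z ∧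
        AlgSt.RepByAlgSpWith (AlgSp.LocP @Flat) z := by
  obtain ⟨-, hA, hr, hn, hne, hsub, -⟩ := hQ
  obtain ⟨k₀, _, a₀, z₀, hz₀⟩ := exists_flat_field_point hA hr hne
  obtain ⟨k, hk, a, z, hz⟩ := exists_lft_field_point hA hne
  exact ⟨k, hk, a, z, lfp_of_lft_of_noetherian hA hn hz, surjective_of_subsingleton_points hA hsub z,
    flat_of_field_point hA (surjective_of_subsingleton_points hA hsub z₀) hz₀ z⟩

/-- Residual gerbes at one point agree. -/
lemma isResGerbe_unique (hX : AlgSt.IsAlgStack K₀ 𝒳) {x : AlgSt.Points 𝒳} {Q Q' : 𝒳.obj → Prop}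
    (hQ : Gerb.IsResGerbe K₀ 𝒳 x Q) (hQ' : Gerb.IsResGerbe K₀ 𝒳 x Q') (ξ : 𝒳.obj) :
    Q' ξ ↔ Q ξ := by
  have key : ∀ {R R' : 𝒳.obj → Prop}, Gerb.IsResGerbe K₀ 𝒳 x R → Gerb.IsResGerbe K₀ 𝒳 x R' →
      R' ξ → R ξ := fun {R R'} hR hR' h => by
    obtain ⟨k, _, a, z, hp, hs, hf⟩ := field_point_of_isResGerbe hR'
    obtain ⟨hc, hA, -, -, ⟨q⟩, -, hx⟩ := hR
    obtain ⟨-, hA', -, -, ⟨p⟩, -, hx'⟩ := hR'
    exact le_of_field_point hX hc hA hA' hp hs hf p ⟨q, (hx q).trans (hx' p).symm⟩ h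
  exact ⟨key hQ hQ', key hQ' hQ⟩

end Groth.Agent.H14Gerbe
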