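import Groth.Agent.H14Gerbe.Coarse
import Groth.Agent.H14Stk.SetoidPsh
import Groth.Agent.H14AlgSt.LocQ4

/-!
# Gerbes over algebraic spaces and the inertia
-/

set_option autoImplicit false
set_option backward.isDefEq.respectTransparency false
set_option backward.isDefEq.respectTransparency.types false

universe u

open CategoryTheory CategoryTheory.Functor Opposite AlgebraicGeometry CategoryTheory.Limits

noncomputable section

namespace Groth.Agent.H14Gerbe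

open H14Fib H14Stk H14AlgSt

variable {S : Scheme.{u}} {𝒳 : AlgSt.Cat S}

local notation "K₀" => Scheme.fppfPrecoverage
local notation "LP" => AlgSp.LocP

/-- The sheaf of isomorphism classes. -/
def isoSheaf (h : FibCat.IsFibGrpd 𝒳.p) : AlgSp.Sp S :=
  (presheafToSheaf (AlgSp.J S) (Type (u + 1))).obj (classPsh h)

/-- The map to the sheaf of classes. -/
def isoSheafUnit (h : FibCat.IsFibGrpd 𝒳.p) : classPsh h ⟶ (isoSheaf h).obj :=
  toSheafify (AlgSp.J S) (classPsh h)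

/-- The functor to the sheaf of classes. -/
def toIsoSheaf (h : FibCat.IsFibGrpd 𝒳.p) : 𝒳 ⥤ᵇ AlgSt.ofSp (isoSheaf h) :=
  BasedFunctor.comp (classFun h) (Stk.ofPshMap (isoSheafUnit h))

/-- A stack is locally a gerbe over its sheaf of classes. -/
theorem isGerbeOver_toIsoSheaf (h : FibCat.IsFibGrpd 𝒳.p) :
    Gerb.IsGerbeOver (QuotSh.J K₀ S) (toIsoSheaf h) := by
  constructor
  · intro y
    let o : Stk.EltObj (isoSheaf h).obj := y
    refine ⟨Presheaf.imageSieve (isoSheafUnit h) o.sec,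
      Presheaf.imageSieve_mem (AlgSp.J S) (toSheafify (AlgSp.J S) (classPsh h)) o.sec, ?_⟩
    rintro V f ⟨cl, hcl⟩
    obtain ⟨a, ha, rfl⟩ := clMk_surj (𝒳 := 𝒳) (U := V) cl
    subst ha
    let g : (toIsoSheaf h).obj a ⟶ y := ⟨f, hcl.symm⟩
    exact ⟨a, g, IsHomLift.map (AlgSt.ofSp (isoSheaf h)).p g⟩
  · intro x x' b hb
    have hx : 𝒳.p.obj x' = 𝒳.p.obj x := IsHomLift.codomain_eq (AlgSt.ofSp (isoSheaf h)).p (𝟙 (𝒳.p.obj x)) b
    have hb1 : b.hom = eqToHom hx.symm := by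
      exact (IsHomLift.fac' (AlgSt.ofSp (isoSheaf h)).p (𝟙 (𝒳.p.obj x)) b).trans (by simp)
    let d : (classPsh h).obj (op (𝒳.p.obj x)) := clMk x' hx
    let d₀ : (classPsh h).obj (op (𝒳.p.obj x)) := clMk x rfl
    have e : (isoSheafUnit h).app _ d = (isoSheafUnit h).app _ (clMk x rfl) := by
      have hm := b.map_sec
      rw [hb1] at hm
      refine Eq.trans ?_ hm
      have h2 : (classPsh h).map (eqToHom hx.symm).op (clMk x' rfl) = d := by
        have : 𝒳.p.IsHomLift (eqToHom hx.symm) (𝟙 x') := IsHomLift.of_fac' _ _ _ hx rfl (by simp)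
        exact clMap_of_lift h (eqToHom hx.symm) (𝟙 x') rfl hx
      rw [← h2]
      exact ConcreteCategory.congr_hom ((isoSheafUnit h).naturality (eqToHom hx.symm).op) _
    refine ⟨Presheaf.equalizerSieve d d₀,
      Presheaf.equalizerSieve_mem (AlgSp.J S) (toSheafify (AlgSp.J S) (classPsh h)) _ _ e, ?_⟩
    intro V f hf
    have h1 := liftHom_lift h f x rfl
    have h2 := liftHom_lift h f x' hx
    have hf' : clMap h f (clMk x' hx) = clMap h f (clMk x rfl) := hf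
    rw [clMap_of_lift h f (liftHom h f x' hx) hx (liftObj_obj h f x' hx),
      clMap_of_lift h f (liftHom h f x rfl) rfl (liftObj_obj h f x rfl)] at hf'
    obtain ⟨i, hi⟩ := exists_iso_of_clMk_eq hf'
    have hinv := IsHomLift.lift_id_inv 𝒳.p V i
    let φ : liftObj h f x rfl ⟶ x := liftHom h f x rfl
    let ψ : liftObj h f x rfl ⟶ x' := i.inv ≫ liftHom h f x' hx
    have hψ : 𝒳.p.IsHomLift f ψ :=
      IsHomLift.comp_lift_id_left' 𝒳.p V i.inv f (liftHom h f x' hx)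
    refine ⟨_, φ, ψ, h1, hψ, ?_⟩
    apply Stk.EltObj.hom_ext
    change 𝒳.p.map φ ≫ b.hom = 𝒳.p.map ψ
    rw [hb1, IsHomLift.fac' 𝒳.p f φ, IsHomLift.fac' 𝒳.p f ψ]
    simp

/-- Relative inertia over a category of elements is the absolute inertia. -/
lemma exists_inertia_equiv {F : AlgSp.Sp S} (π : 𝒳 ⥤ᵇ AlgSt.ofSp F) :
    ∃ J : FibCat.inertia π ⥤ᵇ FibCat.inertia (FibCat.toSelf 𝒳), FibCat.IsEquivOver J ∧
      BasedFunctor.comp J (FibCat.inertiaToBase (FibCat.toSelf 𝒳)) = FibCat.inertiaToBase π := by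
  have key : ∀ {a : 𝒳.obj} (α : a ⟶ a), π.map α = 𝟙 (π.obj a) ↔ 𝒳.p.map α = 𝟙 (𝒳.p.obj a) := by
    intro a α
    have e : (π.map α).hom = eqToHom (π.w_obj a) ≫ 𝒳.p.map α ≫ eqToHom (π.w_obj a).symm :=
      map_hom_eq π α
    constructor
    · intro h
      have h2 : (AlgSt.ofSp F).p.IsHomLift (𝟙 (𝒳.p.obj a)) (π.map α) := by
        rw [h]
        exact IsHomLift.id (π.w_obj a)
      have h3 := (BasedFunctor.isHomLift_iff π (𝟙 (𝒳.p.obj a)) α).1 h2
      simpa using IsHomLift.fac' 𝒳.p (𝟙 (𝒳.p.obj a)) α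
    · intro h
      have h1 : 𝒳.p.IsHomLift (𝟙 (𝒳.p.obj a)) α := IsHomLift.of_fac' _ _ _ rfl rfl (by simp [h])
      have h2 : (AlgSt.ofSp F).p.IsHomLift (𝟙 (𝒳.p.obj a)) (π.map α) :=
        BasedFunctor.preserves_isHomLift π _ _
      apply Stk.EltObj.hom_ext
      exact (IsHomLift.fac' (AlgSt.ofSp F).p (𝟙 (𝒳.p.obj a)) (π.map α)).trans (by simp)
  let J : FibCat.inertia π ⥤ᵇ FibCat.inertia (FibCat.toSelf 𝒳) :=
    { toFunctor :=
        { obj := fun a => ⟨a.pt, a.aut, (key a.aut.hom).1 a.map_aut⟩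
          map := fun m => ⟨m.hom, m.comm⟩
          map_id := fun a => FibCat.InertiaObj.hom_ext rfl
          map_comp := fun f g => FibCat.InertiaObj.hom_ext rfl }
      w := rfl }
  refine ⟨J, (isEquivOver_iff _).2 ⟨⟨⟨fun {a b} m => ⟨⟨m.hom, m.comm⟩, rfl⟩⟩,
    ⟨fun {a b} m n h => FibCat.InertiaObj.hom_ext (congrArg (fun t => t.hom) h)⟩⟩,
    fun z => ⟨⟨z.pt, z.aut, (key z.aut.hom).2 z.map_aut⟩, Iso.refl _, IsHomLift.id rfl⟩⟩, rfl⟩

/-- A gerbe over a space has flat and finitely presented inertia. -/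
theorem repWith_inertia_of_gerbe (h𝒳 : AlgSt.IsAlgStack K₀ 𝒳) (X : AlgSp.Space S)
    (π : 𝒳 ⥤ᵇ AlgSt.ofSp X.obj) (hπ : Gerb.IsGerbeOver (QuotSh.J K₀ S) π) :
    AlgSt.RepByAlgSpWith (LP @Flat) (FibCat.inertiaToBase (FibCat.toSelf 𝒳)) ∧
      AlgSt.RepByAlgSpWith (LP @LocallyOfFinitePresentation)
        (FibCat.inertiaToBase (FibCat.toSelf 𝒳)) := by
  obtain ⟨J, hJ, e⟩ := exists_inertia_equiv π
  have h : ∀ {P : MorphismProperty (AlgSp.Sp S)}, AlgSt.RepByAlgSpWith P (FibCat.diag π) →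
      AlgSt.RepByAlgSpWith P (FibCat.inertiaToBase (FibCat.toSelf 𝒳)) := fun hP => by
    refine (repWith_equiv_comp_iff hJ).2 ?_
    rw [e]
    exact (repWith_inertiaToBase_iff h𝒳.isStack.1 π).2 (repWith_fpFst _ hP)
  exact ⟨h (flat_diag_gerbe h𝒳 (isAlgStack_ofSp X) hπ), h (lfp_diag_gerbe h𝒳 (isAlgStack_ofSp X) hπ)⟩

lemma isAlgStack_inertia (h𝒳 : AlgSt.IsAlgStack K₀ 𝒳) :
    AlgSt.IsAlgStack K₀ (FibCat.inertia (FibCat.toSelf 𝒳)) :=
  (isAlgStack_iff K₀ (inertiaPair_isEquivOver h𝒳.isStack.1 _)).2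
    (isAlgStack_fp' h𝒳 h𝒳 (isAlgStack_prod K₀ h𝒳 h𝒳) _ _)

lemma rep1_inertia (h𝒳 : AlgSt.IsAlgStack K₀ 𝒳) :
    AlgSt.RepByAlgSp1 (FibCat.inertiaToBase (FibCat.toSelf 𝒳)) :=
  repByAlgSp1_of_with ((repWith_inertiaToBase_iff h𝒳.isStack.1 _).2
    (repWith_fpFst _ (with_top_of_repByAlgSp1 h𝒳.diag)))

/-- An algebraic stack is a gerbe iff its inertia is flat and locally of finite presentation. -/
theorem isAlgGerbe_iff (h𝒳 : AlgSt.IsAlgStack K₀ 𝒳) :
    Gerb.IsAlgGerbe K₀ 𝒳 ↔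
      AlgSt.LocQ (LP @Flat) (FibCat.inertiaToBase (FibCat.toSelf 𝒳)) ∧
        AlgSt.LocQ (LP @LocallyOfFinitePresentation) (FibCat.inertiaToBase (FibCat.toSelf 𝒳)) := by
  have hI := isAlgStack_inertia h𝒳
  constructor
  · rintro ⟨X, π, hπ⟩
    obtain ⟨h1, h2⟩ := repWith_inertia_of_gerbe h𝒳 X π hπ
    exact ⟨locQ_of_repWith smLocal_flat hI h𝒳 h1, locQ_of_repWith smLocal_lfp hI h𝒳 h2⟩
  · rintro ⟨h1, h2⟩
    have hr := rep1_inertia h𝒳
    exact ⟨⟨_, isAlgSpace_below_gerbe h𝒳 _ (isGerbeOver_toIsoSheaf h𝒳.isStack.1)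
      (repWith_of_locQ smLocal_flat (baseStable_locP H12AlgSp.etLocal_flat)
        (localFppf_of_fpqc (S10530.result S)) hI h𝒳 hr h1)
      (repWith_of_locQ smLocal_lfp (baseStable_locP H12AlgSp.etLocal_lfp)
        (localFppf_of_fpqc (S10527.result S)) hI h𝒳 hr h2)⟩,
      toIsoSheaf h𝒳.isStack.1, isGerbeOver_toIsoSheaf h𝒳.isStack.1⟩

end Groth.Agent.H14Gerbe
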