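import Groth.Agent.H14Gerbe.GenericFlat
import Groth.Agent.H14Gerbe.AlgGerbe
import Groth.Agent.H14AlgSt.SubstackGen
import Groth.Agent.H14AlgSt.LargestSmooth

/-!
# A reduced algebraic stack with quasi-compact inertia is generically a gerbe
-/

set_option autoImplicit false
set_option backward.isDefEq.respectTransparency false
set_option backward.isDefEq.respectTransparency.types false

universe u

open CategoryTheory CategoryTheory.Functor Opposite AlgebraicGeometry CategoryTheory.Limits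
open TopologicalSpace

noncomputable section

namespace Groth.Agent.H14Gerbe

open H14Fib H14Stk H14AlgSt

variable {S : Scheme.{u}} {𝒳 : AlgSt.Cat S} {Q : 𝒳.obj → Prop}

local notation "K₀" => Scheme.fppfPrecoverage

local notation "LP" => AlgSp.LocP

/-- The inertia of a full substack as the restriction of the inertia. -/
def subInertia (Q : 𝒳.obj → Prop) :
    FibCat.inertia (FibCat.toSelf (AlgSt.fullSub 𝒳 Q)) ⥤ᵇ
      FibCat.fp (AlgSt.subIncl 𝒳 Q) (FibCat.inertiaToBase (FibCat.toSelf 𝒳)) :=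
  FibCat.fpLift (FibCat.inertiaToBase (FibCat.toSelf (AlgSt.fullSub 𝒳 Q)))
    { toFunctor :=
        { obj := fun a => ⟨a.pt.obj, (AlgSt.subIncl 𝒳 Q).toFunctor.mapIso a.aut, a.map_aut⟩
          map := fun m => ⟨m.hom.hom, by
            have h := m.comm
            exact congrArg (fun t => t.hom) h⟩
          map_id := fun a => FibCat.InertiaObj.hom_ext rfl
          map_comp := fun f g => FibCat.InertiaObj.hom_ext rfl }
      w := rfl }
    (Iso.refl _)

lemma subInertia_isEquivOver (hh : ∀ {a b : 𝒳.obj}, (b ⟶ a) → Q a → Q b) :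
    FibCat.IsEquivOver (subInertia Q) := by
  refine (isEquivOver_iff _).2 ⟨⟨⟨fun {a b} m => ?_⟩, ⟨fun {a b} m n h => ?_⟩⟩, fun z => ?_⟩
  · have hw := m.hom.w
    change m.hom.fst.hom ≫ 𝟙 _ = 𝟙 _ ≫ m.hom.snd.hom at hw
    rw [Category.comp_id, Category.id_comp] at hw
    refine ⟨⟨m.hom.fst, ObjectProperty.hom_ext _ ?_⟩, fp_hom_ext rfl (FibCat.InertiaObj.hom_ext hw)⟩
    change a.aut.hom.hom ≫ m.hom.fst.hom = m.hom.fst.hom ≫ b.aut.hom.hom
    rw [hw]
    exact m.hom.snd.comm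
  · exact FibCat.InertiaObj.hom_ext (congrArg (fun t => t.hom.fst) h)
  · let p : (AlgSt.fullSub 𝒳 Q).obj := ⟨z.obj.snd.pt, hh z.obj.iso.inv z.obj.fst.property⟩
    let a : (FibCat.inertia (FibCat.toSelf (AlgSt.fullSub 𝒳 Q))).obj :=
      ⟨p, ObjectProperty.isoMk _ z.obj.snd.aut, z.obj.snd.map_aut⟩
    let e₁ : p ≅ z.obj.fst := ObjectProperty.isoMk _ z.obj.iso.symm
    let e₂ : (⟨z.obj.snd.pt, (AlgSt.subIncl 𝒳 Q).toFunctor.mapIso a.aut, a.map_aut⟩ :
        (FibCat.inertia (FibCat.toSelf 𝒳)).obj) ≅ z.obj.snd :=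
      { hom := ⟨𝟙 _, (Category.comp_id _).trans (Category.id_comp _).symm⟩
        inv := ⟨𝟙 _, (Category.comp_id _).trans (Category.id_comp _).symm⟩
        hom_inv_id := FibCat.InertiaObj.hom_ext (Category.id_comp _)
        inv_hom_id := FibCat.InertiaObj.hom_ext (Category.id_comp _) }
    refine ⟨a, fpIsoMk e₁ e₂ ?_, ?_⟩
    · change z.obj.iso.inv ≫ z.obj.iso.hom = 𝟙 _ ≫ 𝟙 _
      rw [Iso.inv_hom_id, Category.comp_id]
    · rw [fp_isHomLift_iff]
      refine (BasedFunctor.isHomLift_iff (AlgSt.subIncl 𝒳 Q) _ _).1 ?_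
      have h : 𝒳.p.IsHomLift (𝟙 ((FibCat.fp (AlgSt.subIncl 𝒳 Q)
          (FibCat.inertiaToBase (FibCat.toSelf 𝒳))).p.obj z)) z.obj.iso.hom := z.property
      exact IsHomLift.lift_id_inv 𝒳.p _ z.obj.iso

/-- A reduced algebraic stack with quasi-compact inertia has a dense open gerbe. -/
theorem exists_dense_gerbe (h𝒳 : AlgSt.IsAlgStack K₀ 𝒳)
    (hred : AlgSt.SmoothLocally (fun T => IsReduced T) 𝒳)
    (hI : AlgSt.IsQuasiCompactMor K₀ (FibCat.inertiaToBase (FibCat.toSelf 𝒳))) :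
    ∃ O : Set (AlgSt.Points 𝒳), IsOpen O ∧ Dense O ∧
      Gerb.IsAlgGerbe K₀ (AlgSt.fullSub 𝒳 (ptPred O)) := by
  obtain ⟨U, x, hx, hxs⟩ := id h𝒳.atlas
  have : IsReduced U.left := hred U x hx
  let q := FibCat.inertiaToBase (FibCat.toSelf 𝒳)
  have hl : AlgSt.RepByAlgSpWith (LP @LocallyOfFiniteType) q :=
    (repWith_inertiaToBase_iff h𝒳.isStack.1 _).2 (repWith_fpFst _ (repWith_lft_diag_toSelf h𝒳))
  obtain ⟨W, hW, hWP⟩ := exists_dense_flat_lfp (isAlgStack_inertia h𝒳) h𝒳 hl hI x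
  let F := BasedFunctor.comp (AlgSt.overMap (subUIncl W)) x
  have hF : AlgSt.RepByAlgSpWith (LP @Smooth) F := repWith_restrict h𝒳.isStack.1 hx W
  have hrange : Set.range (AlgSt.Points.map F) = AlgSt.Points.ofChart x '' W := range_restrict x W
  have hO : IsOpen (Set.range (AlgSt.Points.map F)) := hrange ▸
    isOpenMap_ofChart h𝒳.isStack.1 (repWith_locP_mono smooth_le_flat hx)
      (repWith_locP_mono smooth_le_lfp hx) _ W.isOpen
  refine ⟨_, hO, hrange ▸ ((ofChart_surjective h𝒳.isStack.1 hxs).denseRange.dense_image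
    (continuous_ofChart h𝒳 x) hW), ?_⟩
  let O := Set.range (AlgSt.Points.map F)
  have h𝒰 : AlgSt.IsAlgStack K₀ (AlgSt.fullSub 𝒳 (ptPred O)) :=
    (isOpenSubstack_ptPred h𝒳 hO).2.1
  obtain ⟨w, hw, hws, ⟨i⟩⟩ := exists_image_substack h𝒳
    (isAlgStack_overCat (subU W)) F hO hF
  let ι₀ := AlgSt.subIncl 𝒳 (ptPred O)
  have key : ∀ P : MorphismProperty Scheme.{u}, (P = @Flat ∨ P = @LocallyOfFinitePresentation) →
      AlgSp.IsLocalOnBase AlgSp.IsFppfCover (AlgSp.LocP (S := S) P) →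
      AlgSt.RepByAlgSpWith (LP P)
        (FibCat.inertiaToBase (FibCat.toSelf (AlgSt.fullSub 𝒳 (ptPred O)))) := by
    intro P hP hloc
    have : (BasedFunctor.id (FibCat.inertia (FibCat.toSelf 𝒳))).toFunctor.Full :=
      inferInstanceAs (Functor.id _).Full
    have : (BasedFunctor.id (FibCat.inertia (FibCat.toSelf 𝒳))).toFunctor.Faithful :=
      inferInstanceAs (Functor.id _).Faithful
    have : (BasedFunctor.id (FibCat.overCat (subU W))).toFunctor.Full :=
      inferInstanceAs (Functor.id _).Full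
    have : (BasedFunctor.id (FibCat.overCat (subU W))).toFunctor.Faithful :=
      inferInstanceAs (Functor.id _).Faithful
    have : (BasedFunctor.id 𝒳).toFunctor.Full := inferInstanceAs (Functor.id _).Full
    have : (BasedFunctor.id 𝒳).toFunctor.Faithful := inferInstanceAs (Functor.id _).Faithful
    let M : FibCat.fp (BasedFunctor.comp w ι₀) q ⥤ᵇ FibCat.fp F q :=
      fpMap (F := F) (G := q) (BasedFunctor.id _) (BasedFunctor.id _) (BasedFunctor.id 𝒳)
        i (Iso.refl _)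
    have hM : FibCat.IsEquivOver M :=
      fpMap_isEquivOver _ _ _ _ _ (essSurjOver_id _) (essSurjOver_id _)
    have h1 : AlgSt.RepByAlgSpWith (LP P) (FibCat.fpFst (BasedFunctor.comp w ι₀) q) :=
      (repWith_equiv_comp_iff hM).1 (hWP P hP)
    have h2 : AlgSt.RepByAlgSpWith (LP P) (FibCat.fpFst w (FibCat.fpFst ι₀ q)) :=
      (repWith_equiv_comp_iff (pasteBase_isEquivOver ι₀ q w)).1 h1
    have h3 : AlgSt.RepByAlgSp1 (FibCat.fpFst ι₀ q) :=
      repByAlgSp1_of_with (repWith_fpFst ι₀ (with_top_of_repByAlgSp1 (rep1_inertia h𝒳)))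
    exact (repWith_equiv_comp_iff (f := FibCat.fpFst ι₀ q)
      (subInertia_isEquivOver (Q := ptPred O) fun φ => ptPred_of_hom φ)).1
      (repWith_of_fppf hloc (sourceIsoInv_locP _) h3 (repWith_locP_mono smooth_le_flat hw)
        (repWith_locP_mono smooth_le_lfp hw) hws h2)
  exact (isAlgGerbe_iff h𝒰).2
    ⟨locQ_of_repWith smLocal_flat (isAlgStack_inertia h𝒰) h𝒰
      (key _ (Or.inl rfl) (localFppf_of_fpqc (S10530.result S))),
    locQ_of_repWith smLocal_lfp (isAlgStack_inertia h𝒰) h𝒰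
      (key _ (Or.inr rfl) (localFppf_of_fpqc (S10527.result S)))⟩

end Groth.Agent.H14Gerbe
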