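import Groth.Agent.H7Flat.GenericFlatness
import Groth.Agent.H14AlgSt.Substack
import Groth.Agent.H14AlgSt.DiagLFT
import Groth.Agent.H14AlgSt.QC
import Groth.Agent.H14AlgSt.LocQ2
import Groth.Agent.H14AlgSt.DiagGen
import Groth.Agent.H14AlgSt.Descent
import Groth.Agent.S10527
import Groth.Agent.S10530

/-!
# Generic flatness of quasi-compact representable morphisms of stacks
-/

set_option autoImplicit false
set_option backward.isDefEq.respectTransparency false
set_option backward.isDefEq.respectTransparency.types false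

universe u

open CategoryTheory CategoryTheory.Functor Opposite AlgebraicGeometry CategoryTheory.Limits
open TopologicalSpace

noncomputable section

namespace Groth.Agent.H14Gerbe

open H14Fib H14Stk H14AlgSt

variable {S : Scheme.{u}} {𝒳 𝒴 : AlgSt.Cat S}

local notation "K₀" => Scheme.fppfPrecoverage

/-- Two scheme pullbacks of one cospan: properties of the projection agree. -/
lemma prop_snd_of_morphismRestrict (P : MorphismProperty Scheme.{u}) [P.RespectsIso]
    {A V : Over S} (h : A ⟶ V) (W : V.left.Opens) (hP : P (h.left ∣_ W)) :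
    P (pullback.snd h (subUIncl W)).left := by
  have sq : IsPullback (pullback.snd h (subUIncl W)).left (pullback.fst h (subUIncl W)).left
      W.ι h.left := ((IsPullback.of_hasPullback h (subUIncl W)).map (Over.forget S)).flip
  have sq' := isPullback_morphismRestrict h.left W
  rw [← IsPullback.isoIsPullback_hom_fst _ _ sq sq']
  exact (P.cancel_left_of_respectsIso _ _).2 hP

/-- Generic flatness on an affine chart. -/
lemma exists_dense_repData (h𝒳 : AlgSt.IsAlgStack K₀ 𝒳) (h𝒴 : AlgSt.IsAlgStack K₀ 𝒴)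
    {f : 𝒳 ⥤ᵇ 𝒴} (hl : AlgSt.RepByAlgSpWith (AlgSp.LocP @LocallyOfFiniteType) f)
    (hqc : AlgSt.IsQuasiCompactMor K₀ f) {V : Over S} [IsAffine V.left] [IsReduced V.left]
    (y : FibCat.overCat V ⥤ᵇ 𝒴) :
    ∃ W : V.left.Opens, Dense (W : Set V.left) ∧
      ∀ P : MorphismProperty Scheme.{u}, (P = @Flat ∨ P = @LocallyOfFinitePresentation) →
        RepData (AlgSp.LocP P)
          (FibCat.fpFst (BasedFunctor.comp (AlgSt.overMap (subUIncl W)) y) f) := by
  obtain ⟨G, e, he, hπ⟩ := hl V y
  let q := BasedFunctor.comp e (FibCat.fpFst y f)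
  let π : G.obj ⟶ (AlgSp.yon S).obj V := AlgSt.spMapOfOver q
  obtain ⟨k⟩ := spMapOfOver_eq q
  have hV := isAlgStack_overCat V
  have hP' := isAlgStack_fp' hV h𝒳 h𝒴 y f
  have hc : AlgSt.IsQuasiCompact (FibCat.fp y f) := hqc _ hV (isQuasiCompact_overCat V) y
  have hG : CompactSpace (AlgSp.Points G.obj) := by
    obtain ⟨e', i1, i2⟩ := id he
    let E := e'
    have hE : FibCat.IsEquivOver E := ⟨e, i2, i1⟩
    exact H12AlgSp.compactSpace_points_of_isQuasiCompactSp ((isQuasiCompact_ofSp_iff G).1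
      (isQuasiCompact_of_surjective hP' (isAlgStack_ofSp G) hc E (points_map_bijective hE).2))
  obtain ⟨A, p, hA, hp, hps⟩ := H12AlgSp.exists_affine_atlas G.property
  obtain ⟨h, hh⟩ := (AlgSp.yon S).map_surjective (p ≫ π)
  have hV' := AlgSp.IsAlgSpace.yon_obj V
  have : LocallyOfFiniteType h.left := AlgSp.locP_yon_map (hh ▸
    H12AlgSp.locP_comp H12AlgSp.etLocal_lft (AlgSp.IsAlgSpace.yon_obj A) G.property hV'
      (H12AlgSp.locP_mono H12AlgSp.etLocal_lft.etale_le
        (H12AlgSp.locP_of_repWith H12AlgSp.etLocal_etale hp)) hπ)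
  have : IsAffine A.left := hA
  obtain ⟨W, hW, hWf, hWp⟩ := H7Flat.exists_dense_flatLFP h.left
  refine ⟨W, hW, fun P hP => ?_⟩
  let j := subUIncl W
  let GW : AlgSp.Sp S := pullback π ((AlgSp.yon S).map j)
  have hGW : AlgSp.IsAlgSpace GW :=
    H12AlgSp.isAlgSpace_pullback hV'.diag G.property (AlgSp.IsAlgSpace.yon_obj _) _ _
  let σ : GW ⟶ (AlgSp.yon S).obj (subU W) := pullback.snd π ((AlgSp.yon S).map j)
  let m : (AlgSp.yon S).obj (pullback h j) ⟶ GW :=
    pullback.lift ((AlgSp.yon S).map (pullback.fst h j) ≫ p) ((AlgSp.yon S).map (pullback.snd h j))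
      (by rw [Category.assoc, ← hh, ← Functor.map_comp, ← Functor.map_comp, pullback.condition])
  have sqm : IsPullback ((AlgSp.yon S).map (pullback.fst h j)) m p
      (pullback.fst π ((AlgSp.yon S).map j)) :=
    IsPullback.of_bot (by
        rw [pullback.lift_snd, ← hh]
        exact (IsPullback.of_hasPullback h j).map (AlgSp.yon S))
      (pullback.lift_fst _ _ _).symm (IsPullback.of_hasPullback π ((AlgSp.yon S).map j))
  have hσ : AlgSp.LocP P σ := by
    have hm := H12AlgSp.repWith_of_isPullback sqm hp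
    have hms := H12AlgSp.repWith_of_isPullback sqm hps
    have comm : m ≫ σ = (AlgSp.yon S).map (pullback.snd h j) ≫ 𝟙 _ := by
      rw [pullback.lift_snd, Category.comp_id]
    rcases hP with rfl | rfl
    · exact H12AlgSp.locP_of_one_chart H12AlgSp.etLocal_flat _ hm hms
        (AlgSp.repWith_id @Etale _) comm (prop_snd_of_morphismRestrict @Flat h W hWf)
    · exact H12AlgSp.locP_of_one_chart H12AlgSp.etLocal_lfp _ hm hms
        (AlgSp.repWith_id @Etale _) comm
        (prop_snd_of_morphismRestrict @LocallyOfFinitePresentation h W hWp)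
  let jp := ((AlgSp.yon S).map j).hom
  let y' : FibCat.overCat (subU W) ⥤ᵇ Stk.ofPsh ((AlgSp.yon S).obj V).obj :=
    BasedFunctor.comp (AlgSt.ofOverCat (subU W)) (Stk.ofPshMap jp)
  have sqp : IsPullback σ.hom (pullback.fst π ((AlgSp.yon S).map j)).hom (testMap y') π.hom := by
    rw [testMap_ofOverCat]
    exact (((IsPullback.of_hasPullback π ((AlgSp.yon S).map j)).map
      (sheafToPresheaf (AlgSp.J S) (Type (u + 1))))).flip
  obtain ⟨E, hE, ⟨iE⟩⟩ := exists_comparison π.hom y' sqp
  let e₁ : BasedFunctor.comp y' (AlgSt.toOverCat V) ≅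
      BasedFunctor.comp (BasedFunctor.id (FibCat.overCat (subU W))) (AlgSt.overMap j) :=
    mkIso (fun s => Iso.refl _)
      (fun {_ _} φ => (Category.comp_id _).trans ((Category.id_comp _).trans
        (Over.OverMorphism.ext rfl)).symm)
      (fun s => IsHomLift.id rfl)
  obtain ⟨⟨_, _⟩, -⟩ := (isEquivOver_iff _).1 (toOverCat_isEquivOver V)
  obtain ⟨⟨_, _⟩, hes⟩ := (isEquivOver_iff _).1 he
  let M : FibCat.fp y' (Stk.ofPshMap π.hom) ⥤ᵇ
      FibCat.fp (AlgSt.overMap j) (FibCat.fpFst y f) :=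
    fpMap (BasedFunctor.id _) e (AlgSt.toOverCat V) e₁ k.symm
  have hM : FibCat.IsEquivOver M := fpMap_isEquivOver _ _ _ _ _ (essSurjOver_id _) hes
  let M' := BasedFunctor.comp (BasedFunctor.comp E M) (pasteBase y f (AlgSt.overMap j))
  have hM' : FibCat.IsEquivOver M' :=
    isEquivOver_comp (isEquivOver_comp hE hM) (pasteBase_isEquivOver _ _ _)
  refine ⟨⟨GW, hGW⟩, M', hM', ?_⟩
  let T := BasedFunctor.comp M' (FibCat.fpFst (BasedFunctor.comp (AlgSt.overMap j) y) f)
  have kT : T ≅ BasedFunctor.comp (AlgSt.ofSpMap σ) (AlgSt.toOverCat (subU W)) := iE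
  have : AlgSt.spMapOfOver T = σ := (spMapOfOver_congr kT).trans (by
    rw [spMapOfOver_comp, spMapOfOver_toOverCat, Category.comp_id])
  change AlgSp.LocP P (AlgSt.spMapOfOver T)
  rw [this]
  exact hσ

/-- Generic flatness: there is a dense open of a reduced chart over which a quasi-compact
representable morphism locally of finite type is flat and locally of finite presentation. -/
theorem exists_dense_flat_lfp (h𝒳 : AlgSt.IsAlgStack K₀ 𝒳) (h𝒴 : AlgSt.IsAlgStack K₀ 𝒴)
    {f : 𝒳 ⥤ᵇ 𝒴} (hl : AlgSt.RepByAlgSpWith (AlgSp.LocP @LocallyOfFiniteType) f)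
    (hqc : AlgSt.IsQuasiCompactMor K₀ f) {V : Over S} [IsReduced V.left]
    (y : FibCat.overCat V ⥤ᵇ 𝒴) :
    ∃ W : V.left.Opens, Dense (W : Set V.left) ∧
      ∀ P : MorphismProperty Scheme.{u}, (P = @Flat ∨ P = @LocallyOfFinitePresentation) →
        AlgSt.RepByAlgSpWith (AlgSp.LocP P)
          (FibCat.fpFst (BasedFunctor.comp (AlgSt.overMap (subUIncl W)) y) f) := by
  let good : Set V.left.Opens := {D | ∀ P : MorphismProperty Scheme.{u},
    (P = @Flat ∨ P = @LocallyOfFinitePresentation) →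
      RepData (AlgSp.LocP P) (FibCat.fpFst (BasedFunctor.comp (AlgSt.overMap (subUIncl D)) y) f)}
  let W := sSup good
  refine ⟨W, ?_, fun P hP => ?_⟩
  · rw [dense_iff_inter_open]
    rintro O hO ⟨x, hx⟩
    obtain ⟨_, ⟨U₀, hU₀, rfl⟩, hxU, hUO⟩ :=
      V.left.isBasis_affineOpens.exists_subset_of_mem_open hx hO
    obtain ⟨U, hU, hxU, hUO⟩ : ∃ U : V.left.Opens, IsAffineOpen U ∧ x ∈ U ∧
        (U : Set V.left) ⊆ O := ⟨U₀, hU₀, hxU, hUO⟩
    have : IsAffine (subU U).left := hU
    have : IsReduced (subU U).left := inferInstanceAs (IsReduced U.toScheme)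
    obtain ⟨D, hD, hDP⟩ := exists_dense_repData h𝒳 h𝒴 hl hqc
      (BasedFunctor.comp (AlgSt.overMap (subUIncl U)) y)
    let D' : V.left.Opens := U.ι ''ᵁ D
    have hgood : D' ∈ good := fun P hP => by
      have hr : Set.range (D'.ι) ⊆ Set.range (D.ι ≫ U.ι) := by
        rw [Scheme.Opens.range_ι]
        rintro _ ⟨a, ha, rfl⟩
        exact ⟨⟨a, ha⟩, rfl⟩
      let φ : (subU D').left ⟶ (subU (U := subU U) D).left :=
        IsOpenImmersion.lift (D.ι ≫ U.ι) D'.ι hr
      have hφ : φ ≫ D.ι ≫ U.ι = D'.ι := IsOpenImmersion.lift_fac _ _ hr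
      let φ' : subU D' ⟶ subU (U := subU U) D := Over.homMk φ (by
        change φ ≫ D.ι ≫ U.ι ≫ V.hom = D'.ι ≫ V.hom
        rw [← hφ, Category.assoc, Category.assoc])
      have hφ' : φ' ≫ subUIncl (U := subU U) D ≫ subUIncl U = subUIncl D' :=
        Over.OverMorphism.ext hφ
      obtain ⟨G, e, he, hd⟩ := hDP P hP
      have hb : BaseStable (S := S) (AlgSp.LocP P) := by
        rcases hP with rfl | rfl
        · exact baseStable_locP H12AlgSp.etLocal_flat
        · exact baseStable_locP H12AlgSp.etLocal_lfp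
      let yD := BasedFunctor.comp (AlgSt.overMap (subUIncl (U := subU U) D))
        (BasedFunctor.comp (AlgSt.overMap (subUIncl U)) y)
      have h1 := repWith_fpFst_of_data hb yD he hd
      have h2 : RepData (AlgSp.LocP P)
          (FibCat.fpFst (BasedFunctor.comp (AlgSt.overMap φ') yD) f) :=
        RepData.of_equiv _ (pasteBase_isEquivOver yD f (AlgSt.overMap φ')) (Iso.refl _)
          (h1 _ (AlgSt.overMap φ'))
      let i : BasedFunctor.comp (AlgSt.overMap φ') yD ≅
          BasedFunctor.comp (AlgSt.overMap (subUIncl D')) y :=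
        (post _ y).mapIso
          ((post _ (AlgSt.overMap (subUIncl U))).mapIso (overMapCompIso φ' (subUIncl (U := subU U) D)) ≪≫
            overMapCompIso _ (subUIncl U) ≪≫
              eqToIso (congrArg AlgSt.overMap ((Category.assoc _ _ _).trans hφ')))
      exact repData_congr i h2
    obtain ⟨d, hd⟩ := hD.nonempty (h := ⟨⟨x, hxU⟩⟩)
    exact ⟨U.ι d, hUO d.2, Opens.mem_sSup.2 ⟨D', hgood, ⟨d, hd, rfl⟩⟩⟩
  · have hloc : AlgSp.IsLocalOnBase AlgSp.IsFppfCover (AlgSp.LocP (S := S) P) := by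
      rcases hP with rfl | rfl
      · exact localFppf_of_fpqc (S10530.result S)
      · exact localFppf_of_fpqc (S10527.result S)
    have hb : BaseStable (S := S) (AlgSp.LocP P) := by
      rcases hP with rfl | rfl
      · exact baseStable_locP H12AlgSp.etLocal_flat
      · exact baseStable_locP H12AlgSp.etLocal_lfp
    let yW := BasedFunctor.comp (AlgSt.overMap (subUIncl W)) y
    have key : ∀ t : W.toScheme, ∃ D : good, t.1 ∈ D.1 := fun t => by
      obtain ⟨D, hD, ht⟩ := Opens.mem_sSup.1 t.2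
      exact ⟨⟨D, hD⟩, ht⟩
    choose D hD using key
    let c : ∀ t : W.toScheme, subU (D t).1 ⟶ subU W := fun t =>
      Over.homMk (V.left.homOfLE (le_sSup (D t).2)) (by
        change V.left.homOfLE _ ≫ W.ι ≫ V.hom = (D t).1.ι ≫ V.hom
        rw [Scheme.homOfLE_ι_assoc])
    obtain ⟨G, e, he, hd⟩ : RepData (AlgSp.LocP P) (FibCat.fpFst yW f) := by
      refine repData_of_family hloc (sourceIsoInv_locP _) yW
        (repByAlgSp1_of_with hl _ yW) (fun t => subU (D t).1) c
        (fun t => inferInstanceAs (Flat (V.left.homOfLE (V := W) (le_sSup (D t).2))))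
        (fun t => inferInstanceAs
          (LocallyOfFinitePresentation (V.left.homOfLE (V := W) (le_sSup (D t).2))))
        (fun t => ⟨t, ⟨t.1, hD t⟩,
          Subtype.ext (Scheme.homOfLE_apply (V := W) (le_sSup (D t).2) _)⟩) fun t => ?_
      let i : BasedFunctor.comp (AlgSt.overMap (subUIncl (D t).1)) y ≅
          BasedFunctor.comp (AlgSt.overMap (c t)) yW :=
        ((post _ y).mapIso (overMapCompIso (c t) (subUIncl W) ≪≫
          eqToIso (congrArg AlgSt.overMap (Over.OverMorphism.ext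
            (Scheme.homOfLE_ι V.left (V := W) (le_sSup (D t).2)) : c t ≫ subUIncl W = subUIncl (D t).1)))).symm
      exact repData_congr i ((D t).2 P hP)
    exact repWith_fpFst_of_data hb yW he hd

end Groth.Agent.H14Gerbe
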