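import Groth.Agent.H14Gerbe.AutGrp
import Groth.Agent.H14AlgSt.DiagLFT

/-!
# The automorphism group scheme of a point as a base change of the diagonal
-/

set_option autoImplicit false
set_option backward.isDefEq.respectTransparency false
set_option backward.isDefEq.respectTransparency.types false

universe u

open CategoryTheory CategoryTheory.Functor Opposite AlgebraicGeometry CategoryTheory.Limits

noncomputable section

namespace Groth.Agent.H14Gerbe

open H14Fib H14Stk H14AlgSt Gerb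

variable {S : Scheme.{u}} {U : Over S} {𝒳 : AlgSt.Cat S}
  {x : FibCat.overCat U ⥤ᵇ 𝒳} {G : Over U.left} [GrpObj G]

local notation "LP" => AlgSp.LocP

variable (x) in
/-- The pair of two copies of a point. -/
abbrev sqPt : FibCat.overCat U ⥤ᵇ FibCat.fp (FibCat.toSelf 𝒳) (FibCat.toSelf 𝒳) :=
  FibCat.fpLift x x (Iso.refl _)

variable (r : AutRep x (ptsGrp U G))

/-- The universal automorphism as an isomorphism of pairs. -/
def sqIso : BasedFunctor.comp (AlgSt.overMap (grpHom U G)) (sqPt x) ≅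
    BasedFunctor.comp (BasedFunctor.comp (AlgSt.overMap (grpHom U G)) x) (FibCat.diag (FibCat.toSelf 𝒳)) :=
  mkIso (fun s => fpIsoMk (autIso (r.iso _ (tautPt s))) (Iso.refl _) (by
      haveI := autIso_lift (r.iso _ (tautPt s))
      have h := @IsHomLift.fac' _ _ _ _ 𝒳.p _ _ _ _ _ _ (autIso_lift (r.iso _ (tautPt s)))
      change 𝒳.p.map (r.iso _ (tautPt s)).hom.1 ≫ 𝟙 _ = 𝟙 _ ≫ 𝒳.p.map (𝟙 _)
      rw [h]
      simp))
    (fun {s s'} m => by
      refine fp_hom_ext ?_ ?_
      · exact (univAut r).hom.toNatTrans.naturality m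
      · exact (Category.comp_id _).trans (Category.id_comp _).symm)
    (fun s => (fp_isHomLift_iff _ _).2 (homLift_id_of_eq (x.w_obj _) (autIso_lift (r.iso _ (tautPt s)))))

/-- The comparison with the base change of the diagonal. -/
abbrev diagComparison : FibCat.overCat (grpBase U G) ⥤ᵇ FibCat.fp (sqPt x) (FibCat.diag (FibCat.toSelf 𝒳)) :=
  FibCat.fpLift (AlgSt.overMap (grpHom U G)) (BasedFunctor.comp (AlgSt.overMap (grpHom U G)) x) (sqIso r)

lemma diagComparison_isEquivOver (h𝒳 : FibCat.IsFibGrpd 𝒳.p) :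
    FibCat.IsEquivOver (diagComparison r) := by
  let D := FibCat.diag (FibCat.toSelf 𝒳)
  refine (isEquivOver_iff _).2 ⟨⟨⟨fun {s s'} m => ?_⟩, ⟨fun {s s'} m n h => ?_⟩⟩, fun z => ?_⟩
  · let h : (AlgSt.overMap (grpHom U G)).obj s ⟶ (AlgSt.overMap (grpHom U G)).obj s' := m.hom.fst
    let hx : x.obj ((AlgSt.overMap (grpHom U G)).obj s) ⟶ x.obj ((AlgSt.overMap (grpHom U G)).obj s') :=
      m.hom.snd
    have hw1 : x.map h ≫ (r.iso _ (tautPt s')).hom.1 = (r.iso _ (tautPt s)).hom.1 ≫ hx :=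
      congrArg (fun t => t.hom.fst) m.hom.w
    have hw2 : x.map h ≫ 𝟙 _ = 𝟙 _ ≫ hx := congrArg (fun t => t.hom.snd) m.hom.w
    have hhx : hx = x.map h := ((Category.comp_id _).symm.trans (hw2.trans (Category.id_comp _))).symm
    rw [hhx, ← r.natural h (tautPt s')] at hw1
    have hc := sc_of_fibGrpd h𝒳 (𝒳.p.map (x.map h)) (x.map h)
    haveI := autIso_lift (r.iso _ ((ptsGrp U G).map h.op (tautPt s')))
    haveI := autIso_lift (r.iso _ (tautPt s))
    have heq : r.iso _ ((ptsGrp U G).map h.op (tautPt s')) = r.iso _ (tautPt s) := autO_ext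
      (Functor.IsStronglyCartesian.ext 𝒳.p (𝒳.p.map (x.map h)) (x.map h)
        (𝟙 (𝒳.p.obj (x.obj ((AlgSt.overMap (grpHom U G)).obj s)))) hw1)
    have hb := (r.iso _).injective heq
    have hb' : h.left.left ≫ s'.hom.left = s.hom.left := congrArg CommaMorphism.left hb
    exact ⟨Over.homMk h.left (Over.OverMorphism.ext hb'), fp_hom_ext rfl hhx.symm⟩
  · exact Over.OverMorphism.ext (congrArg (fun t => t.hom.fst.left) h)
  · let t : (FibCat.overCat U).obj := z.obj.fst
    let I₁ : x.obj t ≅ z.obj.snd := (FibCat.fpFst (FibCat.toSelf 𝒳) (FibCat.toSelf 𝒳)).toFunctor.mapIso z.obj.iso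
    let I₂ : x.obj t ≅ z.obj.snd := (FibCat.fpSnd (FibCat.toSelf 𝒳) (FibCat.toSelf 𝒳)).toFunctor.mapIso z.obj.iso
    have hz : (FibCat.fp (FibCat.toSelf 𝒳) (FibCat.toSelf 𝒳)).p.IsHomLift (𝟙 t.left) z.obj.iso.hom :=
      z.property
    have h₁ : 𝒳.p.IsHomLift (𝟙 t.left) I₁.hom :=
      @BasedFunctor.preserves_isHomLift _ _ _ _ (FibCat.fpFst _ _) _ _ _ _ _ _ hz
    have h₂ : 𝒳.p.IsHomLift (𝟙 t.left) I₂.hom :=
      @BasedFunctor.preserves_isHomLift _ _ _ _ (FibCat.fpSnd _ _) _ _ _ _ _ _ hz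
    let φ : AutO (x.obj t) := autMk (I₁ ≪≫ I₂.symm) (homLift_id_of_eq (x.w_obj t).symm
      (homLift_id_comp h₁ (@IsHomLift.lift_id_inv _ _ _ _ 𝒳.p _ _ _ I₂ h₂)))
    let a : (Over.iteratedSliceForward U).obj t ⟶ G := (r.iso t).symm φ
    let v : t.left ⟶ grpBase U G := Over.homMk a.left
      (by change a.left ≫ G.hom ≫ U.hom = _; rw [← Category.assoc, Over.w a]; exact Over.w t.hom)
    let s : (FibCat.overCat (grpBase U G)).obj := Over.mk v
    let j : (AlgSt.overMap (grpHom U G)).obj s ≅ t :=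
      Over.isoMk (Iso.refl _) (Over.OverMorphism.ext (by
        change 𝟙 _ ≫ t.hom.left = a.left ≫ G.hom
        rw [Category.id_comp, Over.w a]; rfl))
    have hj : (ptsGrp U G).map j.hom.op a = tautPt s :=
      Over.OverMorphism.ext (Category.id_comp _)
    have hn := r.natural j.hom a
    rw [hj] at hn
    have hφ : r.iso t a = φ := (r.iso t).apply_symm_apply φ
    rw [hφ] at hn
    refine ⟨s, fpIsoMk j (x.toFunctor.mapIso j ≪≫ I₂) ?_, (fp_isHomLift_iff _ _).2
      (IsHomLift.of_fac' _ _ _ rfl rfl (by simp [j]; rfl))⟩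
    refine fp_hom_ext ?_ ?_
    · change x.map j.hom ≫ I₁.hom = (r.iso _ (tautPt s)).hom.1 ≫ x.map j.hom ≫ I₂.hom
      rw [← Category.assoc (r.iso _ (tautPt s)).hom.1, hn, Category.assoc]
      change _ = x.map j.hom ≫ (I₁.hom ≫ I₂.inv) ≫ I₂.hom
      rw [Category.assoc, I₂.inv_hom_id, Category.comp_id]
    · exact (Category.id_comp _).symm

/-- Properties of the diagonal pass to the automorphism group scheme. -/
lemma prop_grpHom_diag {P : MorphismProperty (AlgSp.Sp S)} (hP : SourceIsoInv P) (h𝒳 : FibCat.IsFibGrpd 𝒳.p)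
    (hd : AlgSt.RepByAlgSpWith P (FibCat.diag (FibCat.toSelf 𝒳))) (r : AutRep x (ptsGrp U G)) :
    P ((AlgSp.yon S).map (grpHom U G)) := by
  let E := BasedFunctor.comp (AlgSt.toOverCat (grpBase U G)) (diagComparison r)
  have hE : FibCat.IsEquivOver E :=
    isEquivOver_comp (toOverCat_isEquivOver _) (diagComparison_isEquivOver r h𝒳)
  obtain ⟨k⟩ := spMapOfOver_eq (BasedFunctor.comp (AlgSt.toOverCat (grpBase U G))
    (AlgSt.overMap (grpHom U G)))
  have h := prop_of_repData hP (hd U (sqPt x))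
    (G := ⟨(AlgSp.yon S).obj (grpBase U G), AlgSp.IsAlgSpace.yon_obj _⟩) (e := E) hE k
  rwa [spMapOfOver_overMap, spMapOfOver_toOverCat, Category.id_comp] at h

end Groth.Agent.H14Gerbe
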