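import Groth.Agent.H14Gerbe.AutSpace
import Groth.Agent.H14AlgSt.Diag2
import Groth.Agent.H12AlgSp.Approx.RelBase
import Groth.Agent.H13AlgSp.DecentApps
import Groth.Agent.H14SpQuot.BGDiag
import Groth.Agent.S10120
import Groth.Agent.S10127

/-!
# Quasi-separated group spaces over a field, seen over a base scheme, are schemes
-/

set_option autoImplicit false
set_option backward.isDefEq.respectTransparency false
set_option backward.isDefEq.respectTransparency.types false
set_option linter.style.haveILetI false
set_option linter.unusedVariables false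

universe u

open CategoryTheory CategoryTheory.Limits Opposite AlgebraicGeometry
open MonoidalCategory CartesianMonoidalCategory MonObj
open AlgSp (yon)
open Groth.Agent.H12AlgSp.Shriek

noncomputable section

namespace Groth.Agent.H14Gerbe

open H14Fib H14AlgSt

variable {S T : Scheme.{u}} (g : T ⟶ S)

/-- The map to the final sheaf. -/
def toFinalSp (F : AlgSp.Sp T) : F ⟶ (yon T).obj (Over.mk (𝟙 T)) :=
  ⟨{ app := fun W => ↾ fun _ => ⟨Over.homMk W.unop.hom (Category.comp_id _)⟩
     naturality := fun W W' f => by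
       ext a
       exact (H14SpQuot.subsingleton_sec W').allEq _ _ }⟩

lemma hom_toFinalSp_unique {F : AlgSp.Sp T} (a b : F ⟶ (yon T).obj (Over.mk (𝟙 T))) : a = b := by
  apply CategoryTheory.Sheaf.hom_ext
  apply NatTrans.ext
  funext W
  exact ConcreteCategory.hom_ext _ _ fun x => (H14SpQuot.subsingleton_sec W).allEq _ _

/-- Extension of spaces over `T` to spaces over the scheme `T` over `S`. -/
def extendOver : Over ((yon T).obj (Over.mk (𝟙 T))) ⥤ Over ((yon S).obj (Over.mk g)) where
  obj Y := Over.mk (toBase g Y.left)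
  map f := Over.homMk ((shr g).map f.left) (toBase_naturality g f.left)
  map_id Y := Over.OverMorphism.ext ((shr g).map_id Y.left)
  map_comp f f' := Over.OverMorphism.ext ((shr g).map_comp f.left f'.left)

instance : (extendOver g).Faithful where
  map_injective {Y Y'} f f' h :=
    Over.OverMorphism.ext ((shr g).map_injective (congrArg CommaMorphism.left h))

instance : (extendOver g).Full where
  map_surjective {Y Y'} q := by
    obtain ⟨r, hr⟩ := exists_map q.left (Over.w q)
    exact ⟨Over.homMk r (hom_toFinalSp_unique _ _), Over.OverMorphism.ext hr⟩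

instance : (extendOver g).EssSurj where
  mem_essImage A := by
    obtain ⟨hq, hb⟩ := fib_spec (g := g) A.hom
    exact ⟨Over.mk (toFinalSp (fib A.hom)), ⟨Over.isoMk (@asIso _ _ _ _ _ hq) hb⟩⟩

instance : (extendOver g).IsEquivalence where

/-- A quasi-separated group space over a field point of the base is a scheme. -/
theorem exists_scheme_of_group {K : Type u} [Field K] (p : Spec (CommRingCat.of K) ⟶ S)
    (A : Over ((yon S).obj (Over.mk p))) [GrpObj A] (hA : AlgSp.IsAlgSpace A.left)
    (hq : AlgSp.IsQuasiSeparatedMor A.hom) :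
    ∃ V : Over S, Nonempty ((yon S).obj V ≅ A.left) := by
  let R := (extendOver p).inv
  letI : R.Monoidal := Functor.Monoidal.ofChosenFiniteProducts R
  let G := R.obj A
  letI : GrpObj G := Functor.grpObjObj
  let e : (extendOver p).obj G ≅ A := (extendOver p).asEquivalence.counitIso.app A
  let el : (shr p).obj G.left ≅ A.left := (Over.forget _).mapIso e
  have hG : AlgSp.IsAlgSpace G.left := isAlgSpace_shr_iff.1 (AlgSp.IsAlgSpace.of_iso hA el.symm)
  haveI hri : (AlgSp.IsQuasiSeparatedMor (S := S)).RespectsIso :=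
    inferInstanceAs (AlgSp.RepWith (S := S) @QuasiCompact).diagonal.RespectsIso
  have hqs : AlgSp.IsQuasiSeparatedMor G.hom := by
    refine H12AlgSp.Approx.isQuasiSeparatedMor_of_shr p ?_
    let one : Over (Spec (CommRingCat.of K)) := Over.mk (𝟙 _)
    haveI : IsIso (canS p one) := by
      haveI : IsIso ((Over.forget S).map (canS p one)) :=
        inferInstanceAs (IsIso (𝟙 (Spec (CommRingCat.of K))))
      exact isIso_of_reflects_iso _ (Over.forget S)
    haveI : IsIso (toBase p ((yon (Spec (CommRingCat.of K))).obj one)) := by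
      rw [← yonIso_toBase]
      infer_instance
    refine (MorphismProperty.cancel_right_of_respectsIso (AlgSp.IsQuasiSeparatedMor (S := S)) _
      (toBase p ((yon (Spec (CommRingCat.of K))).obj one))).1 ?_
    rw [toBase_naturality]
    have hw : el.hom ≫ A.hom = toBase p G.left := Over.w e.hom
    rw [← hw]
    exact (MorphismProperty.cancel_left_of_respectsIso (AlgSp.IsQuasiSeparatedMor (S := S)) _ _).2 hq
  haveI : IsAffine (Over.mk (𝟙 (Spec (CommRingCat.of K))) : Over (Spec (CommRingCat.of K))).left :=
    inferInstanceAs (IsAffine (Spec (CommRingCat.of K)))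
  have hd : AlgSp.IsDecent G.left := H13AlgSp.isDecent_of_qs_over_affine hG hqs
  obtain ⟨W, ⟨w⟩⟩ := H12AlgSp.isRepresentable_iff_exists_iso.1
    (S10120.result K G hG (S10127.result K G hG hd))
  exact ⟨(Over.map p).obj W, ⟨(yonIso p W).symm ≪≫ (shr p).mapIso w ≪≫ el⟩⟩

open H14Fib in
/-- Stabilisers of field points are group schemes locally of finite type. -/
theorem exists_autRep_field {𝒳 : AlgSt.Cat S} {Kp : Precoverage Scheme.{u}}
    (h𝒳 : AlgSt.IsAlgStack Kp 𝒳)
    (hΔ : AlgSt.RepByAlgSpWith AlgSp.IsQuasiSeparatedMor (FibCat.diag (FibCat.toSelf 𝒳)))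
    {K : Type u} [Field K] (p : Spec (CommRingCat.of K) ⟶ S)
    (y : FibCat.overCat (Over.mk p) ⥤ᵇ 𝒳) :
    ∃ (G : Over (Spec (CommRingCat.of K))) (_ : GrpObj G),
      LocallyOfFiniteType G.hom ∧ Nonempty (Gerb.AutRep y (Gerb.ptsGrp (Over.mk p) G)) := by
  let U : Over S := Over.mk p
  have h := h𝒳.isStack.1
  let x := BasedFunctor.comp (AlgSt.toOverCat U) y
  obtain ⟨hs, hA⟩ := isAlgSpaceP_autPsh_of_diag x h h𝒳.diag (AlgSp.IsAlgSpace.yon_obj U)
  letI := H14SpQuot.autGrp x h hs
  haveI : (AlgSp.IsQuasiSeparatedMor (S := S)).RespectsIso :=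
    inferInstanceAs (AlgSp.RepWith (S := S) @QuasiCompact).diagonal.RespectsIso
  have hq := prop_autG_of_diag (P := AlgSp.IsQuasiSeparatedMor)
    (sourceIsoInv_of_respectsIso _) x h hs hA hΔ
  have hl := prop_autG_of_diag (sourceIsoInv_locP @LocallyOfFiniteType) x h hs hA
    (repWith_lft_diag_toSelf h𝒳)
  obtain ⟨V, ⟨e⟩⟩ := exists_scheme_of_group p (H14SpQuot.autG x h hs) hA hq
  obtain ⟨v, hv⟩ := (yon S).map_surjective (e.hom ≫ (H14SpQuot.autG x h hs).hom)
  have hv' : (H14SpQuot.autG x h hs).hom = e.inv ≫ (yon S).map v := by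
    rw [hv, Iso.inv_hom_id_assoc]
  have hlv : LocallyOfFiniteType v.left := (locP_yon_iff H12AlgSp.etLocal_lft v).1
    (sourceIsoInv_locP @LocallyOfFiniteType e.inv ((yon S).map v) hA
      (AlgSp.IsAlgSpace.yon_obj U) (hv' ▸ hl))
  let G : Over U.left := (Over.iteratedSliceForward U).obj (Over.mk v)
  let io : (sliceYon U).obj G ≅ H14SpQuot.autG x h hs :=
    Over.isoMk ((yon S).mapIso (Over.isoMk (Iso.refl _)
      ((Category.id_comp _).trans (Over.w v).symm) :
        ((Over.iteratedSliceBackward U).obj G).left ≅ V) ≪≫ e) (by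
        rw [Iso.trans_hom, Category.assoc, Functor.mapIso_hom, ← hv]
        exact ((yon S).map_comp _ _).symm.trans (congrArg (yon S).map (Over.OverMorphism.ext
          (Category.id_comp _))))
  haveI : (Over.iteratedSliceBackward U).Full :=
    inferInstanceAs (Over.iteratedSliceEquiv U).inverse.Full
  haveI : (Over.iteratedSliceBackward U).Faithful :=
    inferInstanceAs (Over.iteratedSliceEquiv U).inverse.Faithful
  obtain ⟨hG, hr⟩ := exists_autRep_of_scheme y h hs G io (Functor.FullyFaithful.ofFullyFaithful _)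
  exact ⟨G, hG, hlv, hr⟩

end Groth.Agent.H14Gerbe
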