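import Groth.Agent.H14Gerbe.Cover
import Groth.Agent.H14Stk.Gerbe2
import Groth.Prelude.Def_StGerb2

/-!
# The automorphism group scheme of a section of a gerbe
-/

set_option autoImplicit false
set_option backward.isDefEq.respectTransparency false
set_option backward.isDefEq.respectTransparency.types false

universe u

open CategoryTheory CategoryTheory.Functor Opposite AlgebraicGeometry CategoryTheory.Limits

noncomputable section

namespace Groth.Agent.H14Gerbe

open H14Fib H14Stk H14AlgSt Gerb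

variable {S : Scheme.{u}} {U : Over S} {𝒳 : AlgSt.Cat S} {π : 𝒳 ⥤ᵇ FibCat.overCat U}
  {x : FibCat.overCat U ⥤ᵇ 𝒳} {G : Over U.left} [GrpObj G]

local notation "K₀" => Scheme.fppfPrecoverage
local notation "LP" => AlgSp.LocP

variable (U G) in
/-- The group scheme over the base scheme. -/
abbrev grpBase : Over S := Over.mk (G.hom ≫ U.hom)

variable (U G) in
/-- Its structure morphism. -/
abbrev grpHom : grpBase U G ⟶ U := Over.homMk G.hom rfl

/-- The tautological point. -/
def tautPt (s : (FibCat.overCat (grpBase U G)).obj) :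
    (ptsGrp U G).obj (op ((AlgSt.overMap (grpHom U G)).obj s)) :=
  show (Over.iteratedSliceForward U).obj ((AlgSt.overMap (grpHom U G)).obj s) ⟶ G from
    Over.homMk s.hom.left rfl

lemma tautPt_map {s s' : (FibCat.overCat (grpBase U G)).obj} (m : s ⟶ s') :
    (ptsGrp U G).map ((AlgSt.overMap (grpHom U G)).map m).op (tautPt s') = tautPt s :=
  Over.OverMorphism.ext (show m.left.left ≫ s'.hom.left = s.hom.left from congrArg CommaMorphism.left (Over.w m))

variable (r : AutRep x (ptsGrp U G))

omit r in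
lemma homLift_id_of_eq {a b : 𝒳.obj} {φ : a ⟶ b} {V W : Over S} (hVW : V = W)
    (h : 𝒳.p.IsHomLift (𝟙 V) φ) : 𝒳.p.IsHomLift (𝟙 W) φ := hVW ▸ h

/-- The universal automorphism. -/
def univAut : BasedFunctor.comp (AlgSt.overMap (grpHom U G)) x ≅
    BasedFunctor.comp (AlgSt.overMap (grpHom U G)) x :=
  mkIso (fun s => autIso (r.iso _ (tautPt s)))
    (fun {s s'} m => by
      have h := r.natural ((AlgSt.overMap (grpHom U G)).map m) (tautPt s')
      rw [tautPt_map] at h
      exact h.symm)
    (fun s => by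
      exact homLift_id_of_eq (x.w_obj _) (autIso_lift (r.iso _ (tautPt s))))

/-- The comparison with the fibre product. -/
abbrev autComparison : FibCat.overCat (grpBase U G) ⥤ᵇ FibCat.fp x x :=
  FibCat.fpLift (AlgSt.overMap (grpHom U G)) (AlgSt.overMap (grpHom U G)) (univAut r)

lemma autComparison_isEquivOver (h𝒳 : FibCat.IsFibGrpd 𝒳.p)
    (e : BasedFunctor.comp x π ≅ BasedFunctor.id (FibCat.overCat U)) :
    FibCat.IsEquivOver (autComparison r) := by
  refine (isEquivOver_iff _).2 ⟨⟨⟨fun {s s'} m => ?_⟩, ⟨fun {s s'} m n h => ?_⟩⟩, fun z => ?_⟩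
  · let h : (AlgSt.overMap (grpHom U G)).obj s ⟶ (AlgSt.overMap (grpHom U G)).obj s' := m.hom.fst
    let h' : (AlgSt.overMap (grpHom U G)).obj s ⟶ (AlgSt.overMap (grpHom U G)).obj s' := m.hom.snd
    have hh : h' = h := by
      have : (FibCat.overCat U).p.IsHomLift ((FibCat.fp x x).p.map m) h' :=
        FibCat.fp_isHomLift_snd x x m
      refine Over.OverMorphism.ext ?_
      have := IsHomLift.fac' (FibCat.overCat U).p ((FibCat.fp x x).p.map m) h'
      exact this.trans (by simp; rfl)
    have hw : x.map h ≫ (r.iso _ (tautPt s')).hom.1 = (r.iso _ (tautPt s)).hom.1 ≫ x.map h' :=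
      m.hom.w
    rw [hh, ← r.natural h (tautPt s')] at hw
    have hc := sc_of_fibGrpd h𝒳 (𝒳.p.map (x.map h)) (x.map h)
    haveI := autIso_lift (r.iso _ ((ptsGrp U G).map h.op (tautPt s')))
    haveI := autIso_lift (r.iso _ (tautPt s))
    have heq : r.iso _ ((ptsGrp U G).map h.op (tautPt s')) = r.iso _ (tautPt s) := autO_ext
      (Functor.IsStronglyCartesian.ext 𝒳.p (𝒳.p.map (x.map h)) (x.map h)
        (𝟙 (𝒳.p.obj (x.obj ((AlgSt.overMap (grpHom U G)).obj s)))) hw)
    have hb := (r.iso _).injective heq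
    have hb' : h.left.left ≫ s'.hom.left = s.hom.left := congrArg CommaMorphism.left hb
    exact ⟨Over.homMk h.left (Over.OverMorphism.ext hb'), fp_hom_ext rfl hh.symm⟩
  · exact Over.OverMorphism.ext (congrArg (fun t => t.hom.fst.left) h)
  · let t : (FibCat.overCat U).obj := z.obj.fst
    let t' : (FibCat.overCat U).obj := z.obj.snd
    have hl : t'.left = t.left := fp_snd_obj z
    have hθ : 𝒳.p.IsHomLift (𝟙 t.left) z.obj.iso.hom := z.property
    have h1 : (FibCat.overCat U).p.IsHomLift (𝟙 t.left) ((isoApp e t).inv) :=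
      BasedNatTrans.isHomLift e.inv rfl
    have h2 : (FibCat.overCat U).p.IsHomLift (𝟙 t.left) (π.map z.obj.iso.hom) :=
      BasedFunctor.preserves_isHomLift π _ _
    have h3 : (FibCat.overCat U).p.IsHomLift (𝟙 t.left) ((isoApp e t').hom) :=
      BasedNatTrans.isHomLift e.hom hl
    let q : t ⟶ t' := (isoApp e t).inv ≫ π.map z.obj.iso.hom ≫ (isoApp e t').hom
    have hq : (FibCat.overCat U).p.IsHomLift (𝟙 t.left) q :=
      homLift_id_comp h1 (homLift_id_comp h2 h3)
    have hq' : eqToHom hl.symm ≫ t'.hom = t.hom := by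
      have := IsHomLift.fac' (FibCat.overCat U).p (𝟙 t.left) q
      have hw := Over.w q
      change (q.left ≫ t'.hom) = t.hom at hw
      simp only [Category.id_comp, eqToHom_trans] at this
      exact (by rw [← hw]; exact congrArg (· ≫ t'.hom) this.symm)
    let w : t' ≅ t := Over.isoMk (eqToIso hl) (by simp [← hq'])
    have hw : 𝒳.p.IsHomLift (𝟙 t.left) (x.map w.hom) := by
      have : (FibCat.overCat U).p.IsHomLift (𝟙 t.left) w.hom :=
        IsHomLift.of_fac' _ _ _ hl rfl (by simp [w]; rfl)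
      exact BasedFunctor.preserves_isHomLift x _ _
    let φ : AutO (x.obj t) := autMk (z.obj.iso ≪≫ x.toFunctor.mapIso w)
      (homLift_id_of_eq (x.w_obj t).symm (homLift_id_comp hθ hw))
    let a : (Over.iteratedSliceForward U).obj t ⟶ G := (r.iso t).symm φ
    let v : t.left ⟶ grpBase U G := Over.homMk a.left
      (by change a.left ≫ G.hom ≫ U.hom = _; rw [← Category.assoc, Over.w a]; exact Over.w t.hom)
    let s : (FibCat.overCat (grpBase U G)).obj := Over.mk v
    let j : (AlgSt.overMap (grpHom U G)).obj s ≅ t :=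
      Over.isoMk (Iso.refl _) (Over.OverMorphism.ext (by
        change 𝟙 _ ≫ t.hom.left = a.left ≫ G.hom
        rw [Category.id_comp, Over.w a]; rfl))
    have hj : (ptsGrp U G).map j.hom.op a = tautPt s :=
      Over.OverMorphism.ext (Category.id_comp _)
    have hn := r.natural j.hom a
    rw [hj] at hn
    have hφ : r.iso t a = φ := (r.iso t).apply_symm_apply φ
    rw [hφ] at hn
    refine ⟨s, fpIsoMk j (j ≪≫ w.symm) ?_, (fp_isHomLift_iff _ _).2
      (IsHomLift.of_fac' _ _ _ rfl rfl (by simp [j]; rfl))⟩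
    change x.map j.hom ≫ z.obj.iso.hom = (r.iso _ (tautPt s)).hom.1 ≫ x.map (j.hom ≫ w.inv)
    rw [x.toFunctor.map_comp, ← Category.assoc, hn, Category.assoc]
    change _ = x.map j.hom ≫ (z.obj.iso.hom ≫ x.map w.hom) ≫ x.map w.inv
    rw [Category.assoc, ← x.toFunctor.map_comp, w.hom_inv_id, x.toFunctor.map_id, Category.comp_id]

lemma prop_grpHom {Q : MorphismProperty Scheme.{u}} (hQ : H12AlgSp.EtLocal Q)
    (h𝒳 : FibCat.IsFibGrpd 𝒳.p)
    (e : BasedFunctor.comp x π ≅ BasedFunctor.id (FibCat.overCat U))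
    (hx : AlgSt.RepByAlgSpWith (LP Q) x) (r : AutRep x (ptsGrp U G)) : Q G.hom := by
  let E := BasedFunctor.comp (AlgSt.toOverCat (grpBase U G)) (autComparison r)
  have hE : FibCat.IsEquivOver E :=
    isEquivOver_comp (toOverCat_isEquivOver _) (autComparison_isEquivOver r h𝒳 e)
  obtain ⟨k⟩ := spMapOfOver_eq (BasedFunctor.comp (AlgSt.toOverCat (grpBase U G))
    (AlgSt.overMap (grpHom U G)))
  have h := prop_of_repData (sourceIsoInv_locP _) (hx U x)
    (G := ⟨(AlgSp.yon S).obj (grpBase U G), AlgSp.IsAlgSpace.yon_obj _⟩) (e := E) hE k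
  rw [spMapOfOver_overMap, spMapOfOver_toOverCat, Category.id_comp] at h
  exact (locP_yon_iff hQ (grpHom U G)).1 h

end Groth.Agent.H14Gerbe
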