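import Groth.Agent.H14SpQuot.AutSheaf
import Groth.Agent.H14SpQuot.Neutral
import Groth.Agent.H14Gerbe.AutDiag
import Groth.Agent.H14AlgSt.DiagLFT

/-!
# The automorphism group space of a point with representable diagonal
-/

set_option autoImplicit false
set_option backward.isDefEq.respectTransparency false
set_option backward.isDefEq.respectTransparency.types false
set_option linter.style.haveILetI false
set_option linter.unusedVariables false

universe u

open CategoryTheory CategoryTheory.Limits Opposite AlgebraicGeometry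
open MonoidalCategory CartesianMonoidalCategory MonObj
open AlgSp (yon)

noncomputable section

namespace Groth.Agent.H14Gerbe

open H14Fib H14Stk H14AlgSt H14SpQuot Gerb

variable {S : Scheme.{u}} {F : AlgSp.Sp S} {𝒳 : AlgSt.Cat S}

local notation "LP" => AlgSp.LocP

variable (x : AlgSt.ofSp F ⥤ᵇ 𝒳) (h : FibCat.IsFibGrpd 𝒳.p)

/-- Two copies of a point of a sheaf. -/
abbrev sqPtSp : AlgSt.ofSp F ⥤ᵇ FibCat.fp (FibCat.toSelf 𝒳) (FibCat.toSelf 𝒳) :=
  FibCat.fpLift x x (Iso.refl _)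

/-- The universal automorphism as an isomorphism of pairs. -/
def sqIsoSp : BasedFunctor.comp (Stk.ofPshMap (autFst x h)) (sqPtSp x) ≅
    BasedFunctor.comp (BasedFunctor.comp (Stk.ofPshMap (autFst x h)) x)
      (FibCat.diag (FibCat.toSelf 𝒳)) :=
  mkIso (fun o => fpIsoMk (autIso (autPt x h o)) (Iso.refl _) (by
      change 𝒳.p.map (autPt x h o).hom.1 ≫ 𝟙 _ = 𝟙 _ ≫ 𝒳.p.map (𝟙 _)
      rw [H14SpQuot.map_autO]
      simp))
    (fun {o' o} m => by
      refine fp_hom_ext ?_ ?_
      · exact (H14SpQuot.univAut x h).hom.toNatTrans.naturality m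
      · exact (Category.comp_id _).trans (Category.id_comp _).symm)
    (fun o => (fp_isHomLift_iff _ _).2
      (H14SpQuot.isHomLift_congr_id (x.w_obj _) (autIso_lift (autPt x h o))))

/-- The comparison with the base change of the diagonal. -/
abbrev autToDiag : Stk.ofPsh (autPsh x h) ⥤ᵇ FibCat.fp (sqPtSp x) (FibCat.diag (FibCat.toSelf 𝒳)) :=
  FibCat.fpLift (Stk.ofPshMap (autFst x h)) (BasedFunctor.comp (Stk.ofPshMap (autFst x h)) x)
    (sqIsoSp x h)

lemma autToDiag_isEquivOver : FibCat.IsEquivOver (autToDiag x h) := by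
  refine (isEquivOver_iff _).2 ⟨⟨⟨fun {o' o} m => ?_⟩, ⟨fun {o' o} m n hmn => ?_⟩⟩, fun z => ?_⟩
  · let f₁ : (Stk.ofPshMap (autFst x h)).obj o' ⟶ (Stk.ofPshMap (autFst x h)).obj o := m.hom.fst
    let hx : x.obj ((Stk.ofPshMap (autFst x h)).obj o') ⟶ x.obj ((Stk.ofPshMap (autFst x h)).obj o) :=
      m.hom.snd
    have hw1 : x.map f₁ ≫ (autPt x h o).hom.1 = (autPt x h o').hom.1 ≫ hx :=
      congrArg (fun t => t.hom.fst) m.hom.w
    have hw2 : x.map f₁ ≫ 𝟙 _ = 𝟙 _ ≫ hx := congrArg (fun t => t.hom.snd) m.hom.w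
    have hhx : hx = x.map f₁ :=
      ((Category.comp_id _).symm.trans (hw2.trans (Category.id_comp _))).symm
    rw [hhx] at hw1
    have hr := res_unique x h f₁ _ _ hw1.symm
    have hsec : (autPsh x h).map f₁.hom.op o.sec = o'.sec :=
      (sigma_res_ext x h f₁.map_sec (eltMap f₁.hom.op o.sec.1) f₁ rfl o.sec.2).trans
        (congrArg (Sigma.mk o'.sec.1) hr.symm)
    exact ⟨⟨f₁.hom, hsec⟩, fp_hom_ext (Stk.EltObj.hom_ext rfl) hhx.symm⟩
  · exact Stk.EltObj.hom_ext
      (congrArg (fun φ : (autToDiag x h).obj o' ⟶ (autToDiag x h).obj o => φ.hom.fst.hom) hmn)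
  · let t : (AlgSt.ofSp F).obj := z.obj.fst
    let I₁ : x.obj t ≅ z.obj.snd :=
      (FibCat.fpFst (FibCat.toSelf 𝒳) (FibCat.toSelf 𝒳)).toFunctor.mapIso z.obj.iso
    let I₂ : x.obj t ≅ z.obj.snd :=
      (FibCat.fpSnd (FibCat.toSelf 𝒳) (FibCat.toSelf 𝒳)).toFunctor.mapIso z.obj.iso
    have hz : (FibCat.fp (FibCat.toSelf 𝒳) (FibCat.toSelf 𝒳)).p.IsHomLift (𝟙 t.base) z.obj.iso.hom :=
      z.property
    have h₁ : 𝒳.p.IsHomLift (𝟙 t.base) I₁.hom :=
      @BasedFunctor.preserves_isHomLift _ _ _ _ (FibCat.fpFst _ _) _ _ _ _ _ _ hz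
    have h₂ : 𝒳.p.IsHomLift (𝟙 t.base) I₂.hom :=
      @BasedFunctor.preserves_isHomLift _ _ _ _ (FibCat.fpSnd _ _) _ _ _ _ _ _ hz
    let φ : AutO (x.obj t) := autMk (I₁ ≪≫ I₂.symm) (H14SpQuot.isHomLift_congr_id (x.w_obj t).symm
      (homLift_id_comp h₁ (@IsHomLift.lift_id_inv _ _ _ _ 𝒳.p _ _ _ I₂ h₂)))
    let s : (Stk.ofPsh (autPsh x h)).obj :=
      (⟨t.base, ⟨t.sec, φ⟩⟩ : Stk.EltObj (autPsh x h))
    refine ⟨s, fpIsoMk (Iso.refl t) I₂ ?_, (fp_isHomLift_iff _ _).2 (IsHomLift.id rfl)⟩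
    refine fp_hom_ext ?_ ?_
    · change x.map (𝟙 t) ≫ I₁.hom = (I₁.hom ≫ I₂.inv) ≫ I₂.hom
      rw [show x.map (𝟙 t) = 𝟙 (x.obj t) from x.toFunctor.map_id t, Category.id_comp, Category.assoc,
        I₂.inv_hom_id, Category.comp_id]
    · change x.map (𝟙 t) ≫ I₂.hom = 𝟙 _ ≫ I₂.hom
      rw [show x.map (𝟙 t) = 𝟙 (x.obj t) from x.toFunctor.map_id t]

theorem isAlgSpaceP_autPsh_of_diag (hΔ : AlgSt.RepByAlgSp1 (FibCat.diag (FibCat.toSelf 𝒳)))
    (hF : AlgSp.IsAlgSpace F) : AlgSp.IsAlgSpaceP (autPsh x h) :=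
  repByAlgSp_ofPsh_iff.1 (repByAlgSp_of_equiv' (autToDiag_isEquivOver x h)
    (repByAlgSp_fp h (fp_fibGrpd h h selfOver_fibGrpd) hΔ (sqPtSp x) (repByAlgSp_ofSp ⟨F, hF⟩)))

/-- A property of the diagonal holds of the automorphism space of a point of a scheme. -/
theorem prop_autG_of_diag {P : MorphismProperty (AlgSp.Sp S)} (hP : SourceIsoInv P) {U : Over S}
    (x : AlgSt.ofSp ((yon S).obj U) ⥤ᵇ 𝒳) (h : FibCat.IsFibGrpd 𝒳.p)
    (hs : Presheaf.IsSheaf (AlgSp.J S) (autPsh x h))
    (hA : AlgSp.IsAlgSpace (autG x h hs).left)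
    (hd : AlgSt.RepByAlgSpWith P (FibCat.diag (FibCat.toSelf 𝒳))) : P (autG x h hs).hom := by
  have h1 : AlgSt.RepByAlgSpWith P (AlgSt.ofSpMap (autG x h hs).hom) := by
    change AlgSt.RepByAlgSpWith P (BasedFunctor.comp (autToDiag x h)
      (FibCat.fpFst (sqPtSp x) (FibCat.diag (FibCat.toSelf 𝒳))))
    exact (repWith_square (f := FibCat.fpFst (sqPtSp x) (FibCat.diag (FibCat.toSelf 𝒳)))
      (f' := BasedFunctor.comp (autToDiag x h)
        (FibCat.fpFst (sqPtSp x) (FibCat.diag (FibCat.toSelf 𝒳)))) (autToDiag_isEquivOver x h)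
      (isEquivOver_id _) (Iso.refl _)).1 (repWith_fpFst _ hd)
  have h2 := prop_of_repWith_spMap (F := (⟨_, hA⟩ : AlgSp.Space S)) hP
    ((repWith_comp_equiv_iff (toOverCat_isEquivOver U)).2 h1)
  rwa [spMapOfOver_comp, spMapOfOver_toOverCat, Category.comp_id] at h2

section Slice

variable {U : Over S} (y : FibCat.overCat U ⥤ᵇ 𝒳) (h : FibCat.IsFibGrpd 𝒳.p)
  (hs : Presheaf.IsSheaf (AlgSp.J S) (autPsh (BasedFunctor.comp (AlgSt.toOverCat U) y) h))

/-- An object of the slice as an object over a sheaf. -/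
abbrev pointOver (t : Over U) : Over ((yon S).obj U) := Over.mk ((yon S).map t.hom)

/-- The element of an object of the slice. -/
abbrev pointElt (t : Over U) : (AlgSt.ofSp ((yon S).obj U)).obj :=
  (⟨t.left, ⟨t.hom⟩⟩ : Stk.EltObj ((yon S).obj U).obj)

lemma pointHom_pointElt (t : Over U) : (yon S).map t.hom = pointHom (pointElt t) :=
  ((Equiv.symm_apply_eq _).2 ((AlgSp.J S).uliftYonedaEquiv_uliftYoneda_map t.hom).symm).symm

/-- The morphisms into the automorphism space are the automorphisms. -/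
def autPts (t : Over U) :
    letI := autGrp (BasedFunctor.comp (AlgSt.toOverCat U) y) h hs
    (pointOver t ⟶ autG (BasedFunctor.comp (AlgSt.toOverCat U) y) h hs) ≃* AutO (y.obj t) :=
  letI := autGrp (BasedFunctor.comp (AlgSt.toOverCat U) y) h hs
  { Equiv.ofBijective (evAt hs (pointElt t) (pointHom_pointElt t))
      (evAt_bijective hs (pointElt t) (pointHom_pointElt t)) with
    map_mul' := evAt_mul hs (pointElt t) (pointHom_pointElt t) }

lemma autPts_natural {t' t : Over U} (m : t' ⟶ t)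
    (wb : (yon S).map m.left ≫ (yon S).map t.hom = (yon S).map t'.hom)
    (φ : pointOver t ⟶ autG (BasedFunctor.comp (AlgSt.toOverCat U) y) h hs) :
    (autPts y h hs t' ((Over.homMk ((yon S).map m.left) wb : pointOver t' ⟶ pointOver t) ≫ φ)).hom.1 ≫
      y.map m = y.map m ≫ (autPts y h hs t φ).hom.1 := by
  let μ' : pointElt t' ⟶ pointElt t :=
    (⟨m.left, ULift.ext _ _ (Over.w m)⟩ :
      (⟨t'.left, ⟨t'.hom⟩⟩ : Stk.EltObj ((yon S).obj U).obj) ⟶ ⟨t.left, ⟨t.hom⟩⟩)
  change (evAt hs (pointElt t') (pointHom_pointElt t')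
    ((Over.homMk ((yon S).map μ'.hom) wb : pointOver t' ⟶ pointOver t) ≫ φ)).hom.1 ≫ y.map m =
      y.map m ≫ (evAt hs (pointElt t) (pointHom_pointElt t) φ).hom.1
  rw [evAt_natural hs μ' (pointHom_pointElt t') (pointHom_pointElt t) wb φ]
  exact res_spec (BasedFunctor.comp (AlgSt.toOverCat U) y) h μ' _

/-- An object of the slice over the scheme as an object over the sheaf. -/
abbrev sliceYon (U : Over S) : Over U.left ⥤ Over ((yon S).obj U) :=
  Over.iteratedSliceBackward U ⋙ Over.post (yon S)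

/-- The comparison of the two objects of a point. -/
def sliceYonPt (t : Over U) :
    (sliceYon U).obj ((Over.iteratedSliceForward U).obj t) ≅ pointOver t :=
  Over.isoMk ((yon S).mapIso (Over.isoMk (Iso.refl _)
    ((Category.id_comp _).trans (Over.w t.hom).symm))) (by
      rw [Functor.mapIso_hom]
      exact ((yon S).map_comp _ _).symm.trans (congrArg (yon S).map (Over.OverMorphism.ext
        (Category.id_comp _))))

/-- A scheme isomorphic to the automorphism space is the automorphism group scheme. -/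
theorem exists_autRep_of_scheme (G : Over U.left)
    (io : (sliceYon U).obj G ≅ autG (BasedFunctor.comp (AlgSt.toOverCat U) y) h hs)
    (hff : (sliceYon U).FullyFaithful) :
    ∃ _ : GrpObj G, Nonempty (AutRep y (ptsGrp U G)) := by
  letI := autGrp (BasedFunctor.comp (AlgSt.toOverCat U) y) h hs
  let P : (Over U.left)ᵒᵖ ⥤ GrpCat.{u + 1} :=
    (sliceYon U).op ⋙ yonedaGrpObj (autG (BasedFunctor.comp (AlgSt.toOverCat U) y) h hs)
  let α : (P ⋙ forget GrpCat.{u + 1}).RepresentableBy G :=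
    { homEquiv := fun {T} => hff.homEquiv.trans (Iso.homCongr (Iso.refl _) io)
      homEquiv_comp := fun {T T'} a b => by
        change 𝟙 _ ≫ (sliceYon U).map (a ≫ b) ≫ io.hom =
          (sliceYon U).map a ≫ 𝟙 _ ≫ (sliceYon U).map b ≫ io.hom
        rw [Category.id_comp, Category.id_comp, Functor.map_comp, Category.assoc] }
  letI : GrpObj G := GrpObj.ofRepresentableBy G P α
  have hc : ∀ {T' T : Over U.left} (a : T' ⟶ T) (b : T ⟶ G),
      (α.homEquiv (a ≫ b) : P.obj (op T')) = P.map a.op (α.homEquiv b : P.obj (op T)) :=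
    fun a b => α.homEquiv_comp a b
  have hμ : (α.homEquiv (μ[G] : G ⊗ G ⟶ G) : P.obj (op (G ⊗ G))) =
      (α.homEquiv (fst G G) : P.obj (op (G ⊗ G))) * α.homEquiv (snd G G) :=
    Equiv.apply_symm_apply _ _
  have hmul : ∀ {T : Over U.left} (a b : T ⟶ G),
      (α.homEquiv (a * b) : P.obj (op T)) = (α.homEquiv a : P.obj (op T)) * α.homEquiv b := by
    intro T a b
    rw [Hom.mul_def, hc, hμ, map_mul, ← hc, ← hc, lift_fst, lift_snd]
  let A := autG (BasedFunctor.comp (AlgSt.toOverCat U) y) h hs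
  let e : ∀ t : Over U, ((Over.iteratedSliceForward U).obj t ⟶ G) ≃* AutO (y.obj t) := fun t =>
    ({ (α.homEquiv (X := (Over.iteratedSliceForward U).obj t)) with
        map_mul' := hmul } : ((Over.iteratedSliceForward U).obj t ⟶ G) ≃*
          ((sliceYon U).obj ((Over.iteratedSliceForward U).obj t) ⟶ A)).trans
      (({ toFun := fun g => (sliceYonPt t).inv ≫ g
          invFun := fun g => (sliceYonPt t).hom ≫ g
          left_inv := fun g => (sliceYonPt t).hom_inv_id_assoc g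
          right_inv := fun g => (sliceYonPt t).inv_hom_id_assoc g
          map_mul' := fun g g' => MonObj.comp_mul _ _ _ } :
        ((sliceYon U).obj ((Over.iteratedSliceForward U).obj t) ⟶ A) ≃* (pointOver t ⟶ A)).trans
          (autPts y h hs t))
  refine ⟨inferInstance, ⟨⟨e, fun {t' t} m a => ?_⟩⟩⟩
  let g : (sliceYon U).obj ((Over.iteratedSliceForward U).obj t) ⟶ A := α.homEquiv a
  let wb : (yon S).map m.left ≫ (yon S).map t.hom = (yon S).map t'.hom :=
    ((yon S).map_comp _ _).symm.trans (congrArg (yon S).map (Over.w m))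
  have hn := autPts_natural y h hs m wb ((sliceYonPt t).inv ≫ g)
  have key : (sliceYonPt t').inv ≫
      (α.homEquiv ((Over.iteratedSliceForward U).map m ≫ a) :
        (sliceYon U).obj ((Over.iteratedSliceForward U).obj t') ⟶ A) =
      (Over.homMk ((yon S).map m.left) wb : pointOver t' ⟶ pointOver t) ≫
        (sliceYonPt t).inv ≫ g := by
    rw [α.homEquiv_comp]
    change (sliceYonPt t').inv ≫ (sliceYon U).map ((Over.iteratedSliceForward U).map m) ≫ g = _
    rw [← Category.assoc, ← Category.assoc]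
    refine congrArg (· ≫ g) (Over.OverMorphism.ext ?_)
    refine ((yon S).map_comp _ _).symm.trans
      ((congrArg (yon S).map (Over.OverMorphism.ext ?_)).trans ((yon S).map_comp _ _))
    exact (Category.id_comp _).trans (Category.comp_id _).symm
  change (autPts y h hs t' ((sliceYonPt t').inv ≫
    (α.homEquiv ((Over.iteratedSliceForward U).map m ≫ a) :
      (sliceYon U).obj ((Over.iteratedSliceForward U).obj t') ⟶ A))).hom.1 ≫ y.map m = _
  rw [key]
  exact hn

end Slice

end Groth.Agent.H14Gerbe
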