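import Groth.Agent.H14AlgSt.LocQ2
import Groth.Agent.H14AlgSt.DiagLFT

/-!
# Spaces representing fibres, their base changes and their sections
-/

set_option autoImplicit false
set_option backward.isDefEq.respectTransparency false
set_option backward.isDefEq.respectTransparency.types false

universe u

open CategoryTheory Opposite AlgebraicGeometry CategoryTheory.Limits

noncomputable section

namespace Groth.Agent.H14Gerbe

open H14Fib H14Stk H14AlgSt

variable {S : Scheme.{u}} {𝒳 𝒴 : AlgSt.Cat S} {f : 𝒳 ⥤ᵇ 𝒴} {U : Over S}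

/-- The base change of a representing space represents the base change. -/
lemma exists_fibre_baseChange (y : FibCat.overCat U ⥤ᵇ 𝒴) {G : AlgSp.Space S}
    {e : AlgSt.ofSp G.obj ⥤ᵇ FibCat.fp y f} (he : FibCat.IsEquivOver e)
    {C : Over S} (c : C ⟶ U) :
    AlgSp.IsAlgSpace
        (pullback (AlgSt.spMapOfOver (BasedFunctor.comp e (FibCat.fpFst y f))) ((AlgSp.yon S).map c)) ∧
    ∃ E : AlgSt.ofSp
        (pullback (AlgSt.spMapOfOver (BasedFunctor.comp e (FibCat.fpFst y f))) ((AlgSp.yon S).map c)) ⥤ᵇ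
        FibCat.fp (BasedFunctor.comp (AlgSt.overMap c) y) f, FibCat.IsEquivOver E ∧
      Nonempty (BasedFunctor.comp E (FibCat.fpFst (BasedFunctor.comp (AlgSt.overMap c) y) f) ≅
        BasedFunctor.comp (AlgSt.ofSpMap
          (pullback.snd (AlgSt.spMapOfOver (BasedFunctor.comp e (FibCat.fpFst y f)))
            ((AlgSp.yon S).map c))) (AlgSt.toOverCat C)) := by
  let q := BasedFunctor.comp e (FibCat.fpFst y f)
  let π := AlgSt.spMapOfOver q
  obtain ⟨kq⟩ := spMapOfOver_eq q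
  let T := (AlgSp.yon S).map c
  have sq := IsPullback.of_hasPullback π T
  have hA : AlgSp.IsAlgSpace (pullback π T) :=
    H12AlgSp.isAlgSpace_of_isPullback (AlgSp.IsAlgSpace.yon_obj U).diag G.property
      (AlgSp.IsAlgSpace.yon_obj C) sq
  refine ⟨hA, ?_⟩
  obtain ⟨⟨_, _⟩, -⟩ := (isEquivOver_iff _).1 (toOverCat_isEquivOver U)
  obtain ⟨⟨_, _⟩, hes⟩ := (isEquivOver_iff _).1 he
  have : (BasedFunctor.id (AlgSt.ofSp G.obj)).toFunctor.Full :=
    inferInstanceAs (𝟭 (Stk.EltObj G.obj.obj)).Full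
  have : (BasedFunctor.id (AlgSt.ofSp G.obj)).toFunctor.Faithful :=
    inferInstanceAs (𝟭 (Stk.EltObj G.obj.obj)).Faithful
  let y₀ := BasedFunctor.comp (AlgSt.ofOverCat C) (Stk.ofPshMap T.hom)
  have sq' : IsPullback (pullback.snd π T).hom (pullback.fst π T).hom (testMap y₀) π.hom := by
    rw [testMap_ofOverCat]
    exact (sq.map (sheafToPresheaf (AlgSp.J S) (Type (u + 1)))).flip
  obtain ⟨E, hE, ⟨k⟩⟩ := exists_comparison π.hom y₀ sq'
  let m : AlgSt.overMap c ≅ BasedFunctor.comp y₀ (AlgSt.toOverCat U) :=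
    mkIso (fun s => Iso.refl _)
      (fun {_ _} φ => (Category.comp_id _).trans ((Category.id_comp _).trans
        (Over.OverMorphism.ext rfl)).symm)
      (fun s => IsHomLift.id rfl)
  let M₁ : FibCat.fp y₀ (AlgSt.ofSpMap π) ⥤ᵇ FibCat.fp (AlgSt.overMap c) q :=
    fpMap (BasedFunctor.id _) (BasedFunctor.id (AlgSt.ofSp G.obj)) (AlgSt.toOverCat U) m.symm kq.symm
  have hM₁ : FibCat.IsEquivOver M₁ :=
    fpMap_isEquivOver _ _ _ _ _ (essSurjOver_id _) (essSurjOver_id _)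
  let M₂ : FibCat.fp (AlgSt.overMap c) q ⥤ᵇ
      FibCat.fp (AlgSt.overMap c) (FibCat.fpFst y f) :=
    fpMap (BasedFunctor.id _) e (BasedFunctor.id (FibCat.overCat U)) (Iso.refl _) (Iso.refl q)
  have hM₂ : FibCat.IsEquivOver M₂ := fpMap_isEquivOver _ _ _ _ _ (essSurjOver_id _) hes
  exact ⟨BasedFunctor.comp (BasedFunctor.comp (BasedFunctor.comp E M₁) M₂)
      (pasteBase y f (AlgSt.overMap c)),
    isEquivOver_comp (isEquivOver_comp (isEquivOver_comp hE hM₁) hM₂)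
      (pasteBase_isEquivOver y f (AlgSt.overMap c)), ⟨k⟩⟩

/-- A lift of a morphism of schemes to a fibre gives a morphism to the representing space. -/
lemma exists_map_of_fun (y : FibCat.overCat U ⥤ᵇ 𝒴) {G : AlgSp.Space S}
    {e : AlgSt.ofSp G.obj ⥤ᵇ FibCat.fp y f} (he : FibCat.IsEquivOver e)
    {C : Over S} (c : C ⟶ U) (z : FibCat.overCat C ⥤ᵇ FibCat.fp y f)
    (i : BasedFunctor.comp z (FibCat.fpFst y f) ≅ AlgSt.overMap c) :
    ∃ m : (AlgSp.yon S).obj C ⟶ G.obj,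
      m ≫ AlgSt.spMapOfOver (BasedFunctor.comp e (FibCat.fpFst y f)) = (AlgSp.yon S).map c := by
  obtain ⟨e', _, ⟨j'⟩⟩ := he
  let Ψ : AlgSt.ofSp ((AlgSp.yon S).obj C) ⥤ᵇ AlgSt.ofSp G.obj :=
    BasedFunctor.comp (BasedFunctor.comp (AlgSt.toOverCat C) z) e'
  let m : (AlgSp.yon S).obj C ⟶ G.obj := ObjectProperty.homMk (mapOfFun Ψ)
  let π := AlgSt.spMapOfOver (BasedFunctor.comp e (FibCat.fpFst y f))
  obtain ⟨kq⟩ := spMapOfOver_eq (BasedFunctor.comp e (FibCat.fpFst y f))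
  have kΨ : Ψ ≅ AlgSt.ofSpMap m := isoOfPshMap Ψ
  have k : BasedFunctor.comp (AlgSt.ofSpMap (m ≫ π)) (AlgSt.toOverCat U) ≅
      BasedFunctor.comp (AlgSt.toOverCat C) (AlgSt.overMap c) :=
    (Stk.restr (AlgSt.ofSpMap m) _).mapIso kq.symm ≪≫
    (post (AlgSt.ofSp ((AlgSp.yon S).obj C)) (BasedFunctor.comp e (FibCat.fpFst y f))).mapIso kΨ.symm ≪≫
    (post (AlgSt.ofSp ((AlgSp.yon S).obj C)) (FibCat.fpFst y f)).mapIso
      ((Stk.restr (BasedFunctor.comp (AlgSt.toOverCat C) z) _).mapIso j') ≪≫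
    (Stk.restr (AlgSt.toOverCat C) _).mapIso i
  have h := spMapOfOver_congr k
  rw [spMapOfOver_comp, spMapOfOver_toOverCat, Category.comp_id, spMapOfOver_overMap,
    spMapOfOver_toOverCat, Category.id_comp] at h
  exact ⟨m, h⟩

end Groth.Agent.H14Gerbe
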