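import Groth.Agent.H14Gerbe.QC
import Groth.Agent.H14Gerbe.Fibre
import Groth.Agent.H14AlgSt.InertiaDiag
import Groth.Agent.H12AlgSp.FppfBootstrap

/-!
# The space below a gerbe with flat, finitely presented inertia
-/

set_option autoImplicit false
set_option backward.isDefEq.respectTransparency false
set_option backward.isDefEq.respectTransparency.types false

universe u

open CategoryTheory CategoryTheory.Functor Opposite AlgebraicGeometry CategoryTheory.Limits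

noncomputable section

namespace Groth.Agent.H14Gerbe

open H14Fib H14Stk H14AlgSt

variable {S : Scheme.{u}} {𝒳 : AlgSt.Cat S} {U : Over S}

local notation "K₀" => Scheme.fppfPrecoverage
local notation "LP" => AlgSp.LocP
local notation "Y₀" => AlgSp.yon S

/-- A pair of functors into the product over the base agree when their components do. -/
lemma prodIso {𝒜 : AlgSt.Cat S} {Φ Ψ : 𝒜 ⥤ᵇ FibCat.fp (FibCat.toSelf 𝒳) (FibCat.toSelf 𝒳)}
    (i₁ : BasedFunctor.comp Φ (FibCat.fpFst _ _) ≅ BasedFunctor.comp Ψ (FibCat.fpFst _ _))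
    (i₂ : BasedFunctor.comp Φ (FibCat.fpSnd _ _) ≅ BasedFunctor.comp Ψ (FibCat.fpSnd _ _)) :
    Nonempty (Φ ≅ Ψ) := by
  refine ⟨mkIso (fun a => fpIsoMk (appIso i₁ a) (appIso i₂ a) ?_)
    (fun {_ _} m => fp_hom_ext (i₁.hom.toNatTrans.naturality m) (i₂.hom.toNatTrans.naturality m))
    (fun a => (fp_isHomLift_iff _ _).2 (appIso_lift i₁ rfl))⟩
  obtain ⟨_, h1⟩ := self_hom_eq _ (Φ.obj a).property
  obtain ⟨_, h2⟩ := self_hom_eq _ (Ψ.obj a).property
  have l₁ : 𝒳.p.IsHomLift (𝟙 (𝒜.p.obj a)) (appIso i₁ a).hom := appIso_lift i₁ rfl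
  have l₂ : 𝒳.p.IsHomLift (𝟙 (𝒜.p.obj a)) (appIso i₂ a).hom := appIso_lift i₂ rfl
  change 𝒳.p.map (appIso i₁ a).hom ≫ (Ψ.obj a).obj.iso.hom =
    (Φ.obj a).obj.iso.hom ≫ 𝒳.p.map (appIso i₂ a).hom
  rw [h1, h2, IsHomLift.fac' 𝒳.p (𝟙 (𝒜.p.obj a)) (appIso i₁ a).hom,
    IsHomLift.fac' 𝒳.p (𝟙 (𝒜.p.obj a)) (appIso i₂ a).hom]
  simp

/-- Functors on a scheme with a common local value agree there. -/
lemma iso_of_span (h𝒳 : FibCat.IsFibGrpd 𝒳.p) {T V : Over S} (f : V ⟶ T)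
    (F₁ F₂ : FibCat.overCat T ⥤ᵇ 𝒳) {x₀ : 𝒳.obj} (φ : x₀ ⟶ F₁.obj (topObj T))
    (ψ : x₀ ⟶ F₂.obj (topObj T)) (hφ : 𝒳.p.IsHomLift f φ) (hψ : 𝒳.p.IsHomLift f ψ) :
    Nonempty (BasedFunctor.comp (AlgSt.overMap f) F₁ ≅ BasedFunctor.comp (AlgSt.overMap f) F₂) := by
  let s : (FibCat.overCat T).obj := (Over.map f).obj (topObj V)
  have hs : s.hom = f := Category.id_comp _
  have hm₁ : 𝒳.p.IsHomLift f (F₁.map (toTop s)) := hs ▸ over_map_toTop_lift F₁ s
  have hm₂ : 𝒳.p.IsHomLift f (F₂.map (toTop s)) := hs ▸ over_map_toTop_lift F₂ s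
  obtain ⟨i₁, hi₁, -⟩ := exists_vertIso h𝒳 f (F₁.map (toTop s)) φ
  obtain ⟨i₂, hi₂, -⟩ := exists_vertIso h𝒳 f ψ (F₂.map (toTop s))
  exact ⟨isoOfTop (topSC_of_fibGrpd h𝒳 _) (topSC_of_fibGrpd h𝒳 _) (i₁ ≪≫ i₂)
    (homLift_id_comp hi₁ hi₂)⟩

/-- A common point for any projection from a fibre product. -/
lemma exists_point_all {𝒬 : AlgSt.Cat S} {G : AlgSp.Space S} {e : AlgSt.ofSp G.obj ⥤ᵇ 𝒬}
    (he : FibCat.IsEquivOver e) {T : Over S} (z : FibCat.overCat T ⥤ᵇ 𝒬) :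
    ∃ m : (Y₀).obj T ⟶ G.obj, ∀ {V : Over S} (pr : 𝒬 ⥤ᵇ FibCat.overCat V) (c : T ⟶ V),
      Nonempty (BasedFunctor.comp z pr ≅ AlgSt.overMap c) →
        m ≫ AlgSt.spMapOfOver (BasedFunctor.comp e pr) = (Y₀).map c := by
  obtain ⟨e', _, ⟨j'⟩⟩ := he
  let Ψ : AlgSt.ofSp ((Y₀).obj T) ⥤ᵇ AlgSt.ofSp G.obj :=
    BasedFunctor.comp (BasedFunctor.comp (AlgSt.toOverCat T) z) e'
  let m : (Y₀).obj T ⟶ G.obj := ObjectProperty.homMk (mapOfFun Ψ)
  refine ⟨m, fun {V} pr c ⟨i⟩ => ?_⟩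
  obtain ⟨kq⟩ := spMapOfOver_eq (BasedFunctor.comp e pr)
  have kΨ : Ψ ≅ AlgSt.ofSpMap m := isoOfPshMap Ψ
  have k : BasedFunctor.comp (AlgSt.ofSpMap (m ≫ AlgSt.spMapOfOver (BasedFunctor.comp e pr)))
      (AlgSt.toOverCat V) ≅ BasedFunctor.comp (AlgSt.toOverCat T) (AlgSt.overMap c) :=
    (Stk.restr (AlgSt.ofSpMap m) _).mapIso kq.symm ≪≫
    (post (AlgSt.ofSp ((Y₀).obj T)) (BasedFunctor.comp e pr)).mapIso kΨ.symm ≪≫
    (post (AlgSt.ofSp ((Y₀).obj T)) pr).mapIso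
      ((Stk.restr (BasedFunctor.comp (AlgSt.toOverCat T) z) _).mapIso j') ≪≫
    (Stk.restr (AlgSt.toOverCat T) _).mapIso i
  have h := spMapOfOver_congr k
  rw [spMapOfOver_comp, spMapOfOver_toOverCat, Category.comp_id, spMapOfOver_overMap,
    spMapOfOver_toOverCat, Category.id_comp] at h
  exact h

/-- Composites with a functor to a sheaf, read on the sheaves. -/
lemma comp_spMap {F G : AlgSp.Sp S} (Ψ : FibCat.overCat U ⥤ᵇ AlgSt.ofSp F)
    (a : AlgSt.ofSp G ⥤ᵇ FibCat.overCat U) :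
    Nonempty (BasedFunctor.comp a Ψ ≅ AlgSt.ofSpMap
      (AlgSt.spMapOfOver a ≫ (ObjectProperty.homMk (testMap Ψ) : (Y₀).obj U ⟶ F))) := by
  obtain ⟨k⟩ := spMapOfOver_eq a
  exact ⟨(post (AlgSt.ofSp G) Ψ).mapIso k.symm.symm ≪≫
    (Stk.restr (AlgSt.ofSpMap (AlgSt.spMapOfOver a)) _).mapIso
      (isoOfPshMap (BasedFunctor.comp (AlgSt.toOverCat U) Ψ))⟩

lemma eq_of_comp_iso {F G : AlgSp.Sp S} (Ψ : FibCat.overCat U ⥤ᵇ AlgSt.ofSp F)
    (a b : AlgSt.ofSp G ⥤ᵇ FibCat.overCat U) (i : BasedFunctor.comp a Ψ ≅ BasedFunctor.comp b Ψ) :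
    AlgSt.spMapOfOver a ≫ (ObjectProperty.homMk (testMap Ψ) : (Y₀).obj U ⟶ F) =
      AlgSt.spMapOfOver b ≫ (ObjectProperty.homMk (testMap Ψ) : (Y₀).obj U ⟶ F) := by
  obtain ⟨ka⟩ := comp_spMap Ψ a
  obtain ⟨kb⟩ := comp_spMap Ψ b
  exact Sheaf.hom_ext (ofPshMap_injective (ka.symm ≪≫ i ≪≫ kb))

lemma iso_of_point_eq {F : AlgSp.Sp S} (Ψ : FibCat.overCat U ⥤ᵇ AlgSt.ofSp F) {T : Over S}
    (a b : T ⟶ U)
    (h : (Y₀).map a ≫ (ObjectProperty.homMk (testMap Ψ) : (Y₀).obj U ⟶ F) =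
      (Y₀).map b ≫ (ObjectProperty.homMk (testMap Ψ) : (Y₀).obj U ⟶ F)) :
    Nonempty (BasedFunctor.comp (AlgSt.overMap a) Ψ ≅ BasedFunctor.comp (AlgSt.overMap b) Ψ) := by
  obtain ⟨ka⟩ := comp_spMap Ψ (BasedFunctor.comp (AlgSt.toOverCat T) (AlgSt.overMap a))
  obtain ⟨kb⟩ := comp_spMap Ψ (BasedFunctor.comp (AlgSt.toOverCat T) (AlgSt.overMap b))
  have e : ∀ c : T ⟶ U, AlgSt.spMapOfOver (BasedFunctor.comp (AlgSt.toOverCat T) (AlgSt.overMap c)) =
      (Y₀).map c := fun c => by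
    rw [spMapOfOver_overMap, spMapOfOver_toOverCat, Category.id_comp]
  rw [e] at ka kb
  rw [h] at ka
  obtain ⟨E, ⟨i₁⟩, ⟨i₂⟩⟩ := toOverCat_isEquivOver T
  exact ⟨(post (FibCat.overCat T) (BasedFunctor.comp (AlgSt.overMap a) Ψ)).mapIso i₂.symm ≪≫
    (Stk.restr E _).mapIso (ka ≪≫ kb.symm) ≪≫
    (post (FibCat.overCat T) (BasedFunctor.comp (AlgSt.overMap b) Ψ)).mapIso i₂⟩

/-- The map to a sheaf below a gerbe from a chart is an epimorphism. -/
lemma epi_testMap {F : AlgSp.Sp S} (Ψ : FibCat.overCat U ⥤ᵇ AlgSt.ofSp F)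
    (hΨ : Gerb.LocSurjObj (QuotSh.J K₀ S) Ψ) :
    Epi (ObjectProperty.homMk (testMap Ψ) : (Y₀).obj U ⟶ F) := by
  refine H13AlgSp.epi_of_local_lifts _ fun T y => ?_
  let s := (AlgSp.J S).uliftYonedaEquiv y
  let o : (AlgSt.ofSp F).obj := (⟨T, s⟩ : Stk.EltObj F.obj)
  obtain ⟨R, hR, hloc⟩ := locObj_at hΨ o (U := T) rfl
  obtain ⟨C, c, hc1, hc2, hc3, hcR⟩ := exists_fppf_family (R := R) hR
  refine ⟨_, C, c, mem_J_of_fppf C c hc1 hc2 hc3, fun i => ?_⟩
  obtain ⟨d, g, hg⟩ := hloc (c i) (hcR i)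
  have hd : d.left = C i := obj_over_of_lift (f := c i) g
  let d' : C i ⟶ U := eqToHom hd.symm ≫ d.hom
  refine ⟨(Y₀).map d', (AlgSp.J S).uliftYonedaEquiv.injective ?_⟩
  rw [GrothendieckTopology.uliftYonedaEquiv_comp, GrothendieckTopology.uliftYonedaEquiv_uliftYoneda_map]
  rw [← GrothendieckTopology.uliftYonedaEquiv_naturality]
  obtain ⟨k⟩ : Nonempty (BasedFunctor.comp (AlgSt.toOverCat U) Ψ ≅ Stk.ofPshMap (testMap Ψ)) :=
    ⟨isoOfPshMap _⟩
  let el : (AlgSt.ofSp ((Y₀).obj U)).obj := (⟨C i, ULift.up d'⟩ : Stk.EltObj ((Y₀).obj U).obj)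
  let δ : (Over.mk d' : Over U) ⟶ d := Over.homMk (eqToHom hd.symm) rfl
  let m : (Stk.ofPshMap (testMap Ψ)).obj el ⟶ o := (appIso k el).inv ≫ Ψ.map δ ≫ g
  have hm : m.hom = c i := by
    have h1 : (AlgSt.ofSp F).p.IsHomLift (𝟙 (C i)) (appIso k el).inv :=
      appIso_inv_lift k rfl
    have h2 : (AlgSt.ofSp F).p.IsHomLift (𝟙 (C i)) (Ψ.map δ) := by
      have : (FibCat.overCat U).p.IsHomLift (𝟙 (C i)) δ :=
        IsHomLift.of_fac' _ _ _ rfl hd (by simp [δ]; rfl)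
      exact BasedFunctor.preserves_isHomLift Ψ _ _
    have h3 : (AlgSt.ofSp F).p.IsHomLift (c i) (Ψ.map δ ≫ g) :=
      IsHomLift.comp_lift_id_left' (AlgSt.ofSp F).p (C i) (Ψ.map δ) (c i) g
    have h4 : (AlgSt.ofSp F).p.IsHomLift (c i) m :=
      IsHomLift.comp_lift_id_left' (AlgSt.ofSp F).p (C i) (appIso k el).inv (c i) (Ψ.map δ ≫ g)
    exact (IsHomLift.fac' (AlgSt.ofSp F).p (c i) m).trans (by simp)
  have := m.map_sec
  rw [hm] at this
  exact this.symm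

variable (U) in
/-- The scheme of pairs of points of a chart, as a category of pairs. -/
def pairCat {c : U ⟶ Over.mk (𝟙 S)} (x : FibCat.overCat U ⥤ᵇ 𝒳) :
    FibCat.overCat (pullback c c) ⥤ᵇ FibCat.fp (BasedFunctor.comp x (FibCat.toSelf 𝒳))
      (BasedFunctor.comp x (FibCat.toSelf 𝒳)) :=
  FibCat.fpLift (AlgSt.overMap (pullback.fst c c)) (AlgSt.overMap (pullback.snd c c))
    (eqToIso (((congrArg (BasedFunctor.comp (AlgSt.overMap (pullback.fst c c))) (comp_toSelf x)).trans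
      (comp_toSelf _)).trans ((congrArg (BasedFunctor.comp (AlgSt.overMap (pullback.snd c c)))
        (comp_toSelf x)).trans (comp_toSelf _)).symm))

lemma pairCat_isEquivOver {c : U ⟶ Over.mk (𝟙 S)} (x : FibCat.overCat U ⥤ᵇ 𝒳) :
    FibCat.IsEquivOver (pairCat U (c := c) x) := by
  let pr₁ := pullback.fst c c
  let pr₂ := pullback.snd c c
  refine (isEquivOver_iff _).2 ⟨⟨⟨fun {a b} m => ?_⟩, ⟨fun {a b} m n h => ?_⟩⟩, fun z => ?_⟩
  · let φ : (AlgSt.overMap pr₁).obj a ⟶ (AlgSt.overMap pr₁).obj b := m.hom.fst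
    let ψ : (AlgSt.overMap pr₂).obj a ⟶ (AlgSt.overMap pr₂).obj b := m.hom.snd
    have hψ : ψ.left = φ.left := by
      have : (FibCat.overCat U).p.IsHomLift ((FibCat.fp _ _).p.map m) ψ :=
        FibCat.fp_isHomLift_snd _ _ m
      exact (IsHomLift.fac' (FibCat.overCat U).p ((FibCat.fp _ _).p.map m) ψ).trans (by simp; rfl)
    refine ⟨Over.homMk φ.left (pullback.hom_ext ?_ ?_), fp_hom_ext rfl (Over.OverMorphism.ext hψ.symm)⟩
    · rw [Category.assoc]
      exact Over.w φ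
    · rw [Category.assoc, ← hψ]
      exact Over.w ψ
  · exact Over.OverMorphism.ext (congrArg (fun t => t.hom.fst.left) h)
  · let a : (FibCat.overCat U).obj := z.obj.fst
    let b : (FibCat.overCat U).obj := z.obj.snd
    have hl : b.left = a.left := fp_snd_obj z
    let v : a.left ⟶ pullback c c := pullback.lift a.hom (eqToHom hl.symm ≫ b.hom)
      (Over.OverMorphism.ext (by
        have h1 := Over.w (a.hom ≫ c)
        have h2 := Over.w ((eqToHom hl.symm ≫ b.hom) ≫ c)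
        simp only [Over.mk_hom, Category.comp_id] at h1 h2
        exact h1.trans h2.symm))
    let s : (FibCat.overCat (pullback c c)).obj := Over.mk v
    let i₁ : (AlgSt.overMap pr₁).obj s ≅ a := Over.isoMk (Iso.refl _)
      ((Category.id_comp _).trans (pullback.lift_fst _ _ _).symm)
    let i₂ : (AlgSt.overMap pr₂).obj s ≅ b := Over.isoMk (eqToIso hl.symm)
      (pullback.lift_snd _ _ _).symm
    refine ⟨s, fpIsoMk i₁ i₂ ?_, (fp_isHomLift_iff _ _).2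
      (IsHomLift.of_fac' _ _ _ rfl rfl (by simp [i₁]; rfl))⟩
    obtain ⟨_, h1⟩ := self_hom_eq _ ((pairCat U (c := c) x).obj s).property
    obtain ⟨_, h2⟩ := self_hom_eq _ z.property
    change 𝒳.p.map (x.map i₁.hom) ≫ z.obj.iso.hom =
      ((pairCat U (c := c) x).obj s).obj.iso.hom ≫ 𝒳.p.map (x.map i₂.hom)
    have e : ∀ {p q : (FibCat.overCat U).obj} (i : p ⟶ q), 𝒳.p.map (x.map i) =
        eqToHom (x.w_obj p) ≫ i.left ≫ eqToHom (x.w_obj q).symm :=
      fun i => Functor.congr_hom x.w i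
    rw [h1, h2, e, e]
    simp [i₁, i₂]
    erw [Category.id_comp, eqToHom_trans]

/-- A sheaf below a gerbe with flat and finitely presented inertia is an algebraic space. -/
theorem isAlgSpace_below_gerbe (h𝒳 : AlgSt.IsAlgStack K₀ 𝒳) {F : AlgSp.Sp S}
    (π : 𝒳 ⥤ᵇ AlgSt.ofSp F) (hπ : Gerb.IsGerbeOver (QuotSh.J K₀ S) π)
    (hI₁ : AlgSt.RepByAlgSpWith (LP @Flat) (FibCat.inertiaToBase (FibCat.toSelf 𝒳)))
    (hI₂ : AlgSt.RepByAlgSpWith (LP @LocallyOfFinitePresentation)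
      (FibCat.inertiaToBase (FibCat.toSelf 𝒳))) : AlgSp.IsAlgSpace F := by
  obtain ⟨U, x, hx, hxs⟩ := h𝒳.atlas
  let Ψ := BasedFunctor.comp x π
  let q : (Y₀).obj U ⟶ F := ObjectProperty.homMk (testMap Ψ)
  have hq : Epi q := epi_testMap Ψ (locSurjObj_comp x π (locSurjObj_of_rep h𝒳.isStack.1
    (repWith_locP_mono smooth_le_flat hx) (repWith_locP_mono smooth_le_lfp hx) hxs) hπ.1)
  let c : U ⟶ Over.mk (𝟙 S) := Over.homMk U.hom (Category.comp_id _)
  let W := pullback c c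
  let pr₁ : W ⟶ U := pullback.fst c c
  let pr₂ : W ⟶ U := pullback.snd c c
  let H := FibCat.toSelf 𝒳
  let K := pairCat U (c := c) x
  have hK : FibCat.IsEquivOver K := pairCat_isEquivOver x
  let z : FibCat.overCat W ⥤ᵇ FibCat.fp H H := BasedFunctor.comp K (pairMap x x H)
  obtain ⟨G, e, he⟩ := h𝒳.diag W z
  let d := BasedFunctor.comp e (FibCat.fpFst z (FibCat.diag H))
  let σ := AlgSt.spMapOfOver d
  let p₁ : G.obj ⟶ (Y₀).obj U := σ ≫ (Y₀).map pr₁
  let p₂ : G.obj ⟶ (Y₀).obj U := σ ≫ (Y₀).map pr₂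
  have hp : p₁ ≫ q = p₂ ≫ q := by
    have hm : ∀ pr : W ⟶ U, AlgSt.spMapOfOver (BasedFunctor.comp d (AlgSt.overMap pr)) =
        σ ≫ (Y₀).map pr := fun pr => spMapOfOver_overMap d pr
    change (σ ≫ (Y₀).map pr₁) ≫ q = (σ ≫ (Y₀).map pr₂) ≫ q
    rw [← hm, ← hm]
    let w := BasedFunctor.comp e (FibCat.fpSnd z (FibCat.diag H))
    let i : BasedFunctor.comp d z ≅ BasedFunctor.comp w (FibCat.diag H) :=
      (Stk.restr e _).mapIso (FibCat.fpIso z (FibCat.diag H))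
    exact eq_of_comp_iso Ψ _ _ ((post _ π).mapIso ((post _ (FibCat.fpFst H H)).mapIso i ≪≫
      ((post _ (FibCat.fpSnd H H)).mapIso i).symm))
  let R := pullback q q
  let k : G.obj ⟶ R := pullback.lift p₁ p₂ hp
  have hWext : ∀ {A : AlgSp.Sp S} (a b : A ⟶ (Y₀).obj W),
      a ≫ (Y₀).map pr₁ = b ≫ (Y₀).map pr₁ → a ≫ (Y₀).map pr₂ = b ≫ (Y₀).map pr₂ → a = b :=
    fun a b h1 h2 => ((IsPullback.of_hasPullback c c).map (AlgSp.yon S)).hom_ext h1 h2
  have hpull : AlgSp.IsAlgSpace (pullback σ σ) :=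
    H12AlgSp.isAlgSpace_pullback (AlgSp.IsAlgSpace.yon_obj W).diag G.property G.property _ _
  have sqk : IsPullback (pullback.snd σ σ) (pullback.fst σ σ) k k := by
    refine (IsPullback.of_isLimit' ⟨?_⟩ (PullbackCone.IsLimit.mk ?_ (fun s => pullback.lift s.fst s.snd ?_)
      (fun s => pullback.lift_fst _ _ _) (fun s => pullback.lift_snd _ _ _)
      (fun s m h1 h2 => pullback.hom_ext (by rw [h1, pullback.lift_fst])
        (by rw [h2, pullback.lift_snd])))).flip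
    · refine pullback.hom_ext ?_ ?_ <;>
        simp only [k, p₁, p₂, Category.assoc, pullback.lift_fst, pullback.lift_snd,
          pullback.condition_assoc]
    · refine pullback.hom_ext ?_ ?_ <;>
        simp only [k, p₁, p₂, Category.assoc, pullback.lift_fst, pullback.lift_snd,
          pullback.condition_assoc]
    · refine hWext _ _ ?_ ?_
      · simpa [k, p₁, p₂] using s.condition =≫ pullback.fst q q
      · simpa [k, p₁, p₂] using s.condition =≫ pullback.snd q q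
  have hkl : Epi k := by
    refine H13AlgSp.epi_of_local_lifts _ fun T y => ?_
    obtain ⟨u, hu⟩ := (AlgSp.yon S).map_surjective (y ≫ pullback.fst q q)
    obtain ⟨v, hv⟩ := (AlgSp.yon S).map_surjective (y ≫ pullback.snd q q)
    obtain ⟨θ⟩ := iso_of_point_eq Ψ u v (by
      rw [hu, hv, Category.assoc, Category.assoc, pullback.condition])
    let A := BasedFunctor.comp (AlgSt.overMap u) x
    let B := BasedFunctor.comp (AlgSt.overMap v) x
    let b₀ : π.obj (A.obj (topObj T)) ⟶ π.obj (B.obj (topObj T)) := (appIso θ (topObj T)).hom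
    have hb₀ : (AlgSt.ofSp F).p.IsHomLift (𝟙 T) b₀ := appIso_lift θ rfl
    obtain ⟨R', hR', hloc⟩ := locHom_at (hb := hb₀) hπ.2 b₀ (A.w_obj (topObj T))
    obtain ⟨C, g, hg1, hg2, hg3, hgR⟩ := exists_fppf_family (R := R') hR'
    refine ⟨_, C, g, mem_J_of_fppf C g hg1 hg2 hg3, fun i => ?_⟩
    obtain ⟨x₀, φ, ψ, hφ, hψ, -⟩ := hloc (g i) (hgR i)
    obtain ⟨κ⟩ := iso_of_span h𝒳.isStack.1 (g i) A B φ ψ hφ hψ
    let l : C i ⟶ W := pullback.lift (g i ≫ u) (g i ≫ v)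
      (Over.OverMorphism.ext (by
        have h1 := Over.w ((g i ≫ u) ≫ c)
        have h2 := Over.w ((g i ≫ v) ≫ c)
        simp only [Over.mk_hom, Category.comp_id] at h1 h2
        exact h1.trans h2.symm))
    let o : ∀ (w : C i ⟶ U) (pr : W ⟶ U) (_ : l ≫ pr = w),
        BasedFunctor.comp (BasedFunctor.comp (AlgSt.overMap l) (AlgSt.overMap pr)) x ≅
          BasedFunctor.comp (AlgSt.overMap w) x := fun w pr h =>
      (post (FibCat.overCat (C i)) x).mapIso (overMapCompIso l pr ≪≫ eqToIso (congrArg AlgSt.overMap h))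
    let o' : ∀ (w : T ⟶ U), BasedFunctor.comp (AlgSt.overMap (g i ≫ w)) x ≅
        BasedFunctor.comp (AlgSt.overMap (g i)) (BasedFunctor.comp (AlgSt.overMap w) x) := fun w =>
      (post (FibCat.overCat (C i)) x).mapIso (overMapCompIso (g i) w).symm
    let M := BasedFunctor.comp (AlgSt.overMap (g i)) A
    obtain ⟨ι⟩ := prodIso (Φ := BasedFunctor.comp (AlgSt.overMap l) z)
      (Ψ := BasedFunctor.comp M (FibCat.diag H))
      (o (g i ≫ u) pr₁ (pullback.lift_fst _ _ _) ≪≫ o' u)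
      (o (g i ≫ v) pr₂ (pullback.lift_snd _ _ _) ≪≫ o' v ≪≫ κ.symm)
    obtain ⟨m, hm⟩ := exists_point_all he
      (FibCat.fpLift (F := z) (G := FibCat.diag H) (AlgSt.overMap l) M ι)
    have hm' : m ≫ σ = (Y₀).map l := hm (FibCat.fpFst z (FibCat.diag H)) l ⟨Iso.refl _⟩
    refine ⟨m, pullback.hom_ext ?_ ?_⟩
    · rw [Category.assoc, Category.assoc, ← hu, pullback.lift_fst, ← Category.assoc, hm',
        ← Functor.map_comp, ← Functor.map_comp, pullback.lift_fst]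
    · rw [Category.assoc, Category.assoc, ← hv, pullback.lift_snd, ← Category.assoc, hm',
        ← Functor.map_comp, ← Functor.map_comp, pullback.lift_snd]
  have hiso : SourceIsoInv (AlgSp.LocP (S := S) @Flat) := sourceIsoInv_locP _
  have hf1 := prop_pullback_fst_of_self hiso (testOnSchemes_locP _)
    ((repWith_inertiaToBase_iff h𝒳.isStack.1 H).1 hI₁) z G e he
  have hf2 := prop_pullback_fst_of_self (sourceIsoInv_locP _) (testOnSchemes_locP _)
    ((repWith_inertiaToBase_iff h𝒳.isStack.1 H).1 hI₂) z G e he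
  have hRep := H12AlgSp.repBySp_fppf_of_epi G.property hpull sqk hf1 hf2
  have hR : AlgSp.IsAlgSpace R := H12AlgSp.isAlgSpace_of_repBySp_fppf G.property k hRep
  -- the first projection of `G` is smooth
  obtain ⟨⟨_, _⟩, hsK⟩ := (isEquivOver_iff _).1 hK
  let N : FibCat.fp z (FibCat.diag H) ⥤ᵇ FibCat.fp (pairMap x x H) (FibCat.diag H) :=
    fpMap (F := pairMap x x H) (G := FibCat.diag H) K (BasedFunctor.id 𝒳)
      (BasedFunctor.id (FibCat.fp H H)) (Iso.refl z) (Iso.refl (FibCat.diag H))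
  have : (BasedFunctor.id (FibCat.fp H H)).toFunctor.Full := inferInstanceAs (Functor.id _).Full
  have : (BasedFunctor.id (FibCat.fp H H)).toFunctor.Faithful :=
    inferInstanceAs (Functor.id _).Faithful
  have : (BasedFunctor.id 𝒳).toFunctor.Full := inferInstanceAs (Functor.id _).Full
  have : (BasedFunctor.id 𝒳).toFunctor.Faithful := inferInstanceAs (Functor.id _).Faithful
  have hN : FibCat.IsEquivOver N := fpMap_isEquivOver _ _ _ _ _ hsK (essSurjOver_id _)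
  obtain ⟨I, ⟨iI⟩, ⟨iI'⟩⟩ := magicFun_isEquivOver x x H
  let E := BasedFunctor.comp (BasedFunctor.comp e N) I
  have hE : FibCat.IsEquivOver E :=
    isEquivOver_comp (isEquivOver_comp he hN) ⟨_, ⟨iI'⟩, ⟨iI⟩⟩
  have i₁ : BasedFunctor.comp E (FibCat.fpFst x x) ≅
      BasedFunctor.comp d (AlgSt.overMap pr₁) :=
    (post (AlgSt.ofSp G.obj) (BasedFunctor.comp (FibCat.fpFst (pairMap x x H) (FibCat.diag H))
      (FibCat.fpFst (BasedFunctor.comp x H) (BasedFunctor.comp x H)))).mapIso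
        ((Stk.restr (BasedFunctor.comp e N) _).mapIso iI')
  obtain ⟨k₁⟩ := spMapOfOver_eq (BasedFunctor.comp E (FibCat.fpFst x x))
  have hs := prop_of_repData (sourceIsoInv_locP _) (hx U x) hE k₁
  rw [spMapOfOver_congr i₁, spMapOfOver_overMap] at hs
  have hp₁ : AlgSp.LocP (S := S) @Smooth p₁ := hs
  have hk : k ≫ pullback.fst q q = p₁ := pullback.lift_fst _ _ _
  obtain ⟨V, a, ha, has⟩ := hR.atlas
  obtain ⟨hPs, hPsurj, hPf, hPp⟩ := hRep a _ _ (IsPullback.of_hasPullback k a)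
  obtain ⟨V', b, hb, hbs⟩ := hPs.atlas
  obtain ⟨g, hg⟩ := (AlgSp.yon S).map_surjective (b ≫ pullback.snd k a)
  have key : ∀ {Q : MorphismProperty Scheme.{u}}, H12AlgSp.EtLocal Q →
      AlgSp.LocP (S := S) Q (pullback.snd k a) → AlgSp.LocP (S := S) Q k := fun hQ h =>
    H12AlgSp.locP_of_one_chart hQ g
      (H12AlgSp.repWith_comp hb (H12AlgSp.repWith_of_isPullback (IsPullback.of_hasPullback k a).flip ha))
      (H12AlgSp.repWith_comp hbs (H12AlgSp.repWith_of_isPullback (IsPullback.of_hasPullback k a).flip has))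
      ha (by rw [hg, Category.assoc, Category.assoc, pullback.condition])
      (h b (𝟙 _) g hb (AlgSp.repWith_id _ V) (by rw [Category.comp_id, hg]))
  have hk2 := key H12AlgSp.etLocal_flat hPf
  have hk3 := key H12AlgSp.etLocal_lfp hPp
  have hk1 : AlgSp.IsSurjectiveMor k := fun r => by
    obtain ⟨v, rfl⟩ := H12AlgSp.surjective_map_of_repWith le_rfl has r
    obtain ⟨w, rfl⟩ := hPsurj v
    exact ⟨AlgSp.Points.map (pullback.fst k a) w, by
      rw [← AlgSp.Points.map_comp, ← AlgSp.Points.map_comp, pullback.condition]⟩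
  have hU := AlgSp.IsAlgSpace.yon_obj (S := S) U
  have hcov : AlgSp.IsFppfCover (fun _ : PUnit.{u + 1} => G.obj) (fun _ => k) :=
    ⟨fun _ => ⟨hk2, hk3⟩, fun b => ⟨PUnit.unit, hk1 b⟩⟩
  have hloc : AlgSp.IsLocalOnSource AlgSp.IsFppfCover (AlgSp.LocP (S := S) @Flat) :=
    H13AlgSp.isLocalOnSource_of_descent (P' := @Flat) le_rfl
      (fun _ g _ _ hg => ⟨fun i => (hg.1 i).1, hg.2⟩) H13AlgSp.flat_of_jointly_surjective
  have hsf : AlgSp.LocP (S := S) @Flat (pullback.fst q q) :=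
    (hloc (fun _ : PUnit.{u + 1} => G.obj) (fun _ => k) hR (fun _ => G.property) hcov _ hU).2
      fun _ => hk ▸ H12AlgSp.locP_mono smooth_le_flat hp₁
  have hsp : AlgSp.LocP (S := S) @LocallyOfFinitePresentation (pullback.fst q q) :=
    (H13AlgSp.isLocalOnSource_fppf_lfp (fun _ : PUnit.{u + 1} => G.obj) (fun _ => k) hR
      (fun _ => G.property) hcov _ hU).2 fun _ => hk ▸ H12AlgSp.locP_mono smooth_le_lfp hp₁
  exact H12AlgSp.isAlgSpace_of_repBySp_fppf hU q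
    (H12AlgSp.repBySp_fppf_of_epi hU hR (IsPullback.of_hasPullback q q).flip hsf hsp)

end Groth.Agent.H14Gerbe
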