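import Groth.Agent.H14Gerbe.AutDiag
import Groth.Agent.H14Gerbe.Coarse
import Groth.Agent.H14AlgSt.DiagGen
import Groth.Agent.H14AlgSt.DisjointGlue
import Groth.Agent.H14AlgSt.SmoothTot
import Groth.Agent.H14AlgSt.DescFun
import Groth.Agent.H14Quot.DiagSmooth
import Groth.Agent.H14AlgSt.Diag2
import Groth.Agent.H14AlgSt.SetoidSpace
import Groth.Agent.H14Artin.SmoothChart
import Groth.Agent.H13Flat.Scheme
import Groth.Agent.S10519
import Groth.Agent.S10535
import Groth.Agent.S10530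
import Groth.Agent.S10527

/-!
# Gerbes banded by a group scheme are algebraic
-/

set_option autoImplicit false
set_option backward.isDefEq.respectTransparency false
set_option backward.isDefEq.respectTransparency.types false
set_option linter.style.haveILetI false
set_option linter.unusedVariables false

universe u

open CategoryTheory CategoryTheory.Functor Opposite AlgebraicGeometry CategoryTheory.Limits

noncomputable section

namespace Groth.Agent.H14Gerbe

open H14Fib H14Stk H14AlgSt Gerb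
open scoped CategoryTheory.MonObj

variable {S : Scheme.{u}} {𝒳 : AlgSt.Cat S}

local notation "K₀" => Scheme.fppfPrecoverage
local notation "LP" => AlgSp.LocP

/-- Two points of a gerbe are locally isomorphic. -/
lemma exists_local_iso (h𝒳 : IsGerbe (QuotSh.J K₀ S) 𝒳) {U : Over S}
    (x₁ x₂ : FibCat.overCat U ⥤ᵇ 𝒳) :
    ∃ (C : U.left → Over S) (c : ∀ i, C i ⟶ U),
      (∀ i, Flat (c i).left) ∧ (∀ i, LocallyOfFinitePresentation (c i).left) ∧
      (∀ z : U.left, ∃ i, z ∈ Set.range (c i).left) ∧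
      ∀ i, Nonempty (BasedFunctor.comp (AlgSt.overMap (c i)) x₁ ≅
        BasedFunctor.comp (AlgSt.overMap (c i)) x₂) := by
  let a : 𝒳.obj := x₁.obj (topObj U)
  let b : 𝒳.obj := x₂.obj (topObj U)
  have ha : 𝒳.p.obj a = U := x₁.w_obj _
  have hb : 𝒳.p.obj b = U := x₂.w_obj _
  let β : (FibCat.toSelf 𝒳).obj a ⟶ (FibCat.toSelf 𝒳).obj b := eqToHom (ha.trans hb.symm)
  haveI : (FibCat.selfOver (Over S)).p.IsHomLift (𝟙 U) β :=
    IsHomLift.of_fac' _ _ _ ha hb (by simp [β]; rfl)
  obtain ⟨R, hR, hloc⟩ := locHom_at h𝒳.2.2 β ha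
  obtain ⟨C, c, hc1, hc2, hc3, hcR⟩ := exists_fppf_family (R := R) hR
  refine ⟨C, c, hc1, hc2, hc3, fun i => ?_⟩
  obtain ⟨x₀, φ, ψ, hφ, hψ, -⟩ := hloc (c i) (hcR i)
  let s : (FibCat.overCat U).obj := (Over.map (c i)).obj (topObj (C i))
  have hs : s.hom = c i := Category.id_comp _
  have hm₁ : 𝒳.p.IsHomLift (c i) (x₁.map (toTop s)) := hs ▸ over_map_toTop_lift x₁ s
  have hm₂ : 𝒳.p.IsHomLift (c i) (x₂.map (toTop s)) := hs ▸ over_map_toTop_lift x₂ s
  obtain ⟨i₁, hi₁, -⟩ := exists_vertIso h𝒳.1.1 (c i) (x₁.map (toTop s)) φ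
  obtain ⟨i₂, hi₂, -⟩ := exists_vertIso h𝒳.1.1 (c i) ψ (x₂.map (toTop s))
  exact ⟨isoOfTop (topSC_of_fibGrpd h𝒳.1.1 _) (topSC_of_fibGrpd h𝒳.1.1 _) (i₁ ≪≫ i₂)
    (homLift_id_comp hi₁ hi₂)⟩

section AutRep

variable (A : Over S) [GrpObj A]

/-- The band over a scheme. -/
abbrev bandGrp (U : Over S) : Over U.left := (Over.pullback U.hom).obj A

instance (U : Over S) : GrpObj (bandGrp A U) := Functor.grpObjObj

/-- Points of the base change of the band. -/
def bandPts {U : Over S} (T : Over U.left) :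
    ((Over.map U.hom).obj T ⟶ A) ≃* (T ⟶ bandGrp A U) :=
  { (Over.mapPullbackAdj U.hom).homEquiv T A with
    map_mul' := fun g h => by
      change (Over.mapPullbackAdj U.hom).homEquiv T A (g * h) =
        (Over.mapPullbackAdj U.hom).homEquiv T A g * (Over.mapPullbackAdj U.hom).homEquiv T A h
      simp only [Adjunction.homEquiv_unit]
      rw [← MonObj.comp_mul]
      exact congrArg _ ((Over.pullback U.hom).homMonoidHom.map_mul g h) }

variable {A} {U : Over S} (x : FibCat.overCat U ⥤ᵇ 𝒳)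

/-- The base of the value of a point. -/
def bandBase (t : Over U) :
    (Over.map U.hom).obj ((Over.iteratedSliceForward U).obj t) ≅ 𝒳.p.obj (x.obj t) :=
  (Over.isoMk (Iso.refl _) ((Category.id_comp _).trans (Over.w t.hom).symm) :
    (Over.map U.hom).obj ((Over.iteratedSliceForward U).obj t) ≅ t.left) ≪≫
      eqToIso (x.w_obj t).symm

/-- Precomposition with an isomorphism on points. -/
def precompPts {T T' : Over S} (e : T ≅ T') : (T ⟶ A) ≃* (T' ⟶ A) where
  toFun g := e.inv ≫ g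
  invFun g := e.hom ≫ g
  left_inv g := e.hom_inv_id_assoc g
  right_inv g := e.inv_hom_id_assoc g
  map_mul' g h := MonObj.comp_mul _ _ _

lemma bandBase_natural {t' t : Over U} (h : t' ⟶ t) :
    𝒳.p.map (x.map h) ≫ (bandBase x t).inv =
      (bandBase x t').inv ≫ (Over.map U.hom).map ((Over.iteratedSliceForward U).map h) := by
  have e := Functor.congr_hom x.w h
  change 𝒳.p.map (x.map h) = _ at e
  rw [e, Iso.eq_inv_comp]
  apply Over.OverMorphism.ext
  simp [bandBase]
  exact Category.comp_id _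

/-- The banding gives the automorphism group scheme of every point. -/
def bandAutRep (β : Banding 𝒳 (yonedaGrpObj A)) : AutRep x (ptsGrp U (bandGrp A U)) where
  iso t := ((bandPts A ((Over.iteratedSliceForward U).obj t)).symm.trans
    (precompPts (bandBase x t))).trans (β.iso (x.obj t))
  natural {t' t} h a := by
    have hn := β.natural (x.map h)
      ((bandBase x t).inv ≫ (bandPts A ((Over.iteratedSliceForward U).obj t)).symm a)
    have key : 𝒳.p.map (x.map h) ≫ (bandBase x t).inv ≫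
        (bandPts A ((Over.iteratedSliceForward U).obj t)).symm a =
        (bandBase x t').inv ≫ (bandPts A ((Over.iteratedSliceForward U).obj t')).symm
          ((Over.iteratedSliceForward U).map h ≫ a) := by
      rw [← Category.assoc, bandBase_natural, Category.assoc]
      congr 1
    change (β.iso (x.obj t') ((bandBase x t').inv ≫
      (bandPts A ((Over.iteratedSliceForward U).obj t')).symm
        ((Over.iteratedSliceForward U).map h ≫ a))).hom.1 ≫ x.map h = _
    rw [← key]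
    exact hn

end AutRep

/-- Surjectivity is local on the base. -/
lemma localFppf_surj :
    AlgSp.IsLocalOnBase (AlgSp.IsFppfCover (S := S)) AlgSp.IsSurjectiveMor :=
  fun _ _ Yi g hY hYi hg X f hX Xi p q hXi sq =>
    ⟨fun hf i => H14Quot.baseStable_surj hX hY (hXi i) (hYi i) _ _ _ _ (sq i) hf,
      fun h y => by
        obtain ⟨i, w, rfl⟩ := hg.2 y
        obtain ⟨v, rfl⟩ := h i w
        exact ⟨AlgSp.Points.map (q i) v, by
          rw [← AlgSp.Points.map_comp, (sq i).w, AlgSp.Points.map_comp]⟩⟩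

section Diag

variable {P : MorphismProperty (AlgSp.Sp S)}

/-- At a pair of equal points the diagonal has the properties of the automorphism group. -/
lemma repData_diag_sqPt (h𝒳 : FibCat.IsFibGrpd 𝒳.p) {U : Over S} {x : FibCat.overCat U ⥤ᵇ 𝒳}
    {G : Over U.left} [GrpObj G] (r : AutRep x (ptsGrp U G))
    (hP : P ((AlgSp.yon S).map (grpHom U G))) :
    RepData P (FibCat.fpFst (sqPt x) (FibCat.diag (FibCat.toSelf 𝒳))) := by
  refine ⟨⟨(AlgSp.yon S).obj (grpBase U G), AlgSp.IsAlgSpace.yon_obj _⟩,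
    BasedFunctor.comp (AlgSt.toOverCat (grpBase U G)) (diagComparison r),
    isEquivOver_comp (toOverCat_isEquivOver _) (diagComparison_isEquivOver r h𝒳), ?_⟩
  change P (AlgSt.spMapOfOver (BasedFunctor.comp (AlgSt.toOverCat (grpBase U G))
    (AlgSt.overMap (grpHom U G))))
  rwa [spMapOfOver_overMap, spMapOfOver_toOverCat, Category.id_comp]

/-- A property of the band local on the base passes to the diagonal. -/
theorem repWith_diag_banded (h𝒳 : IsGerbe (QuotSh.J K₀ S) 𝒳) {A : Over S} [GrpObj A]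
    (β : Banding 𝒳 (yonedaGrpObj A)) (hloc : AlgSp.IsLocalOnBase AlgSp.IsFppfCover P)
    (hiso : SourceIsoInv P)
    (hP : ∀ U : Over S, P ((AlgSp.yon S).map (grpHom U (bandGrp A U)))) :
    AlgSt.RepByAlgSpWith P (FibCat.diag (FibCat.toSelf 𝒳)) := by
  intro U z
  let H := FibCat.toSelf 𝒳
  let Δ := FibCat.diag H
  haveI : Δ.toFunctor.Faithful := ⟨fun h => congrArg (fun t => t.hom.fst) h⟩
  have hst : Stk.IsStack (AlgSp.J S) 𝒳 := h𝒳.1
  have hXX : Stk.IsStack (AlgSp.J S) (FibCat.fp H H) :=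
    isStack_fp _ _ hst hst (isPrestack_of_isStack (isStack_selfOver _))
  have hU := isStack_of_repByAlgSp (repByAlgSp_overCat U)
  have hfp : Stk.IsStack (AlgSp.J S) (FibCat.fp z Δ) :=
    isStack_fp _ _ hU hst (isPrestack_of_isStack hXX)
  have hs : FibCat.IsFibSetoid (FibCat.fp z Δ).p := fp_overCat_fibSetoid hst.1 hXX.1 z
  obtain ⟨C, c, hc1, hc2, hc3, hc4⟩ := exists_local_iso h𝒳
    (BasedFunctor.comp z (FibCat.fpFst H H)) (BasedFunctor.comp z (FibCat.fpSnd H H))
  refine repData_of_local hloc hiso hs hfp (FibCat.fpFst z Δ) C c hc1 hc2 hc3 fun i => ?_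
  obtain ⟨κ⟩ := hc4 i
  let y := BasedFunctor.comp (AlgSt.overMap (c i)) (BasedFunctor.comp z (FibCat.fpFst H H))
  obtain ⟨j⟩ := prodIso (Φ := sqPt y) (Ψ := BasedFunctor.comp (AlgSt.overMap (c i)) z)
    (Iso.refl _) κ
  refine RepData.of_equiv' P (q := FibCat.fpFst (BasedFunctor.comp (AlgSt.overMap (c i)) z) Δ)
    (pasteBase_isEquivOver z Δ (AlgSt.overMap (c i))) (Iso.refl _) ?_
  exact repData_congr j (repData_diag_sqPt hst.1 (bandAutRep y β) (hP _))

variable (A : Over S) [GrpObj A] (U : Over S)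

lemma band_flat [Flat A.hom] : AlgSp.LocP @Flat ((AlgSp.yon S).map (grpHom U (bandGrp A U))) :=
  (locP_yon_iff H12AlgSp.etLocal_flat _).2 (inferInstanceAs (Flat (pullback.snd A.hom U.hom)))

lemma band_lfp [LocallyOfFinitePresentation A.hom] :
    AlgSp.LocP @LocallyOfFinitePresentation ((AlgSp.yon S).map (grpHom U (bandGrp A U))) :=
  (locP_yon_iff H12AlgSp.etLocal_lfp _).2
    (inferInstanceAs (LocallyOfFinitePresentation (pullback.snd A.hom U.hom)))

lemma band_surj [Surjective A.hom] :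
    AlgSp.IsSurjectiveMor ((AlgSp.yon S).map (grpHom U (bandGrp A U))) :=
  H12AlgSp.surjective_map_of_repWith le_rfl ((AlgSp.repWith_yon_map_iff @Surjective _).2
    (MorphismProperty.pullback_snd (P := @Surjective) A.hom U.hom ‹_›))

lemma band_qcsep [QuasiCompact A.hom] [IsSeparated A.hom] :
    (AlgSp.IsQuasiCompactMor ⊓ AlgSp.IsSeparatedMor)
      ((AlgSp.yon S).map (grpHom U (bandGrp A U))) :=
  ⟨(isQuasiCompactMor_yon_iff _).2 (inferInstanceAs (QuasiCompact (pullback.snd A.hom U.hom))),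
    (AlgSp.isSeparatedMor_yon_map_iff _).2
      (inferInstanceAs (IsSeparated (pullback.snd A.hom U.hom)))⟩

end Diag

section Chart

variable {P : MorphismProperty Scheme.{u}}

/-- A point of a stack has the properties of the diagonal and of its source. -/
theorem repWith_point (hP : H12AlgSp.EtLocal P) (h𝒳 : FibCat.IsFibGrpd 𝒳.p) {U : Over S}
    (x : FibCat.overCat U ⥤ᵇ 𝒳) (hd : AlgSt.RepByAlgSpWith (LP P) (FibCat.diag (FibCat.toSelf 𝒳)))
    (hU : AlgSt.RepByAlgSpWith (LP P) (FibCat.toSelf (FibCat.overCat U))) :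
    AlgSt.RepByAlgSpWith (LP P) x := fun T y => by
  let H := FibCat.toSelf 𝒳
  let q₁ := FibCat.fpFst (pairMap y x H) (FibCat.diag H)
  let q₂ := FibCat.fpFst (BasedFunctor.comp y H) (BasedFunctor.comp x H)
  have h1 : AlgSt.RepByAlgSpWith (LP P) q₁ := repWith_fpFst _ hd
  have h2 : AlgSt.RepByAlgSpWith (LP P) q₂ := by
    refine repWith_fpFst _ ?_
    rw [H14Stk.comp_toSelf]
    exact hU
  have h3 := repWith_locP_comp hP
    (fp_fibGrpd (fp_fibGrpd (fibGrpd_overCat T) (fibGrpd_overCat U) selfOver_fibGrpd) h𝒳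
      (fp_fibGrpd h𝒳 h𝒳 selfOver_fibGrpd))
    (fp_fibGrpd (fibGrpd_overCat T) (fibGrpd_overCat U) selfOver_fibGrpd) h1 h2
  have h4 : AlgSt.RepByAlgSpWith (LP P) (FibCat.fpFst y x) :=
    repWith_of_iso (Iso.refl _)
      ((repWith_equiv_comp_iff (magicFun_isEquivOver y x H)).1 h3)
  exact RepData.of_equiv _ (fpSnd_id_isEquivOver (FibCat.fpFst y x))
    (FibCat.fpIso (BasedFunctor.id _) (FibCat.fpFst y x)).symm (h4 T (BasedFunctor.id _))

/-- A point of a stack is surjective when the diagonal and its source are. -/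
theorem repWith_point_surj (h𝒳 : FibCat.IsFibGrpd 𝒳.p) {U : Over S}
    (x : FibCat.overCat U ⥤ᵇ 𝒳)
    (hd : AlgSt.RepByAlgSpWith AlgSp.IsSurjectiveMor (FibCat.diag (FibCat.toSelf 𝒳)))
    (hU : AlgSt.RepByAlgSpWith AlgSp.IsSurjectiveMor (FibCat.toSelf (FibCat.overCat U))) :
    AlgSt.RepByAlgSpWith AlgSp.IsSurjectiveMor x := fun T y => by
  let H := FibCat.toSelf 𝒳
  let q₁ := FibCat.fpFst (pairMap y x H) (FibCat.diag H)
  let q₂ := FibCat.fpFst (BasedFunctor.comp y H) (BasedFunctor.comp x H)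
  have h1 : AlgSt.RepByAlgSpWith AlgSp.IsSurjectiveMor q₁ := repWith_fpFst _ hd
  have h2 : AlgSt.RepByAlgSpWith AlgSp.IsSurjectiveMor q₂ := by
    refine repWith_fpFst _ ?_
    rw [H14Stk.comp_toSelf]
    exact hU
  have h3 := repWith_surjective_comp
    (fp_fibGrpd (fp_fibGrpd (fibGrpd_overCat T) (fibGrpd_overCat U) selfOver_fibGrpd) h𝒳
      (fp_fibGrpd h𝒳 h𝒳 selfOver_fibGrpd))
    (fp_fibGrpd (fibGrpd_overCat T) (fibGrpd_overCat U) selfOver_fibGrpd) h1 h2
  have h4 : AlgSt.RepByAlgSpWith AlgSp.IsSurjectiveMor (FibCat.fpFst y x) :=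
    repWith_of_iso (Iso.refl _)
      ((repWith_equiv_comp_iff (magicFun_isEquivOver y x H)).1 h3)
  exact RepData.of_equiv _ (fpSnd_id_isEquivOver (FibCat.fpFst y x))
    (FibCat.fpIso (BasedFunctor.id _) (FibCat.fpFst y x)).symm (h4 T (BasedFunctor.id _))

lemma repWith_toSelf_scheme (hP : H12AlgSp.EtLocal P) (U : Over S) (h : P U.hom) :
    AlgSt.RepByAlgSpWith (LP P) (FibCat.toSelf (FibCat.overCat U)) := by
  let t : U ⟶ (Over.mk (𝟙 S) : Over S) := Over.homMk U.hom (Category.comp_id _)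
  refine repWith_of_iso (eqToIso (H14Stk.comp_toSelf (AlgSt.overMap t)))
    ((repWith_comp_equiv_iff toSelf_final_isEquivOver).2 (repWith_overMap hP t ?_))
  exact h

/-- A gerbe has a point over a flat, locally finitely presented, surjective scheme. -/
theorem exists_point (h𝒳 : IsGerbe (QuotSh.J K₀ S) 𝒳) :
    ∃ (U : Over S) (x : FibCat.overCat U ⥤ᵇ 𝒳),
      Flat U.hom ∧ LocallyOfFinitePresentation U.hom ∧ Surjective U.hom := by
  let T₀ : (FibCat.selfOver (Over S)).obj := Over.mk (𝟙 S)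
  obtain ⟨R, hR, hloc⟩ := locObj_at h𝒳.2.1 T₀ (U := Over.mk (𝟙 S)) rfl
  obtain ⟨C, c, hc1, hc2, hc3, hcR⟩ := exists_fppf_family (R := R) hR
  have := isFibered_of_fibGrpd h𝒳.1.1
  have hx : ∀ i, Nonempty (FibCat.overCat (C i) ⥤ᵇ 𝒳) := fun i => by
    obtain ⟨a, g, hg⟩ := hloc (c i) (hcR i)
    have hg' : (FibCat.selfOver (Over S)).p.IsHomLift (c i) g := hg
    obtain ⟨G, -, -, -⟩ := exists_fromOver (obj_over_of_lift (F := FibCat.toSelf 𝒳) (f := c i) g)
    exact ⟨G⟩
  obtain ⟨x, -⟩ := exists_sigma_glue (K := K₀) etale_le_fppfPrecoverage h𝒳.1 fun i => (hx i).some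
  have hh : ∀ i, (c i).left = (C i).hom := fun i => (Category.comp_id _).symm.trans (Over.w (c i))
  refine ⟨sigmaOver C, x, ?_, ?_, ⟨fun s => ?_⟩⟩
  · exact IsZariskiLocalAtSource.sigmaDesc (P := @Flat) fun i => hh i ▸ hc1 i
  · exact IsZariskiLocalAtSource.sigmaDesc (P := @LocallyOfFinitePresentation) fun i => hh i ▸ hc2 i
  · obtain ⟨i, w, hw⟩ := hc3 s
    refine ⟨(sigmaIncl C i).left w, ?_⟩
    rw [← Scheme.Hom.comp_apply, Over.w (sigmaIncl C i), ← hh i]
    exact hw

end Chart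

/-- A gerbe banded by a flat, surjective, locally finitely presented, quasi-compact, separated
group scheme is algebraic, with quasi-compact separated diagonal, locally of finite presentation. -/
theorem isAlgStack_banded (h𝒳 : IsGerbe (QuotSh.J K₀ S) 𝒳) {A : Over S} [GrpObj A] [Flat A.hom]
    [Surjective A.hom] [LocallyOfFinitePresentation A.hom] [QuasiCompact A.hom]
    [IsSeparated A.hom] (β : Banding 𝒳 (yonedaGrpObj A)) :
    AlgSt.IsAlgStack K₀ 𝒳 ∧
      AlgSt.RepByAlgSpWith (AlgSp.IsQuasiCompactMor ⊓ AlgSp.IsSeparatedMor)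
        (FibCat.diag (FibCat.toSelf 𝒳)) ∧
      AlgSt.LocQ (LP @LocallyOfFinitePresentation) (FibCat.toSelf 𝒳) := by
  have hst : Stk.IsStack (AlgSp.J S) 𝒳 := h𝒳.1
  have hsep : SourceIsoInv (S := S) AlgSp.IsSeparatedMor :=
    BaseStable.sourceIsoInv fun _ _ _ _ _ _ _ _ _ _ _ _ sq h =>
      H12AlgSp.repWith_of_isPullback (H12AlgSp.isPullback_diagonal sq) h
  have hqs : AlgSp.IsLocalOnBase (AlgSp.IsFppfCover (S := S))
      (AlgSp.IsQuasiCompactMor ⊓ AlgSp.IsSeparatedMor) :=
    localFppf_of_fpqc fun _ _ Yi g hY hYi hg X f hX Xi p q hXi sq =>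
      ⟨fun hf i => ⟨((S10519.result S) Yi g hY hYi hg f hX Xi p q hXi sq).1 hf.1 i,
          ((S10535.result S) Yi g hY hYi hg f hX Xi p q hXi sq).1 hf.2 i⟩,
        fun hp => ⟨((S10519.result S) Yi g hY hYi hg f hX Xi p q hXi sq).2 fun i => (hp i).1,
          ((S10535.result S) Yi g hY hYi hg f hX Xi p q hXi sq).2 fun i => (hp i).2⟩⟩
  have hd := repWith_diag_banded h𝒳 β hqs (sourceIsoInv_inf sourceIsoInv_qc hsep)
    (fun U => band_qcsep A U)
  have hΔ : AlgSt.RepByAlgSp1 (FibCat.diag (FibCat.toSelf 𝒳)) :=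
    fun T y => RepData.rep _ (hd T y)
  have hdf := repWith_diag_banded h𝒳 β (localFppf_of_fpqc (S10530.result S))
    (sourceIsoInv_locP _) (fun U => band_flat A U)
  have hdp := repWith_diag_banded h𝒳 β (localFppf_of_fpqc (S10527.result S))
    (sourceIsoInv_locP _) (fun U => band_lfp A U)
  have hds := repWith_diag_banded h𝒳 β localFppf_surj sourceIsoInv_surjective
    (fun U => band_surj A U)
  obtain ⟨U, x, hUf, hUp, hUs⟩ := exists_point h𝒳
  have hxf := repWith_point H12AlgSp.etLocal_flat hst.1 x hdf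
    (repWith_toSelf_scheme H12AlgSp.etLocal_flat U hUf)
  have hxp := repWith_point H12AlgSp.etLocal_lfp hst.1 x hdp
    (repWith_toSelf_scheme H12AlgSp.etLocal_lfp U hUp)
  have hxs : AlgSt.RepByAlgSpWith AlgSp.IsSurjectiveMor x := by
    refine repWith_point_surj hst.1 x hds ?_
    let t : U ⟶ (Over.mk (𝟙 S) : Over S) := Over.homMk U.hom (Category.comp_id _)
    exact repWith_of_iso (eqToIso (H14Stk.comp_toSelf (AlgSt.overMap t)))
      ((repWith_comp_equiv_iff toSelf_final_isEquivOver).2 (repWith_overMap_surj t hUs))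
  have halg := H14Artin.isAlgStack_of_fppf_chart hst hΔ x hxs hxf hxp
  obtain ⟨W, z, hz, hzs⟩ := halg.atlas
  refine ⟨halg, hd, ?_⟩
  -- the atlas is locally of finite presentation over the base
  obtain ⟨F, e, he, hπf⟩ := hxf W z
  let q₁ := BasedFunctor.comp e (FibCat.fpFst z x)
  let q₂ := BasedFunctor.comp e (FibCat.fpSnd z x)
  obtain ⟨kq⟩ := spMapOfOver_eq q₁
  have hπp := prop_of_repData (sourceIsoInv_locP _) (hxp W z) he kq
  have hπs := prop_of_repData sourceIsoInv_surjective (hxs W z) he kq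
  have hσ : AlgSp.LocP @Smooth (AlgSt.spMapOfOver q₂) :=
    prop_of_repWith_spMap (sourceIsoInv_locP _)
      ((repWith_equiv_comp_iff he).1 (repWith_fpSnd x hz))
  obtain ⟨V, p, hp, hps⟩ := F.property.atlas
  have hV := AlgSp.IsAlgSpace.yon_obj V
  have hpe := H12AlgSp.locP_of_repWith H12AlgSp.etLocal_etale hp
  let v : V ⟶ W := (AlgSp.yon S).preimage (p ≫ AlgSt.spMapOfOver q₁)
  let w : V ⟶ U := (AlgSp.yon S).preimage (p ≫ AlgSt.spMapOfOver q₂)
  have ev : (AlgSp.yon S).map v = p ≫ AlgSt.spMapOfOver q₁ := (AlgSp.yon S).map_preimage _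
  have hvf : Flat v.left := (locP_yon_iff H12AlgSp.etLocal_flat v).1 (by
    rw [ev]
    exact H12AlgSp.locP_comp H12AlgSp.etLocal_flat hV F.property (AlgSp.IsAlgSpace.yon_obj W)
      (H12AlgSp.locP_mono (fun _ _ f (h : Etale f) => (inferInstance : Flat f)) hpe) hπf)
  have hvp : LocallyOfFinitePresentation v.left := (locP_yon_iff H12AlgSp.etLocal_lfp v).1 (by
    rw [ev]
    exact H12AlgSp.locP_comp H12AlgSp.etLocal_lfp hV F.property (AlgSp.IsAlgSpace.yon_obj W)
      (H12AlgSp.locP_mono (fun _ _ f (h : Etale f) =>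
        (inferInstance : LocallyOfFinitePresentation f)) hpe) hπp)
  have hwp : Smooth w.left := (locP_yon_iff H12AlgSp.etLocal_smooth w).1 (by
    rw [(AlgSp.yon S).map_preimage]
    exact H12AlgSp.locP_comp H12AlgSp.etLocal_smooth hV F.property (AlgSp.IsAlgSpace.yon_obj U)
      (H12AlgSp.locP_mono (fun _ _ f (h : Etale f) => (inferInstance : Smooth f)) hpe) hσ)
  have hVp : LocallyOfFinitePresentation V.hom := by
    rw [← Over.w w]
    infer_instance
  have hW : LocallyOfFinitePresentation W.hom := by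
    refine H13Flat.locallyOfFinitePresentation_of_fppf_covering W.hom fun a => ?_
    obtain ⟨b, hb⟩ := hπs (AlgSp.Points.ofScheme W a)
    obtain ⟨c, hc⟩ := H12AlgSp.surjective_map_of_repWith le_rfl hps b
    obtain ⟨c', rfl⟩ := (AlgSp.Points.schemeEquiv V).surjective c
    refine ⟨V.left, v.left, hvf, hvp, ⟨c', ?_⟩, ?_⟩
    · refine (AlgSp.Points.schemeEquiv W).injective ?_
      refine (range_map_yon_map v c').symm.trans ?_
      rw [ev, AlgSp.Points.map_comp]
      exact (congrArg _ hc).trans hb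
    · rw [Over.w v]
      exact hVp
  let h : W ⟶ H14AlgSt.baseObj S := Over.homMk W.hom (Category.comp_id _)
  exact ⟨W, H14AlgSt.baseObj S, z, FibCat.toSelf (FibCat.overCat (H14AlgSt.baseObj S)), h,
    eqToIso ((H14Stk.comp_toSelf z).trans (H14Stk.comp_toSelf (AlgSt.overMap h)).symm),
    hz, hzs, repWith_toSelf_base.1, (locP_yon_iff H12AlgSp.etLocal_lfp h).2 hW⟩

end Groth.Agent.H14Gerbe
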