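import Groth.Agent.H14Gerbe.Banded
import Groth.Agent.H14Quot.QuotDiag
import Groth.Agent.H13Flat.SmoothDescent
import Groth.Agent.H18Descent.Basic
import Groth.Agent.H28Neron.ComponentSections

/-!
# Banded gerbes are smooth, and are neutral over strictly henselian rings
-/

set_option autoImplicit false
set_option backward.isDefEq.respectTransparency false
set_option backward.isDefEq.respectTransparency.types false
set_option linter.style.haveILetI false
set_option linter.unusedVariables false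

universe u

open CategoryTheory CategoryTheory.Functor Opposite AlgebraicGeometry CategoryTheory.Limits
open MonoidalCategory CartesianMonoidalCategory

noncomputable section

namespace Groth.Agent.H14Gerbe

open H14Fib H14Stk H14AlgSt Gerb

variable {S : Scheme.{u}} {𝒳 : AlgSt.Cat S}

local notation "K₀" => Scheme.fppfPrecoverage
local notation "LP" => AlgSp.LocP

/-- When the diagonal and one point are flat, locally finitely presented and surjective, and the
point lives over a quasi-compact cover of the base, every smooth chart has smooth source. -/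
theorem smooth_of_chart (h𝒳 : FibCat.IsFibGrpd 𝒳.p)
    (hdf : AlgSt.RepByAlgSpWith (LP @Flat) (FibCat.diag (FibCat.toSelf 𝒳)))
    (hdp : AlgSt.RepByAlgSpWith (LP @LocallyOfFinitePresentation) (FibCat.diag (FibCat.toSelf 𝒳)))
    (hds : AlgSt.RepByAlgSpWith AlgSp.IsSurjectiveMor (FibCat.diag (FibCat.toSelf 𝒳)))
    {U : Over S} [Flat U.hom] [Surjective U.hom] [QuasiCompact U.hom]
    (x : FibCat.overCat U ⥤ᵇ 𝒳) (hx : AlgSt.RepByAlgSp1 x)
    {W : Over S} (z : FibCat.overCat W ⥤ᵇ 𝒳) (hz : AlgSt.RepByAlgSpWith (LP @Smooth) z) :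
    Smooth W.hom := by
  let H := FibCat.toSelf 𝒳
  obtain ⟨F, e, he⟩ := hx W z
  let q₁ := FibCat.fpFst (pairMap z x H) (FibCat.diag H)
  let Φ : AlgSt.ofSp F.obj ⥤ᵇ FibCat.overCat (W ⊗ U) :=
    BasedFunctor.comp e (BasedFunctor.comp (BasedFunctor.comp (magicFun z x H) q₁)
      (H14Quot.prodProj (BasedFunctor.comp z H) (BasedFunctor.comp x H)))
  have hΦ : ∀ {P : MorphismProperty (AlgSp.Sp S)},
      AlgSt.RepByAlgSpWith P (FibCat.diag H) → AlgSt.RepByAlgSpWith P Φ := fun h =>
    (repWith_equiv_comp_iff he).1 ((repWith_comp_equiv_iff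
      (H14Quot.prodProj_toSelf_isEquivOver _ _)).2
        ((repWith_equiv_comp_iff (magicFun_isEquivOver z x H)).1 (repWith_fpFst _ h)))
  have hmf : LP @Flat (AlgSt.spMapOfOver Φ) := prop_of_repWith_spMap (sourceIsoInv_locP _) (hΦ hdf)
  have hmp : LP @LocallyOfFinitePresentation (AlgSt.spMapOfOver Φ) :=
    prop_of_repWith_spMap (sourceIsoInv_locP _) (hΦ hdp)
  have hms : AlgSp.IsSurjectiveMor (AlgSt.spMapOfOver Φ) :=
    prop_of_repWith_spMap sourceIsoInv_surjective (hΦ hds)
  let q₂ := BasedFunctor.comp e (FibCat.fpSnd z x)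
  have hσ : LP @Smooth (AlgSt.spMapOfOver q₂) :=
    prop_of_repWith_spMap (sourceIsoInv_locP _)
      ((repWith_equiv_comp_iff he).1 (repWith_fpSnd x hz))
  let pr : W ⊗ U ⟶ U := snd W U
  have hfs : ∀ a, (e.obj a).obj.fst.left = (e.obj a).obj.snd.left := fun a => (fp_snd_obj (e.obj a)).symm
  let κ : BasedFunctor.comp Φ (AlgSt.overMap pr) ≅ q₂ :=
    mkIso (fun a => Over.isoMk (eqToIso (hfs a)) (by
        change eqToHom (hfs a) ≫ (e.obj a).obj.snd.hom =
          H14Quot.prodPt ((BasedFunctor.comp (magicFun z x H) q₁).obj (e.obj a)) ≫ snd W U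
        rw [lift_snd]
        rfl))
      (fun {a b} m => Over.OverMorphism.ext (by
        have h : (e.map m).hom.snd.left = eqToHom (fp_snd_obj (e.obj a)) ≫ (e.map m).hom.fst.left ≫
            eqToHom (fp_snd_obj (e.obj b)).symm := Functor.congr_hom (FibCat.fpSnd z x).w (e.map m)
        change (e.map m).hom.fst.left ≫ eqToHom (hfs b) = eqToHom (hfs a) ≫ (e.map m).hom.snd.left
        rw [h, eqToHom_trans_assoc, eqToHom_refl, Category.id_comp]))
      (fun a => IsHomLift.of_fac' (FibCat.overCat U).p _ _ (e.w_obj a)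
        ((fp_snd_obj (e.obj a)).trans (e.w_obj a)) (by simp; rfl))
  have hκ : AlgSt.spMapOfOver q₂ = AlgSt.spMapOfOver Φ ≫ (AlgSp.yon S).map pr := by
    rw [← spMapOfOver_congr κ, spMapOfOver_overMap]
  obtain ⟨V, p, hp, hps⟩ := F.property.atlas
  have hV := AlgSp.IsAlgSpace.yon_obj V
  have hpe := H12AlgSp.locP_of_repWith H12AlgSp.etLocal_etale hp
  let m : V ⟶ W ⊗ U := (AlgSp.yon S).preimage (p ≫ AlgSt.spMapOfOver Φ)
  have em : (AlgSp.yon S).map m = p ≫ AlgSt.spMapOfOver Φ := (AlgSp.yon S).map_preimage _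
  have hf : Flat m.left := (locP_yon_iff H12AlgSp.etLocal_flat m).1 (by
    rw [em]
    exact H12AlgSp.locP_comp H12AlgSp.etLocal_flat hV F.property (AlgSp.IsAlgSpace.yon_obj _)
      (H12AlgSp.locP_mono (fun _ _ f (h : Etale f) => (inferInstance : Flat f)) hpe) hmf)
  have hlp : LocallyOfFinitePresentation m.left := (locP_yon_iff H12AlgSp.etLocal_lfp m).1 (by
    rw [em]
    exact H12AlgSp.locP_comp H12AlgSp.etLocal_lfp hV F.property (AlgSp.IsAlgSpace.yon_obj _)
      (H12AlgSp.locP_mono (fun _ _ f (h : Etale f) =>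
        (inferInstance : LocallyOfFinitePresentation f)) hpe) hmp)
  have hsm : Smooth (m ≫ pr).left := (locP_yon_iff H12AlgSp.etLocal_smooth (m ≫ pr)).1 (by
    rw [Functor.map_comp, em, Category.assoc, ← hκ]
    exact H12AlgSp.locP_comp H12AlgSp.etLocal_smooth hV F.property (AlgSp.IsAlgSpace.yon_obj U)
      (H12AlgSp.locP_mono (fun _ _ f (h : Etale f) => (inferInstance : Smooth f)) hpe) hσ)
  have hpr : Smooth (pullback.snd W.hom U.hom) := by
    refine H13Flat.smooth_of_fppf_covering (pullback.snd W.hom U.hom) fun a => ?_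
    obtain ⟨b, hb⟩ := hms (AlgSp.Points.ofScheme (W ⊗ U) a)
    obtain ⟨c, hc⟩ := H12AlgSp.surjective_map_of_repWith le_rfl hps b
    obtain ⟨c', rfl⟩ := (AlgSp.Points.schemeEquiv V).surjective c
    refine ⟨V.left, m.left, hf, hlp, ⟨c', ?_⟩, hsm⟩
    refine (AlgSp.Points.schemeEquiv (W ⊗ U)).injective ?_
    refine (range_map_yon_map m c').symm.trans ?_
    rw [em, AlgSp.Points.map_comp]
    exact (congrArg _ hc).trans hb
  haveI : MorphismProperty.DescendsAlong @Smooth H18Descent.fpqc.{u} :=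
    inferInstanceAs (MorphismProperty.DescendsAlong @Smooth (@Surjective ⊓ @Flat ⊓ @QuasiCompact))
  exact MorphismProperty.of_pullback_snd_of_descendsAlong (P := @Smooth) (Q := H18Descent.fpqc)
    (g := U.hom) ⟨⟨‹_›, ‹_›⟩, ‹_›⟩ hpr

/-- A banded gerbe over a strictly henselian local ring has a section. -/
theorem nonempty_fiber_of_banded {R : Type u} [CommRing R] [HenselianLocalRing R]
    [IsSepClosed (IsLocalRing.ResidueField R)] {ℋ : AlgSt.Cat (Spec (CommRingCat.of R))}
    (hℋ : IsGerbe (QuotSh.J K₀ (Spec (CommRingCat.of R))) ℋ)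
    {A : Over (Spec (CommRingCat.of R))} [GrpObj A] [Flat A.hom] [Surjective A.hom]
    [LocallyOfFinitePresentation A.hom] [QuasiCompact A.hom] [IsSeparated A.hom]
    (β : Banding ℋ (yonedaGrpObj A)) :
    Nonempty (ℋ.p.Fiber (Over.mk (𝟙 (Spec (CommRingCat.of R))))) := by
  have hst : Stk.IsStack (AlgSp.J (Spec (CommRingCat.of R))) ℋ := hℋ.1
  have hdf := repWith_diag_banded hℋ β (localFppf_of_fpqc (S10530.result _))
    (sourceIsoInv_locP _) (fun U => band_flat A U)
  have hdp := repWith_diag_banded hℋ β (localFppf_of_fpqc (S10527.result _))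
    (sourceIsoInv_locP _) (fun U => band_lfp A U)
  have hds := repWith_diag_banded hℋ β localFppf_surj sourceIsoInv_surjective
    (fun U => band_surj A U)
  obtain ⟨halg, -, -⟩ := isAlgStack_banded hℋ β
  obtain ⟨U, x, hUf, hUp, hUs⟩ := exists_point hℋ
  let s₀ : Spec (CommRingCat.of R) := IsLocalRing.closedPoint R
  obtain ⟨u₀, hu₀⟩ := U.hom.surjective s₀
  obtain ⟨_, ⟨V₀, hV₀, rfl⟩, hu₀V, -⟩ :=
    U.left.isBasis_affineOpens.exists_subset_of_mem_open (Set.mem_univ u₀) isOpen_univ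
  let V₁ : U.left.Opens := V₀
  let U₀ : Over (Spec (CommRingCat.of R)) := Over.mk (V₁.ι ≫ U.hom)
  let x₀ := BasedFunctor.comp (AlgSt.overMap (Over.homMk V₁.ι rfl : U₀ ⟶ U)) x
  haveI : IsAffine V₁.toScheme := hV₀
  haveI : Flat U₀.hom := inferInstanceAs (Flat (V₁.ι ≫ U.hom))
  haveI : LocallyOfFinitePresentation U₀.hom :=
    inferInstanceAs (LocallyOfFinitePresentation (V₁.ι ≫ U.hom))
  haveI : QuasiCompact U₀.hom := inferInstanceAs (QuasiCompact (V₁.ι ≫ U.hom))
  haveI : Surjective U₀.hom := ⟨fun s => by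
    have hop := U₀.hom.isOpenMap.isOpen_range
    exact ((IsLocalRing.closedPoint_mem_iff (R := R) ⟨_, hop⟩).1
      ⟨⟨u₀, hu₀V⟩, hu₀⟩).ge (Set.mem_univ s)⟩
  have hx₀ := repWith_point H12AlgSp.etLocal_flat hst.1 x₀ hdf
    (repWith_toSelf_scheme H12AlgSp.etLocal_flat U₀ ‹_›)
  obtain ⟨W, z, hz, hzs⟩ := halg.atlas
  haveI : Smooth W.hom :=
    smooth_of_chart hst.1 hdf hdp hds x₀ (fun T y => RepData.rep _ (hx₀ T y)) z hz
  -- a point of the atlas over the closed point
  obtain ⟨w, hw⟩ : ∃ w : W.left, W.hom w = s₀ := by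
    obtain ⟨a, ha⟩ := U₀.hom.surjective s₀
    obtain ⟨F, e, he, hF⟩ := hzs U₀ x₀
    obtain ⟨k⟩ := spMapOfOver_eq (BasedFunctor.comp e (FibCat.fpFst x₀ z))
    obtain ⟨b, hb⟩ := hF (AlgSp.Points.ofScheme U₀ a)
    obtain ⟨V, p, hp, hps⟩ := F.property.atlas
    obtain ⟨c, hc⟩ := H12AlgSp.surjective_map_of_repWith le_rfl hps b
    obtain ⟨c', rfl⟩ := (AlgSp.Points.schemeEquiv V).surjective c
    let v : V ⟶ U₀ := (AlgSp.yon _).preimage
      (p ≫ AlgSt.spMapOfOver (BasedFunctor.comp e (FibCat.fpFst x₀ z)))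
    let t : V ⟶ W := (AlgSp.yon _).preimage
      (p ≫ AlgSt.spMapOfOver (BasedFunctor.comp e (FibCat.fpSnd x₀ z)))
    refine ⟨t.left c', ?_⟩
    have h1 : v.left c' = a := by
      refine (AlgSp.Points.schemeEquiv U₀).injective ?_
      refine (range_map_yon_map v c').symm.trans ?_
      rw [(AlgSp.yon _).map_preimage, AlgSp.Points.map_comp]
      exact (congrArg _ hc).trans hb
    rw [← Scheme.Hom.comp_apply, Over.w t, ← Over.w v, Scheme.Hom.comp_apply, h1, ha]
  obtain ⟨σ, hσ, -⟩ := H28Neron.ComponentSections.exists_section_mem W.hom (⊤ : W.left.Opens) (z := w) trivial hw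
  let s : (Over.mk (𝟙 (Spec (CommRingCat.of R))) : Over (Spec (CommRingCat.of R))) ⟶ W :=
    Over.homMk σ hσ
  exact ⟨⟨z.obj (Over.mk s), z.w_obj _⟩⟩

end Groth.Agent.H14Gerbe
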