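import Groth.Agent.H14Gerbe.Section
import Groth.Agent.H14AlgSt.Graph
import Groth.Agent.H14AlgSt.Diag2

/-!
# The diagonal of a gerbe is surjective, flat and locally of finite presentation
-/

set_option autoImplicit false
set_option backward.isDefEq.respectTransparency false
set_option backward.isDefEq.respectTransparency.types false

universe u

open CategoryTheory CategoryTheory.Functor Opposite AlgebraicGeometry CategoryTheory.Limits

noncomputable section

namespace Groth.Agent.H14Gerbe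

open H14Fib H14Stk H14AlgSt

variable {S : Scheme.{u}} {P : MorphismProperty (AlgSp.Sp S)} {𝒳 𝒴 : AlgSt.Cat S}

local notation "K₀" => Scheme.fppfPrecoverage
local notation "LP" => AlgSp.LocP

/-- The first section over a test object of the diagonal. -/
def diagSec₁ {f : 𝒳 ⥤ᵇ 𝒴} {U : Over S} (z : FibCat.overCat U ⥤ᵇ FibCat.fp f f) :
    FibCat.overCat U ⥤ᵇ FibCat.fp (BasedFunctor.comp (BasedFunctor.comp z (FibCat.fpFst f f)) f) f :=
  FibCat.fpLift (BasedFunctor.id (FibCat.overCat U)) (BasedFunctor.comp z (FibCat.fpFst f f))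
    (Iso.refl _)

/-- The second section over a test object of the diagonal. -/
def diagSec₂ {f : 𝒳 ⥤ᵇ 𝒴} {U : Over S} (z : FibCat.overCat U ⥤ᵇ FibCat.fp f f) :
    FibCat.overCat U ⥤ᵇ FibCat.fp (BasedFunctor.comp (BasedFunctor.comp z (FibCat.fpFst f f)) f) f :=
  FibCat.fpLift (BasedFunctor.id (FibCat.overCat U)) (BasedFunctor.comp z (FibCat.fpSnd f f))
    ((Stk.restr z _).mapIso (FibCat.fpIso f f))

set_option maxHeartbeats 1000000 in
/-- The diagonal at a test object is known from a section of the base change. -/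
lemma repData_diag_of_section {f : 𝒳 ⥤ᵇ 𝒴} {U : Over S}
    (z : FibCat.overCat U ⥤ᵇ FibCat.fp f f) (h : AlgSt.RepByAlgSpWith P (diagSec₂ z)) :
    RepData P (FibCat.fpFst z (FibCat.diag f)) := by
  let y := BasedFunctor.comp (BasedFunctor.comp z (FibCat.fpFst f f)) f
  let pr := FibCat.fpFst y f
  let σ₁ := diagSec₁ z
  let σ₂ := diagSec₂ z
  let σ := FibCat.fpLift (F := pr) (G := pr) σ₁ σ₂ (Iso.refl (BasedFunctor.id (FibCat.overCat U)))
  have h0 : RepData P (FibCat.fpFst σ₁ σ₂) := h U σ₁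
  let fst' := FibCat.fpFst (BasedFunctor.comp σ₁ pr) (BasedFunctor.comp σ₂ pr)
  have h1 : RepData P
      (BasedFunctor.comp (FibCat.fpFst (pairMap σ₁ σ₂ pr) (FibCat.diag pr)) fst') :=
    RepData.of_equiv P (magicFun_isEquivOver σ₁ σ₂ pr) (Iso.refl _) h0
  let ψ : FibCat.overCat U ⥤ᵇ FibCat.fp (BasedFunctor.comp σ₁ pr) (BasedFunctor.comp σ₂ pr) :=
    graphSelf (BasedFunctor.id (FibCat.overCat U))
  have hψ : FibCat.IsEquivOver ψ := graphSelf_isEquivOver (BasedFunctor.id (FibCat.overCat U))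
  obtain ⟨⟨_, _⟩, hψs⟩ := (isEquivOver_iff _).1 hψ
  have : (BasedFunctor.id (FibCat.fp y f)).toFunctor.Full :=
    inferInstanceAs (𝟭 (FibCat.fp y f).obj).Full
  have : (BasedFunctor.id (FibCat.fp y f)).toFunctor.Faithful :=
    inferInstanceAs (𝟭 (FibCat.fp y f).obj).Faithful
  have : (BasedFunctor.id (FibCat.fp pr pr)).toFunctor.Full :=
    inferInstanceAs (𝟭 (FibCat.fp pr pr).obj).Full
  have : (BasedFunctor.id (FibCat.fp pr pr)).toFunctor.Faithful :=
    inferInstanceAs (𝟭 (FibCat.fp pr pr).obj).Faithful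
  let E₂ : FibCat.fp (BasedFunctor.comp ψ (pairMap σ₁ σ₂ pr)) (FibCat.diag pr) ⥤ᵇ
      FibCat.fp (pairMap σ₁ σ₂ pr) (FibCat.diag pr) :=
    fpMap (F := pairMap σ₁ σ₂ pr) (G := FibCat.diag pr) ψ (BasedFunctor.id _) (BasedFunctor.id _)
      (Iso.refl _) (Iso.refl _)
  have h2 : RepData P (FibCat.fpFst (BasedFunctor.comp ψ (pairMap σ₁ σ₂ pr)) (FibCat.diag pr)) :=
    RepData.of_equiv' P (E := E₂) (fpMap_isEquivOver _ _ _ _ _ hψs (essSurjOver_id _))
      (Iso.refl _) h1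
  have i₀ : BasedFunctor.comp ψ (pairMap σ₁ σ₂ pr) ≅ σ := by
    refine mkIso (fun s => fpIsoMk (Iso.refl _) (Iso.refl _) ?_)
      (fun {_ _} _ => fp_hom_ext ((Category.comp_id _).trans (Category.id_comp _).symm)
        ((Category.comp_id _).trans (Category.id_comp _).symm))
      (fun s => (fp_isHomLift_iff _ _).2 (IsHomLift.id rfl))
    erw [Category.id_comp]
  have h3 : RepData P (FibCat.fpFst σ (FibCat.diag pr)) := repData_congr i₀ h2
  have h4 : RepData P (FibCat.fpFst σ (FibCat.fpFst (basePair y f) (FibCat.diag f))) := by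
    obtain ⟨⟨_, _⟩, hds⟩ := (isEquivOver_iff _).1 (diagBase_isEquivOver y f)
    let M : FibCat.fp σ (FibCat.diag pr) ⥤ᵇ
        FibCat.fp σ (FibCat.fpFst (basePair y f) (FibCat.diag f)) :=
      fpMap (F := σ) (G := FibCat.fpFst (basePair y f) (FibCat.diag f))
        (BasedFunctor.id _) (diagBase y f) (BasedFunctor.id _) (Iso.refl _) (Iso.refl _)
    exact RepData.of_equiv P (E := M) (fpMap_isEquivOver _ _ _ _ _ (essSurjOver_id _) hds)
      (Iso.refl _) h3
  have h5 : RepData P (FibCat.fpFst (BasedFunctor.comp σ (basePair y f)) (FibCat.diag f)) :=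
    RepData.of_equiv P (pasteBase_isEquivOver (basePair y f) (FibCat.diag f) σ) (Iso.refl _) h4
  have i : BasedFunctor.comp σ (basePair y f) ≅ z := by
    refine mkIso (fun s => fpIsoMk (Iso.refl _) (Iso.refl _) ?_)
      (fun {_ _} _ => fp_hom_ext ((Category.comp_id _).trans (Category.id_comp _).symm)
        ((Category.comp_id _).trans (Category.id_comp _).symm))
      (fun s => (fp_isHomLift_iff _ _).2 (IsHomLift.id ((BasedFunctor.comp z (FibCat.fpFst f f)).w_obj s)))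
    change f.map (𝟙 _) ≫ (z.obj s).obj.iso.hom =
      (𝟙 _ ≫ y.map (𝟙 s) ≫ (z.obj s).obj.iso.hom) ≫ f.map (𝟙 _)
    rw [y.toFunctor.map_id, f.toFunctor.map_id, f.toFunctor.map_id]
    erw [Category.id_comp, Category.comp_id, Category.id_comp]
  exact repData_congr i h5

/-- The diagonal of a gerbe has every property of sections of gerbes over schemes. -/
lemma repWith_diag_of_gerbe (h𝒳 : AlgSt.IsAlgStack K₀ 𝒳) (h𝒴 : AlgSt.IsAlgStack K₀ 𝒴)
    {f : 𝒳 ⥤ᵇ 𝒴} (hf : Gerb.IsGerbeOver (QuotSh.J K₀ S) f)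
    (hsec : ∀ {𝒵 : AlgSt.Cat S} {T : Over S} {π : 𝒵 ⥤ᵇ FibCat.overCat T}
      {x : FibCat.overCat T ⥤ᵇ 𝒵}, (BasedFunctor.comp x π ≅ BasedFunctor.id (FibCat.overCat T)) →
      AlgSt.IsAlgStack K₀ 𝒵 → Gerb.LocSurjHom (QuotSh.J K₀ S) π → AlgSt.RepByAlgSpWith P x) :
    AlgSt.RepByAlgSpWith P (FibCat.diag f) := fun U z => by
  let y := BasedFunctor.comp (BasedFunctor.comp z (FibCat.fpFst f f)) f
  exact repData_diag_of_section z (hsec (π := FibCat.fpFst y f) (x := diagSec₂ z) (Iso.refl _)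
    (isAlgStack_fp' (isAlgStack_overCat U) h𝒳 h𝒴 y f)
    (isGerbeOver_fpFst y f h𝒴.isStack.1 (fibGrpd_overCat U) hf).2)

variable {f : 𝒳 ⥤ᵇ 𝒴}

theorem flat_diag_gerbe (h𝒳 : AlgSt.IsAlgStack K₀ 𝒳) (h𝒴 : AlgSt.IsAlgStack K₀ 𝒴)
    (hf : Gerb.IsGerbeOver (QuotSh.J K₀ S) f) :
    AlgSt.RepByAlgSpWith (LP @Flat) (FibCat.diag f) :=
  repWith_diag_of_gerbe h𝒳 h𝒴 hf (fun e h hπ => flat_section e h hπ)

theorem lfp_diag_gerbe (h𝒳 : AlgSt.IsAlgStack K₀ 𝒳) (h𝒴 : AlgSt.IsAlgStack K₀ 𝒴)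
    (hf : Gerb.IsGerbeOver (QuotSh.J K₀ S) f) :
    AlgSt.RepByAlgSpWith (LP @LocallyOfFinitePresentation) (FibCat.diag f) :=
  repWith_diag_of_gerbe h𝒳 h𝒴 hf (fun e h hπ => lfp_section e h hπ)

theorem surjective_diag_gerbe (h𝒳 : AlgSt.IsAlgStack K₀ 𝒳) (h𝒴 : AlgSt.IsAlgStack K₀ 𝒴)
    (hf : Gerb.IsGerbeOver (QuotSh.J K₀ S) f) :
    AlgSt.RepByAlgSpWith AlgSp.IsSurjectiveMor (FibCat.diag f) :=
  repWith_diag_of_gerbe h𝒳 h𝒴 hf (fun e h hπ => surjective_section e h hπ)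

end Groth.Agent.H14Gerbe
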