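import Groth.Agent.H14AlgSt.LocQ3
import Groth.Agent.H14AlgSt.Descent
import Groth.Agent.H14Quot.QuotStack
import Groth.Agent.H14Stk.Gerbe

/-!
# Surjective, flat, locally finitely presented morphisms lift objects fppf locally
-/

set_option autoImplicit false
set_option backward.isDefEq.respectTransparency false
set_option backward.isDefEq.respectTransparency.types false

universe u

open CategoryTheory CategoryTheory.Functor CategoryTheory.Limits AlgebraicGeometry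

noncomputable section

namespace Groth.Agent.H14Gerbe

open H14Fib H14Stk H14AlgSt

variable {S : Scheme.{u}} {𝒳 𝒴 : AlgSt.Cat S}

local notation "K₀" => Scheme.fppfPrecoverage
local notation "LP" => AlgSp.LocP

/-- An fppf covering family generates a covering sieve. -/
lemma mem_J_of_fppf {U : Over S} {ι : Type u} (C : ι → Over S) (c : ∀ i, C i ⟶ U)
    (h1 : ∀ i, Flat (c i).left) (h2 : ∀ i, LocallyOfFinitePresentation (c i).left)
    (h3 : ∀ z : U.left, ∃ i, z ∈ Set.range (c i).left) :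
    Sieve.ofArrows C c ∈ QuotSh.J K₀ S U := by
  refine H14Quot.mem_J_of_family (κ := ULift.{u + 1} ι) le_rfl (g := fun i => (c i.down).left) ?_
    fun i => ?_
  · rw [Scheme.fppfPrecoverage, Scheme.ofArrows_mem_precoverage_iff]
    exact ⟨fun z => (h3 z).elim fun i ⟨w, hw⟩ => ⟨⟨i⟩, w, hw⟩, fun i => ⟨h1 _, h2 _⟩⟩
  · exact ⟨C i.down, Over.homMk (𝟙 _) (by simp), c i.down, ⟨i.down⟩, Over.OverMorphism.ext (Category.id_comp _)⟩

/-- Local lifting is invariant under isomorphism. -/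
lemma locSurjObj_of_iso {J : GrothendieckTopology (Over S)} {F F' : 𝒳 ⥤ᵇ 𝒴} (e : F ≅ F')
    (h : Gerb.LocSurjObj J F) : Gerb.LocSurjObj J F' := fun y =>
  Locally.mono (h y) fun V f ⟨x, g, hg⟩ =>
    have : 𝒴.p.IsHomLift (𝟙 V) (isoApp e x).inv :=
      BasedNatTrans.isHomLift e.inv (obj_over_of_lift (f := f) g)
    ⟨x, (isoApp e x).inv ≫ g, IsHomLift.comp_lift_id_left' 𝒴.p V _ f g⟩

/-- A representable surjective flat locally finitely presented morphism lifts objects locally. -/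
lemma locSurjObj_of_rep (h𝒴 : FibCat.IsFibGrpd 𝒴.p) {w : 𝒳 ⥤ᵇ 𝒴}
    (h1 : AlgSt.RepByAlgSpWith (LP @Flat) w)
    (h2 : AlgSt.RepByAlgSpWith (LP @LocallyOfFinitePresentation) w)
    (h3 : AlgSt.RepByAlgSpWith AlgSp.IsSurjectiveMor w) :
    Gerb.LocSurjObj (QuotSh.J K₀ S) w := by
  intro y
  have := isFibered_of_fibGrpd h𝒴
  obtain ⟨ξ, e, -, he⟩ := exists_fromOver (U := 𝒴.p.obj y) (x := y) rfl
  obtain ⟨ι, C, c, hc1, hc2, hc3, hz⟩ := exists_lift_of_fppf h1 h2 h3 _ ξ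
  refine ⟨_, mem_J_of_fppf C c hc1 hc2 hc3, ?_⟩
  rintro V f ⟨W, k, _, ⟨i⟩, rfl⟩
  obtain ⟨z, ⟨j⟩⟩ := hz i
  let d : (FibCat.overCat (C i)).obj := Over.mk k
  let m : (Over.map (c i)).obj d ⟶ topObj (𝒴.p.obj y) := toTop _
  have hj : 𝒴.p.IsHomLift (𝟙 V) (isoApp j d).hom :=
    BasedNatTrans.isHomLift j.hom rfl
  have hm : 𝒴.p.IsHomLift (k ≫ c i) (ξ.map m) :=
    over_map_toTop_lift ξ ((Over.map (c i)).obj d)
  refine ⟨z.obj d, (isoApp j d).hom ≫ ξ.map m ≫ e.hom, ?_⟩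
  have h' : 𝒴.p.IsHomLift (k ≫ c i) (ξ.map m ≫ e.hom) :=
    IsHomLift.comp_lift_id_right' 𝒴.p (k ≫ c i) (ξ.map m) (𝒴.p.obj y) e.hom
  exact IsHomLift.comp_lift_id_left' 𝒴.p V (isoApp j d).hom (k ≫ c i) (ξ.map m ≫ e.hom)

/-- A morphism of schemes which is a covering lifts objects locally. -/
lemma locSurjObj_overMap {U V : Over S} (h : U ⟶ V) [Flat h.left]
    [LocallyOfFinitePresentation h.left] [Surjective h.left] :
    Gerb.LocSurjObj (QuotSh.J K₀ S) (AlgSt.overMap h) := by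
  intro s
  change ∃ R ∈ QuotSh.J K₀ S s.left, _
  let T := s.left
  let P : Over S := Over.mk (pullback.fst s.hom.left h.left ≫ T.hom)
  let c : P ⟶ T := Over.homMk (pullback.fst s.hom.left h.left) rfl
  let u : P ⟶ U := Over.homMk (pullback.snd s.hom.left h.left) (by
    change _ ≫ U.hom = pullback.fst s.hom.left h.left ≫ T.hom
    rw [← Over.w h, ← pullback.condition_assoc, Over.w s.hom])
  have : Flat c.left := inferInstanceAs (Flat (pullback.fst s.hom.left h.left))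
  have : LocallyOfFinitePresentation c.left :=
    inferInstanceAs (LocallyOfFinitePresentation (pullback.fst s.hom.left h.left))
  have hcs : Surjective c.left := inferInstanceAs (Surjective (pullback.fst s.hom.left h.left))
  refine ⟨_, mem_J_of_fppf (fun _ : PUnit.{u+1} => P) (fun _ => c) (fun _ => ‹_›) (fun _ => ‹_›)
    (fun z => ⟨⟨⟩, hcs.1 z⟩), ?_⟩
  rintro W f ⟨W', k, _, ⟨⟩, rfl⟩
  have e : u ≫ h = c ≫ s.hom := Over.OverMorphism.ext pullback.condition.symm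
  let x : (FibCat.overCat U).obj := Over.mk (k ≫ u)
  let g : (AlgSt.overMap h).obj x ⟶ s := Over.homMk (k ≫ c) (by
    change (k ≫ c) ≫ s.hom = (k ≫ u) ≫ h
    rw [Category.assoc, Category.assoc, e])
  exact ⟨x, g, IsHomLift.of_fac' (FibCat.overCat V).p (k ≫ c) g rfl rfl (by
    change k ≫ c = 𝟙 _ ≫ (k ≫ c) ≫ 𝟙 _
    simp)⟩

/-- A surjective flat locally finitely presented morphism lifts objects locally. -/
theorem locSurjObj_of_locQ (h𝒳 : AlgSt.IsAlgStack K₀ 𝒳) (h𝒴 : AlgSt.IsAlgStack K₀ 𝒴)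
    {f : 𝒳 ⥤ᵇ 𝒴} (hs : AlgSt.IsSurjective f) (h1 : AlgSt.LocQ (LP @Flat) f)
    (h2 : AlgSt.LocQ (LP @LocallyOfFinitePresentation) f) :
    Gerb.LocSurjObj (QuotSh.J K₀ S) f := by
  obtain ⟨V, y, hy, hys⟩ := h𝒴.atlas
  obtain ⟨A, a, h, ha, has, ⟨j⟩⟩ := exists_atlas_fp h𝒳 h𝒴 f y
  have : Flat h.left :=
    (locP_yon_iff H12AlgSp.etLocal_flat h).1 (prop_of_locQ smLocal_flat h1 hy a ha j)
  have : LocallyOfFinitePresentation h.left :=
    (locP_yon_iff H12AlgSp.etLocal_lfp h).1 (prop_of_locQ smLocal_lfp h2 hy a ha j)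
  have : Surjective h.left := ⟨ofChart_surjective_of_atlas h𝒳 h𝒴 hs has j⟩
  have h0 := locSurjObj_comp (AlgSt.overMap h) y (locSurjObj_overMap h)
    (locSurjObj_of_rep h𝒴.isStack.1 (repWith_locP_mono smooth_le_flat hy)
      (repWith_locP_mono smooth_le_lfp hy) hys)
  let α : BasedFunctor.comp (BasedFunctor.comp a (FibCat.fpFst f y)) f ≅
      BasedFunctor.comp (AlgSt.overMap h) y :=
    (Stk.restr a 𝒴).mapIso (FibCat.fpIso f y) ≪≫ (post (FibCat.overCat A) y).mapIso j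
  exact locSurjObj_of_comp _ f (locSurjObj_of_iso α.symm h0)

end Groth.Agent.H14Gerbe
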