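import Groth.Agent.H14AlgSt.OverMapPullback
import Groth.Agent.H14Gerbe.FieldImage

/-!
# Residual gerbes from a well placed point of a chart
-/

set_option autoImplicit false
set_option backward.isDefEq.respectTransparency false
set_option backward.isDefEq.respectTransparency.types false

universe u

open CategoryTheory CategoryTheory.Functor Opposite AlgebraicGeometry CategoryTheory.Limits

noncomputable section

namespace Groth.Agent.H14Gerbe

open H14Fib H14Stk H14AlgSt

variable {S : Scheme.{u}} {𝒳 : AlgSt.Cat S} {W : Over S}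

local notation "K₀" => Scheme.fppfPrecoverage

local notation "LP" => AlgSp.LocP

/-- Pulling back a point which no other point of the image specializes to. -/
lemma isClosedImmersion_fst_fromSpecResidueField {Y X : Scheme.{u}} (g : Y ⟶ X) (v : X)
    (H : ∀ y, v ⤳ g y → g y = v) :
    IsClosedImmersion (pullback.fst g (X.fromSpecResidueField v)) := by
  refine IsClosedImmersion.of_isPreimmersion _ ?_
  have : g ⁻¹' Set.range (X.fromSpecResidueField v) = g ⁻¹' closure {v} := by
    ext y
    rw [Scheme.range_fromSpecResidueField, Set.mem_preimage, Set.mem_preimage,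
      Set.mem_singleton_iff, ← specializes_iff_mem_closure]
    exact ⟨fun e => e ▸ specializes_rfl, H y⟩
  rw [Scheme.Pullback.range_fst, this]
  exact isClosed_closure.preimage g.continuous

/-- The spectrum of the residue field of a point of a chart. -/
abbrev resPt (v : W.left) : Over S := Over.mk (W.left.fromSpecResidueField v ≫ W.hom)

/-- The inclusion of a point of a chart. -/
abbrev resPtIncl (v : W.left) : resPt v ⟶ W := Over.homMk (W.left.fromSpecResidueField v)

/-- The self fibre product of a point of a chart is locally of finite type over it when no other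
point of the chart over the same point of the stack is a specialization of it. -/
lemma repWith_lft_self (h𝒳 : AlgSt.IsAlgStack K₀ 𝒳) (z : FibCat.overCat W ⥤ᵇ 𝒳)
    (hz : AlgSt.RepByAlgSpWith (LP @Smooth) z) (v : W.left)
    (hv : ∀ w : W.left, AlgSt.Points.ofChart z w = AlgSt.Points.ofChart z v → v ⤳ w → w = v) :
    AlgSt.RepByAlgSpWith (LP @LocallyOfFiniteType)
      (FibCat.fpFst (BasedFunctor.comp (AlgSt.overMap (resPtIncl v)) z)
        (BasedFunctor.comp (AlgSt.overMap (resPtIncl v)) z)) := by
  let c := resPtIncl v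
  let zk := BasedFunctor.comp (AlgSt.overMap c) z
  have h1 : AlgSt.RepByAlgSpWith (LP @LocallyOfFiniteType) (FibCat.fpFst zk z) :=
    repWith_fpFst zk (repWith_locP_mono smooth_le_lft hz)
  have h2 : AlgSt.RepByAlgSpWith (LP @LocallyOfFiniteType)
      (FibCat.fpFst (FibCat.fpSnd zk z) (AlgSt.overMap c)) := by
    intro T y
    obtain ⟨h, ⟨jh⟩⟩ := exists_overMap_iso (BasedFunctor.comp y (FibCat.fpSnd zk z))
    obtain ⟨d, ⟨jd⟩⟩ := exists_overMap_iso (BasedFunctor.comp y (FibCat.fpFst zk z))
    have hpt : ∀ t : T.left, AlgSt.Points.ofChart z (h.left t) = AlgSt.Points.ofChart z v := by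
      intro t
      let i : BasedFunctor.comp (AlgSt.overMap d) zk ≅ BasedFunctor.comp (AlgSt.overMap h) z :=
        (post _ zk).mapIso jd.symm ≪≫ (Stk.restr y _).mapIso (FibCat.fpIso zk z) ≪≫
          (post _ z).mapIso jh
      have e := ofChart_iso i t
      rw [ofChart_comp_overMap, ofChart_comp_overMap, ofChart_comp_overMap] at e
      rw [← e]
      exact congrArg (AlgSt.Points.ofChart z) (W.left.fromSpecResidueField_apply v _)
    have : IsClosedImmersion (pullback.fst h c).left := by
      have := isClosedImmersion_fst_fromSpecResidueField h.left v fun t ht => hv _ (hpt t) ht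
      have sq : IsPullback (pullback.fst h c).left (pullback.snd h c).left h.left c.left :=
        (IsPullback.of_hasPullback h c).map (Over.forget S)
      rw [← sq.isoPullback_hom_fst]
      exact (MorphismProperty.cancel_left_of_respectsIso @IsClosedImmersion _ _).2 this
    have hP : LP @LocallyOfFiniteType ((AlgSp.yon S).map (pullback.fst h c)) :=
      (locP_yon_iff H12AlgSp.etLocal_lft _).2 inferInstance
    exact RepData.of_equiv' _ (pasteBase_isEquivOver (FibCat.fpSnd zk z) (AlgSt.overMap c) y)
      (Iso.refl _) (repData_congr jh.symm (repData_overMap_pullback h c hP))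
  have hk := isAlgStack_overCat (resPt v)
  have hW := isAlgStack_overCat W
  have h3 := repWith_locP_comp H12AlgSp.etLocal_lft
    (isAlgStack_fp' (isAlgStack_fp' hk hW h𝒳 zk z) hk hW (FibCat.fpSnd zk z)
      (AlgSt.overMap c)).isStack.1
    (isAlgStack_fp' hk hW h𝒳 zk z).isStack.1 h2 h1
  exact (repWith_equiv_comp_iff (f := FibCat.fpFst zk (BasedFunctor.comp (AlgSt.overMap c) z))
    (pasteComp_isEquivOver zk z (AlgSt.overMap c))).2 h3

/-- A point of a stack with a well placed preimage in a chart has a residual gerbe. -/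
theorem resGerbeExists_of_point (h𝒳 : AlgSt.IsAlgStack K₀ 𝒳) (z : FibCat.overCat W ⥤ᵇ 𝒳)
    (hz : AlgSt.RepByAlgSpWith (LP @Smooth) z) (v : W.left)
    (hv : ∀ w : W.left, AlgSt.Points.ofChart z w = AlgSt.Points.ofChart z v → v ⤳ w → w = v) :
    Gerb.ResGerbeExists K₀ 𝒳 (AlgSt.Points.ofChart z v) := by
  let K := W.left.residueField v
  let a : Spec (CommRingCat.of K) ⟶ S := W.left.fromSpecResidueField v ≫ W.hom
  let zk : FibCat.overCat (Over.mk a) ⥤ᵇ 𝒳 := BasedFunctor.comp (AlgSt.overMap (resPtIncl v)) z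
  have hT := isAlgStack_overCat (Over.mk a : Over S)
  have hR := isAlgStack_fp' hT hT h𝒳 zk zk
  have hl : AlgSt.RepByAlgSpWith (LP @LocallyOfFiniteType) (FibCat.fpFst zk zk) :=
    repWith_lft_self h𝒳 z hz v hv
  have hn : AlgSt.SmoothLocally (fun T => IsLocallyNoetherian T)
      (FibCat.overCat (Over.mk a : Over S)) := by
    intro V y hy
    obtain ⟨h, ⟨i⟩⟩ := exists_overMap_iso y
    have : Smooth h.left := smooth_of_repWith_overMap h (repWith_of_iso i hy)
    have : IsLocallyNoetherian (Over.mk a : Over S).left :=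
      inferInstanceAs (IsLocallyNoetherian (Spec (CommRingCat.of K)))
    exact LocallyOfFiniteType.isLocallyNoetherian h.left
  have hfp : ∀ P : MorphismProperty Scheme.{u}, (P = @Flat ∨ P = @LocallyOfFinitePresentation) →
      AlgSt.RepByAlgSpWith (LP P) (FibCat.fpFst zk zk) := by
    rintro P (rfl | rfl)
    · exact repWith_of_locQ smLocal_flat (baseStable_locP H12AlgSp.etLocal_flat)
        (localFppf_of_fpqc (S10530.result S)) hR hT (repByAlgSp1_of_with hl)
        (locQ_flat_over_field hR _)
    · exact repWith_of_locQ smLocal_lfp (baseStable_locP H12AlgSp.etLocal_lfp)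
        (localFppf_of_fpqc (S10527.result S)) hR hT (repByAlgSp1_of_with hl)
        (locQ_lfp_of_lft_of_noetherian hR hT hn (locQ_of_repWith smLocal_lft hR hT hl))
  obtain ⟨hA, hm, -, -, hs⟩ := exists_fppf_image zk hfp h𝒳
  obtain ⟨hne, hsub⟩ := subsingleton_points_of_field_point hA.isStack.1 hs
  refine ⟨_, AlgSt.subIncl 𝒳 (imgPred zk), hA, hm, hne, hsub, fun q => ?_⟩
  obtain ⟨t, rfl⟩ := ofChart_surjective hA.isStack.1 hs q
  rw [← ofChart_comp (toImg zk) (AlgSt.subIncl 𝒳 (imgPred zk)),
    ofChart_iso (liftSubIso zk (imgPred_self zk)), ofChart_comp_overMap]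
  exact congrArg (AlgSt.Points.ofChart z) (W.left.fromSpecResidueField_apply v t)

/-- Residual gerbes exist on locally Noetherian stacks. -/
theorem resGerbeExists_of_locallyNoetherian (h𝒳 : AlgSt.IsAlgStack K₀ 𝒳)
    (hN : AlgSt.SmoothLocally (fun T => IsLocallyNoetherian T) 𝒳) (x : AlgSt.Points 𝒳) :
    Gerb.ResGerbeExists K₀ 𝒳 x := by
  obtain ⟨U, y, hy, hys⟩ := id h𝒳.atlas
  have := hN U y hy
  obtain ⟨u₀, rfl⟩ := ofChart_surjective h𝒳.isStack.1 hys x
  obtain ⟨_, ⟨O, hO, rfl⟩, huO, -⟩ := U.left.isBasis_affineOpens.exists_subset_of_mem_open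
    (Set.mem_univ u₀) isOpen_univ
  have : IsNoetherianRing Γ(U.left, O) := IsLocallyNoetherian.component_noetherian ⟨O, hO⟩
  let c : Over.mk (hO.fromSpec ≫ U.hom) ⟶ U := Over.homMk hO.fromSpec
  let z := BasedFunctor.comp (AlgSt.overMap c) y
  have : Smooth c.left := inferInstanceAs (Smooth hO.fromSpec)
  have hz : AlgSt.RepByAlgSpWith (LP @Smooth) z :=
    repWith_locP_comp H12AlgSp.etLocal_smooth (fibGrpd_overCat _) (fibGrpd_overCat _)
      (repWith_overMap_smooth c) hy
  let x := AlgSt.Points.ofChart y u₀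
  obtain ⟨a, ha⟩ : ∃ a, hO.fromSpec a = u₀ := hO.range_fromSpec.ge huO
  let P : Set (Ideal Γ(U.left, O)) :=
    (fun w : PrimeSpectrum Γ(U.left, O) => w.asIdeal) '' {w | AlgSt.Points.ofChart z w = x}
  have hax : AlgSt.Points.ofChart z a = x := by
    rw [ofChart_comp_overMap]
    exact congrArg (AlgSt.Points.ofChart y) ha
  obtain ⟨_, ⟨v, hv, rfl⟩, hmax⟩ := set_has_maximal_iff_noetherian.2 ‹IsNoetherianRing _› P
    ⟨_, a, hax, rfl⟩
  have key := resGerbeExists_of_point h𝒳 z hz v fun w hw hvw => by
    have hle : v.asIdeal ≤ PrimeSpectrum.asIdeal w := (PrimeSpectrum.le_iff_specializes v w).2 hvw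
    refine PrimeSpectrum.ext (le_antisymm ?_ hle)
    by_contra h
    exact hmax _ ⟨w, hw.trans hv, rfl⟩ (lt_of_le_not_ge hle h)
  have hv' : AlgSt.Points.ofChart z v = AlgSt.Points.ofChart y u₀ := hv
  rw [← hv']
  exact key

end Groth.Agent.H14Gerbe
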