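import Groth.Agent.H14Gerbe.Cover
import Groth.Agent.H14Gerbe.ResPoint
import Groth.Agent.H12AlgSp.Residual

/-!
# Residual gerbes of gerbes
-/

set_option autoImplicit false
set_option backward.isDefEq.respectTransparency false
set_option backward.isDefEq.respectTransparency.types false

universe u

open CategoryTheory CategoryTheory.Functor Opposite AlgebraicGeometry CategoryTheory.Limits

noncomputable section

namespace Groth.Agent.H14Gerbe

open H14Fib H14Stk H14AlgSt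

variable {S : Scheme.{u}} {𝒳 : AlgSt.Cat S}

local notation "K₀" => Scheme.fppfPrecoverage

lemma full_faithful_ofSpMap {Z X : AlgSp.Sp S} (i : Z ⟶ X) [Mono i] :
    (AlgSt.ofSpMap i).toFunctor.Full ∧ (AlgSt.ofSpMap i).toFunctor.Faithful := by
  have : Mono i.hom :=
    inferInstanceAs (Mono ((sheafToPresheaf (AlgSp.J S) (Type (u + 1))).map i))
  have hinj : ∀ T : Over S, Function.Injective (i.hom.app (op T)) := fun T =>
    (mono_iff_injective _).1 inferInstance
  refine ⟨⟨fun {a b} m => ⟨⟨m.hom, hinj _ ?_⟩, Stk.EltObj.Hom.ext rfl⟩⟩,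
    ⟨fun {a b} m n h => Stk.EltObj.Hom.ext
      (congrArg (fun t : (AlgSt.ofSpMap i).obj a ⟶ (AlgSt.ofSpMap i).obj b => t.hom) h)⟩⟩
  have h1 := m.map_sec
  have h2 := (ConcreteCategory.congr_hom (i.hom.naturality m.hom.op) b.sec)
  exact h2.trans h1

/-- Residual gerbes exist at every point of a gerbe over an algebraic space. -/
theorem resGerbeExists_of_gerbe (h𝒳 : AlgSt.IsAlgStack K₀ 𝒳) (X : AlgSp.Space S)
    (π : 𝒳 ⥤ᵇ AlgSt.ofSp X.obj) (hπ : Gerb.IsGerbeOver (QuotSh.J K₀ S) π) (x : AlgSt.Points 𝒳) :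
    Gerb.ResGerbeExists K₀ 𝒳 x := by
  obtain ⟨y, hy⟩ := (spHomeo X).surjective (AlgSt.Points.map π x)
  obtain ⟨U, a, ha, has⟩ := X.property.atlas
  obtain ⟨u, hu⟩ := H12AlgSp.surjective_ofPt_of_repWith le_rfl has y
  obtain ⟨Z, i, p, hZ, hi, hr, -, -, -, hps⟩ :=
    H12AlgSp.Residual.exists_residual_chart X.property ha u
  obtain ⟨⟨z⟩, hZs⟩ := H12AlgSp.Residual.subsingleton_points hps
  have := hi
  let Zs : AlgSp.Space S := ⟨Z, hZ⟩
  let ii : Zs.obj ⟶ X.obj := i
  have hZa := isAlgStack_ofSp Zs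
  have hXa := isAlgStack_ofSp X
  let j := AlgSt.ofSpMap ii
  have hP := isAlgStack_fp' hZa h𝒳 hXa j π
  have hz : AlgSt.Points.map j (spHomeo Zs z) = AlgSt.Points.map π x := by
    have h1 : AlgSp.Points.map i z = y := by
      have := hr.le ⟨z, rfl⟩
      rw [Set.mem_singleton_iff] at this
      exact this.trans hu
    rw [← hy, ← h1]
    exact (congrFun (spHomeo_map (F := Zs) (G := X) ii) z).symm
  obtain ⟨w, -, hw⟩ := exists_points_fp hZa.isStack.1 h𝒳.isStack.1 hXa.isStack.1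
    (F := j) (G := π) hz
  have hbij := (univHomeo_gerbe h𝒳 hXa hπ _ hZa j).bijective
  have hs : Subsingleton (AlgSt.Points (FibCat.fp j π)) := ⟨fun a b => hbij.1
    ((spHomeo Zs).symm.injective (@Subsingleton.elim _ hZs _ _))⟩
  obtain ⟨_, _⟩ := full_faithful_ofSpMap ii
  obtain ⟨h1, h2⟩ := full_faithful_fpFst π j
  obtain ⟨⟨_, _⟩, -⟩ := (isEquivOver_iff _).1 (fpSwap_isEquivOver j π)
  have : (BasedFunctor.comp (fpSwap j π) (FibCat.fpFst π j)).toFunctor.Full :=
    inferInstanceAs ((fpSwap j π).toFunctor ⋙ (FibCat.fpFst π j).toFunctor).Full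
  have : (BasedFunctor.comp (fpSwap j π) (FibCat.fpFst π j)).toFunctor.Faithful :=
    inferInstanceAs ((fpSwap j π).toFunctor ⋙ (FibCat.fpFst π j).toFunctor).Faithful
  have hm : AlgSt.IsMono (FibCat.fpSnd j π) := by
    change AlgSt.IsMono (BasedFunctor.comp (fpSwap j π) (FibCat.fpFst π j))
    exact isMono_of_fully_faithful hP h𝒳 _
  exact ⟨_, FibCat.fpSnd j π, hP, hm, ⟨w⟩, hs, fun w' => by rw [@Subsingleton.elim _ hs w' w, hw]⟩

end Groth.Agent.H14Gerbe
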