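import Groth.Agent.H14Gerbe.DenseGerbe
import Groth.Agent.H14Gerbe.ResGerbe
import Groth.Agent.H14AlgSt.ReducedSub
import Groth.Agent.H14AlgSt.Image

/-!
# Residual gerbes on stacks with quasi-compact inertia
-/

set_option autoImplicit false
set_option backward.isDefEq.respectTransparency false
set_option backward.isDefEq.respectTransparency.types false

universe u

open CategoryTheory CategoryTheory.Functor Opposite AlgebraicGeometry CategoryTheory.Limits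

noncomputable section

namespace Groth.Agent.H14Gerbe

open H14Fib H14Stk H14AlgSt

variable {S : Scheme.{u}} {𝒳 : AlgSt.Cat S} {Q : 𝒳.obj → Prop}

local notation "K₀" => Scheme.fppfPrecoverage

/-- The open sets of a closed substack come from the ambient stack. -/
lemma exists_open_of_closedSubstack (hX : AlgSt.IsAlgStack K₀ 𝒳)
    (hQ : AlgSt.IsClosedSubstack 𝒳 Q K₀) {O : Set (AlgSt.Points (AlgSt.fullSub 𝒳 Q))}
    (hO : IsOpen O) :
    ∃ O' : Set (AlgSt.Points 𝒳), IsOpen O' ∧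
      AlgSt.Points.map (AlgSt.subIncl 𝒳 Q) ⁻¹' O' = O := by
  obtain ⟨U, x, hx, hxs⟩ := id hX.atlas
  obtain ⟨A, v, hv, hW⟩ := exists_subspace hQ.1 hQ.2.2 x
  have : IsClosedImmersion v.left := hv
  let i := AlgSt.subIncl 𝒳 Q
  have : i.toFunctor.Full := inferInstanceAs (ObjectProperty.ι (P := Q)).Full
  have hinj : Function.Injective (AlgSt.Points.map i) :=
    points_map_injective_of_ff hQ.2.1.isStack.1 hX.isStack.1 i
  let x' := liftSub (BasedFunctor.comp (AlgSt.overMap v) x) (subspace_mem hW)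
  have hx' : ∀ w, AlgSt.Points.map i (AlgSt.Points.ofChart x' w) =
      AlgSt.Points.ofChart x (v.left w) := fun w => by
    rw [← ofChart_comp x' i, ofChart_iso (liftSubIso _ _), ofChart_comp_overMap]
  have hP : IsOpen (AlgSt.Points.ofChart x' ⁻¹' O) :=
    hO.preimage (continuous_ofChart hQ.2.1 x')
  let O₁ : Set U.left := (v.left '' (AlgSt.Points.ofChart x' ⁻¹' O)ᶜ)ᶜ
  have hO₁ : IsOpen O₁ :=
    (v.left.isClosedEmbedding.isClosedMap _ hP.isClosed_compl).isOpen_compl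
  refine ⟨AlgSt.Points.ofChart x '' O₁, isOpenMap_ofChart hX.isStack.1
    (repWith_locP_mono smooth_le_flat hx) (repWith_locP_mono smooth_le_lfp hx) _ hO₁,
    Set.ext fun z => ⟨?_, fun hz => ?_⟩⟩
  · rintro ⟨a, ha, e⟩
    obtain ⟨w, rfl⟩ := exists_point_of_mem_range hX.isStack.1 hQ.1 hQ.2.1.isStack.1 x hW
      (t := a) ⟨z, e.symm⟩
    rw [← hinj ((hx' w).trans e)]
    by_contra h
    exact ha ⟨w, h, rfl⟩
  · obtain ⟨a, ha⟩ := ofChart_surjective hX.isStack.1 hxs (AlgSt.Points.map i z)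
    obtain ⟨w, rfl⟩ := exists_point_of_mem_range hX.isStack.1 hQ.1 hQ.2.1.isStack.1 x hW
      (t := a) ⟨z, ha.symm⟩
    refine ⟨_, ?_, ha⟩
    rintro ⟨w', hw', e⟩
    apply hw'
    rw [v.left.isClosedEmbedding.injective e, Set.mem_preimage, hinj ((hx' w).trans ha)]
    exact hz

/-- A fibred strictly full substack is stable under pullback. -/
lemma pred_of_hom (hX : FibCat.IsFibGrpd 𝒳.p) (hc : ObjectProperty.IsClosedUnderIsomorphisms Q)
    (hQ : FibCat.IsFibGrpd (AlgSt.fullSub 𝒳 Q).p) {a b : 𝒳.obj} (φ : b ⟶ a) (ha : Q a) : Q b := by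
  obtain ⟨b', ψ, hψ⟩ := hQ.exists_lift (x := (⟨a, ha⟩ : (AlgSt.fullSub 𝒳 Q).obj)) (𝒳.p.map φ)
  have : 𝒳.p.IsHomLift (𝒳.p.map φ) ψ.hom :=
    (BasedFunctor.isHomLift_iff (AlgSt.subIncl 𝒳 Q) (𝒳.p.map φ) ψ).2 hψ
  obtain ⟨e, -, -⟩ := exists_vertIso hX (𝒳.p.map φ) φ ψ.hom
  exact hc.of_iso e.symm b'.property

/-- Inertia of a strictly full substack is quasi-compact if the ambient one is. -/
lemma isQCMor_inertia_fullSub (hX : AlgSt.IsAlgStack K₀ 𝒳)
    (hh : ∀ {a b : 𝒳.obj}, (b ⟶ a) → Q a → Q b)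
    (hQ : AlgSt.IsAlgStack K₀ (AlgSt.fullSub 𝒳 Q))
    (hI : AlgSt.IsQuasiCompactMor K₀ (FibCat.inertiaToBase (FibCat.toSelf 𝒳))) :
    AlgSt.IsQuasiCompactMor K₀ (FibCat.inertiaToBase (FibCat.toSelf (AlgSt.fullSub 𝒳 Q))) := by
  let i := AlgSt.subIncl 𝒳 Q
  let q := FibCat.inertiaToBase (FibCat.toSelf 𝒳)
  have hq := isAlgStack_inertia hX
  have hp := isAlgStack_fp' hQ hq hX i q
  have hJ := isAlgStack_inertia hQ
  have h1 : AlgSt.IsQuasiCompactMor K₀ (FibCat.fpFst i q) := isQCMor_fpFst hq hX hQ i hI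
  obtain ⟨E, ⟨j⟩, ⟨k⟩⟩ := subInertia_isEquivOver (Q := Q) hh
  refine isQCMor_of_surjective hp hJ hQ (f := E)
    (p := FibCat.fpFst i q) ?_ ?_ h1
  · exact (Stk.restr E _).mapIso (Iso.refl _) ≪≫ (post _ (FibCat.fpFst i q)).mapIso k
  · exact (points_map_bijective ⟨subInertia Q, ⟨k⟩, ⟨j⟩⟩).2

/-- Residual gerbes exist when the inertia is quasi-compact. -/
theorem resGerbeExists_of_qc_inertia (hX : AlgSt.IsAlgStack K₀ 𝒳)
    (hI : AlgSt.IsQuasiCompactMor K₀ (FibCat.inertiaToBase (FibCat.toSelf 𝒳)))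
    (x : AlgSt.Points 𝒳) : Gerb.ResGerbeExists K₀ 𝒳 x := by
  obtain ⟨Q, hQ, hr, hred⟩ := exists_reduced_substack hX (closure {x}) isClosed_closure
  let i := AlgSt.subIncl 𝒳 Q
  obtain ⟨z₀, hz₀⟩ : x ∈ Set.range (AlgSt.Points.map i) := hr.symm ▸ subset_closure rfl
  have hh : ∀ {a b : 𝒳.obj}, (b ⟶ a) → Q a → Q b :=
    pred_of_hom hX.isStack.1 hQ.1 hQ.2.1.isStack.1
  obtain ⟨O, hO, hOd, hg⟩ :=
    exists_dense_gerbe hQ.2.1 hred (isQCMor_inertia_fullSub hX hh hQ.2.1 hI)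
  have hz : z₀ ∈ O := by
    obtain ⟨O', hO', hpre⟩ := exists_open_of_closedSubstack hX hQ hO
    obtain ⟨z, hzO⟩ := hOd.nonempty (h := ⟨z₀⟩)
    rw [← hpre] at hzO ⊢
    have hcl : AlgSt.Points.map i z ∈ closure {x} := hr ▸ ⟨z, rfl⟩
    obtain ⟨y, h1, hy⟩ := mem_closure_iff.1 hcl O' hO' hzO
    rw [Set.mem_singleton_iff] at hy
    rw [Set.mem_preimage, hz₀, ← hy]
    exact h1
  let j := AlgSt.subIncl (AlgSt.fullSub 𝒳 Q) (ptPred O)
  have h𝒰 := (isOpenSubstack_ptPred hQ.2.1 hO).2.1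
  obtain ⟨w, hw⟩ : z₀ ∈ Set.range (AlgSt.Points.map j) := range_ptPred.symm ▸ hz
  obtain ⟨X, π, hπ⟩ := hg
  obtain ⟨R, m, hR, hm, hne, hsub, hmx⟩ := resGerbeExists_of_gerbe h𝒰 X π hπ w
  have := full_of_isMono hR.isStack.1 h𝒰.isStack.1 hm
  have := faithful_of_repByAlgSp1 hR.isStack.1 h𝒰.isStack.1 (repByAlgSp1_of_with hm)
  have : j.toFunctor.Full := inferInstanceAs (ObjectProperty.ι (P := ptPred O)).Full
  have : j.toFunctor.Faithful := inferInstanceAs (ObjectProperty.ι (P := ptPred O)).Faithful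
  have : i.toFunctor.Full := inferInstanceAs (ObjectProperty.ι (P := Q)).Full
  have : i.toFunctor.Faithful := inferInstanceAs (ObjectProperty.ι (P := Q)).Faithful
  have : (BasedFunctor.comp (BasedFunctor.comp m j) i).toFunctor.Full :=
    inferInstanceAs ((m.toFunctor ⋙ j.toFunctor) ⋙ i.toFunctor).Full
  have : (BasedFunctor.comp (BasedFunctor.comp m j) i).toFunctor.Faithful :=
    inferInstanceAs ((m.toFunctor ⋙ j.toFunctor) ⋙ i.toFunctor).Faithful
  refine ⟨R, BasedFunctor.comp (BasedFunctor.comp m j) i, hR,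
    isMono_of_fully_faithful hR hX _, hne, hsub, fun z => ?_⟩
  rw [points_map_comp, points_map_comp, hmx, hw, hz₀]

end Groth.Agent.H14Gerbe
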