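import Groth.Agent.H14Gerbe.Fibre
import Groth.Agent.H14Gerbe.LocLift
import Groth.Agent.H14Gerbe.Retract
import Groth.Agent.H14AlgSt.FieldPoint
import Groth.Agent.H14AlgSt.AlgFp
import Groth.Agent.S10527
import Groth.Agent.S10530

/-!
# A section of a gerbe over a scheme is surjective, flat and locally of finite presentation
-/

set_option autoImplicit false
set_option backward.isDefEq.respectTransparency false
set_option backward.isDefEq.respectTransparency.types false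

universe u

open CategoryTheory CategoryTheory.Functor Opposite AlgebraicGeometry CategoryTheory.Limits

noncomputable section

namespace Groth.Agent.H14Gerbe

open H14Fib H14Stk H14AlgSt

variable {S : Scheme.{u}} {𝒳 : AlgSt.Cat S} {T : Over S} {π : 𝒳 ⥤ᵇ FibCat.overCat T}
  {x : FibCat.overCat T ⥤ᵇ 𝒳}

local notation "K₀" => Scheme.fppfPrecoverage
local notation "LP" => AlgSp.LocP

/-- Every point of a gerbe over a scheme is locally isomorphic to a section. -/
lemma locally_iso_section (h𝒳 : FibCat.IsFibGrpd 𝒳.p)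
    (hπ : Gerb.LocSurjHom (QuotSh.J K₀ S) π)
    (e : BasedFunctor.comp x π ≅ BasedFunctor.id (FibCat.overCat T)) {U : Over S}
    (y : FibCat.overCat U ⥤ᵇ 𝒳) :
    ∃ (C : U.left → Over S) (c : ∀ i, C i ⟶ U) (d : ∀ i, C i ⟶ T),
      (∀ i, Flat (c i).left) ∧ (∀ i, LocallyOfFinitePresentation (c i).left) ∧
      (∀ z : U.left, ∃ i, z ∈ Set.range (c i).left) ∧
      ∀ i, Nonempty (BasedFunctor.comp (AlgSt.overMap (c i)) y ≅
        BasedFunctor.comp (AlgSt.overMap (d i)) x) := by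
  obtain ⟨d₀, ⟨j⟩⟩ := exists_overMap_iso (BasedFunctor.comp y π)
  let a : 𝒳.obj := x.obj ((AlgSt.overMap d₀).obj (topObj U))
  let b : 𝒳.obj := y.obj (topObj U)
  let β : π.obj a ⟶ π.obj b :=
    e.hom.toNatTrans.app _ ≫ j.inv.toNatTrans.app (topObj U)
  have ha : 𝒳.p.obj a = U := x.w_obj _
  have h1 : (FibCat.overCat T).p.IsHomLift (𝟙 U)
      (e.hom.toNatTrans.app ((AlgSt.overMap d₀).obj (topObj U))) :=
    BasedNatTrans.isHomLift e.hom rfl
  have h2 : (FibCat.overCat T).p.IsHomLift (𝟙 U) (j.inv.toNatTrans.app (topObj U)) :=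
    BasedNatTrans.isHomLift j.inv rfl
  have hβ : (FibCat.overCat T).p.IsHomLift (𝟙 U) β := homLift_id_comp h1 h2
  obtain ⟨R, hR, hloc⟩ := locHom_at hπ β ha
  obtain ⟨C, c, hc1, hc2, hc3, hcR⟩ := exists_fppf_family (R := R) hR
  refine ⟨C, c, fun i => c i ≫ d₀, hc1, hc2, hc3, fun i => ?_⟩
  obtain ⟨x₀, φ, ψ, hφ, hψ, -⟩ := hloc (c i) (hcR i)
  let F₁ : FibCat.overCat (C i) ⥤ᵇ 𝒳 :=
    BasedFunctor.comp (AlgSt.overMap (c i)) (BasedFunctor.comp (AlgSt.overMap d₀) x)
  let F₂ : FibCat.overCat (C i) ⥤ᵇ 𝒳 := BasedFunctor.comp (AlgSt.overMap (c i)) y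
  let s : (FibCat.overCat U).obj := (Over.map (c i)).obj (topObj (C i))
  have hs : s.hom = c i := Category.id_comp _
  have hm₁ : 𝒳.p.IsHomLift (c i) ((BasedFunctor.comp (AlgSt.overMap d₀) x).map (toTop s)) :=
    hs ▸ over_map_toTop_lift (BasedFunctor.comp (AlgSt.overMap d₀) x) s
  have hm₂ : 𝒳.p.IsHomLift (c i) (y.map (toTop s)) := hs ▸ over_map_toTop_lift y s
  obtain ⟨i₁, hi₁, -⟩ := exists_vertIso h𝒳 (c i)
    ((BasedFunctor.comp (AlgSt.overMap d₀) x).map (toTop s)) φ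
  obtain ⟨i₂, hi₂, -⟩ := exists_vertIso h𝒳 (c i) ψ (y.map (toTop s))
  let κ : F₁ ≅ F₂ := isoOfTop (topSC_of_fibGrpd h𝒳 _) (topSC_of_fibGrpd h𝒳 _) (i₁ ≪≫ i₂)
    (homLift_id_comp hi₁ hi₂)
  exact ⟨κ.symm ≪≫ (post (FibCat.overCat (C i)) x).mapIso (overMapCompIso (c i) d₀)⟩

/-- The two projections of the fibre product of points of a gerbe agree on the base. -/
lemma fst_overMap_iso_snd (e : BasedFunctor.comp x π ≅ BasedFunctor.id (FibCat.overCat T))
    {C : Over S} (d : C ⟶ T) :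
    Nonempty (BasedFunctor.comp (FibCat.fpFst (BasedFunctor.comp (AlgSt.overMap d) x) x)
        (AlgSt.overMap d) ≅
      FibCat.fpSnd (BasedFunctor.comp (AlgSt.overMap d) x) x) := by
  let 𝒲 := FibCat.fp (BasedFunctor.comp (AlgSt.overMap d) x) x
  exact ⟨(Stk.restr (BasedFunctor.comp (FibCat.fpFst (BasedFunctor.comp (AlgSt.overMap d) x) x)
      (AlgSt.overMap d)) _).mapIso e.symm ≪≫
    (post 𝒲 π).mapIso (FibCat.fpIso (BasedFunctor.comp (AlgSt.overMap d) x) x) ≪≫
    (Stk.restr (FibCat.fpSnd (BasedFunctor.comp (AlgSt.overMap d) x) x) _).mapIso e⟩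

variable (e : BasedFunctor.comp x π ≅ BasedFunctor.id (FibCat.overCat T))

include e in
/-- The key step: a property which passes to retracts descends from the second projection. -/
lemma repData_of_snd {Q : MorphismProperty Scheme.{u}} (hQ : H12AlgSp.EtLocal Q)
    (hret : ∀ {X Y B : AlgSp.Sp S}, AlgSp.IsAlgSpace X → AlgSp.IsAlgSpace Y → AlgSp.IsAlgSpace B →
      ∀ (πY : Y ⟶ B) (i : Y ⟶ X) (r : X ⟶ Y), i ≫ r = 𝟙 Y → LP Q (r ≫ πY) → LP Q πY)
    (hx : AlgSt.RepByAlgSp1 x) {C : Over S} (d : C ⟶ T)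
    (hA : AlgSt.RepByAlgSpWith (LP Q) (FibCat.fpSnd (BasedFunctor.comp (AlgSt.overMap d) x) x)) :
    RepData (LP Q) (FibCat.fpFst (BasedFunctor.comp (AlgSt.overMap d) x) x) := by
  obtain ⟨G, e₀, he₀⟩ := hx T x
  let q := AlgSt.spMapOfOver (BasedFunctor.comp e₀ (FibCat.fpFst x x))
  obtain ⟨s, hs⟩ := exists_map_of_fun (f := x) x he₀ (𝟙 T)
    (FibCat.fpLift (BasedFunctor.id _) (BasedFunctor.id _) (Iso.refl _))
    (mkIso (fun a => Over.isoMk (Iso.refl _) ((Category.id_comp _).trans (Category.comp_id _)))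
      (fun {_ _} φ => Over.OverMorphism.ext ((Category.comp_id _).trans (Category.id_comp _).symm))
      (fun a => IsHomLift.id rfl))
  change s ≫ q = (AlgSp.yon S).map (𝟙 T) at hs
  rw [CategoryTheory.Functor.map_id] at hs
  let yd := (AlgSp.yon S).map d
  obtain ⟨hGC, E, hE, ⟨k⟩⟩ := exists_fibre_baseChange x he₀ d
  let GC : AlgSp.Space S := ⟨pullback q yd, hGC⟩
  have hC := AlgSp.IsAlgSpace.yon_obj C
  have hT := AlgSp.IsAlgSpace.yon_obj T
  have hiso : SourceIsoInv (AlgSp.LocP (S := S) Q) := sourceIsoInv_locP Q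
  -- the composite to the base
  obtain ⟨i0⟩ := fst_overMap_iso_snd e d
  have ha : LP Q (pullback.snd q yd ≫ yd) := by
    let Φ₁ := BasedFunctor.comp (AlgSt.ofSpMap (pullback.snd q yd)) (AlgSt.toOverCat C)
    let κ : BasedFunctor.comp E (FibCat.fpSnd (BasedFunctor.comp (AlgSt.overMap d) x) x) ≅
        BasedFunctor.comp Φ₁ (AlgSt.overMap d) :=
      (Stk.restr E _).mapIso i0.symm ≪≫ (post (AlgSt.ofSp GC.obj) (AlgSt.overMap d)).mapIso k
    have h := prop_of_repWith_spMap (F := GC) hiso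
      (repWith_of_iso κ ((repWith_equiv_comp_iff hE).1 hA))
    rwa [spMapOfOver_overMap, spMapOfOver_comp, spMapOfOver_toOverCat, Category.comp_id] at h
  -- the section makes the chart a retract
  have hd : LP Q yd := hret GC.property hC hT yd
    (pullback.lift (yd ≫ s) (𝟙 _) (by rw [Category.assoc, hs, Category.comp_id, Category.id_comp]))
    (pullback.snd q yd) (pullback.lift_snd _ _ _) ha
  have sq := IsPullback.of_hasPullback (pullback.snd q yd ≫ yd) yd
  have hX : AlgSp.IsAlgSpace (pullback (pullback.snd q yd ≫ yd) yd) :=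
    H12AlgSp.isAlgSpace_of_isPullback hT.diag GC.property hC sq
  have h2 : LP Q (pullback.snd (pullback.snd q yd ≫ yd) yd) :=
    baseStable_locP hQ GC.property hT hX hC _ yd _ _ sq ha
  let r : pullback (pullback.snd q yd ≫ yd) yd ⟶ pullback q yd :=
    pullback.lift (pullback.fst _ _ ≫ pullback.fst q yd) (pullback.snd _ _) (by
      rw [Category.assoc, pullback.condition, pullback.condition])
  have hσ : LP Q (pullback.snd q yd) := by
    refine hret hX GC.property hC _ (pullback.lift (𝟙 _) (pullback.snd q yd) (Category.id_comp _)) r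
      ?_ ?_
    · apply pullback.hom_ext
      · rw [Category.assoc, pullback.lift_fst, ← Category.assoc, pullback.lift_fst]
      · rw [Category.assoc, pullback.lift_snd, pullback.lift_snd, Category.id_comp]
    · rw [pullback.lift_snd]
      exact h2
  refine ⟨GC, E, hE, ?_⟩
  rw [spMapOfOver_congr k, spMapOfOver_comp, spMapOfOver_toOverCat, Category.comp_id]
  exact hσ

include e in
lemma rep1_section (h𝒳 : AlgSt.IsAlgStack K₀ 𝒳) : AlgSt.RepByAlgSp1 x :=
  repByAlgSp1_of_diag h𝒳.isStack.1 h𝒳.diag (repByAlgSp_overCat T) x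

include e in
lemma repWith_section_of_smooth (h𝒳 : AlgSt.IsAlgStack K₀ 𝒳)
    (hπ : Gerb.LocSurjHom (QuotSh.J K₀ S) π) {Q : MorphismProperty Scheme.{u}}
    (hQ : H12AlgSp.EtLocal Q) (hsm : (@Smooth : MorphismProperty Scheme.{u}) ≤ Q)
    (hflat : ∀ {A B : Scheme.{u}} (c : A ⟶ B), Flat c → LocallyOfFinitePresentation c → Q c)
    (hloc : AlgSp.IsLocalOnBase AlgSp.IsFppfCover (AlgSp.LocP (S := S) Q))
    (hret : ∀ {X Y B : AlgSp.Sp S}, AlgSp.IsAlgSpace X → AlgSp.IsAlgSpace Y → AlgSp.IsAlgSpace B →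
      ∀ (πY : Y ⟶ B) (i : Y ⟶ X) (r : X ⟶ Y), i ≫ r = 𝟙 Y → LP Q (r ≫ πY) → LP Q πY) :
    AlgSt.RepByAlgSpWith (LP Q) x := by
  have hx := rep1_section e h𝒳
  obtain ⟨W, p, hp, hps⟩ := h𝒳.atlas
  obtain ⟨C, c, d, hc1, hc2, hc3, hz⟩ := locally_iso_section h𝒳.isStack.1 hπ e p
  have hdata : RepData (LP Q) (FibCat.fpFst p x) := by
    refine repData_of_family hloc (sourceIsoInv_locP Q) p (hx W p) C c hc1 hc2 hc3 fun i => ?_
    obtain ⟨j⟩ := hz i
    refine repData_congr j.symm (repData_of_snd e hQ hret hx (d i) ?_)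
    have h1 : AlgSt.RepByAlgSpWith (LP Q)
        (BasedFunctor.comp (FibCat.fpSnd (AlgSt.overMap (c i)) (FibCat.fpFst p x))
          (FibCat.fpSnd p x)) :=
      repWith_locP_comp hQ (fp_fibGrpd (fibGrpd_overCat _)
          (fp_fibGrpd (fibGrpd_overCat W) (fibGrpd_overCat T) h𝒳.isStack.1) (fibGrpd_overCat W))
        (fp_fibGrpd (fibGrpd_overCat W) (fibGrpd_overCat T) h𝒳.isStack.1)
        (repWith_fpSnd _ (repWith_overMap hQ (c i) (hflat _ (hc1 i) (hc2 i))))
        (repWith_fpSnd x (repWith_locP_mono hsm hp))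
    obtain ⟨E', ⟨u⟩, ⟨u'⟩⟩ := pasteBase_isEquivOver p x (AlgSt.overMap (c i))
    have h2 : AlgSt.RepByAlgSpWith (LP Q)
        (FibCat.fpSnd (BasedFunctor.comp (AlgSt.overMap (c i)) p) x) :=
      (repWith_equiv_comp_iff (pasteBase_isEquivOver p x (AlgSt.overMap (c i)))).2 h1
    let M : FibCat.fp (BasedFunctor.comp (AlgSt.overMap (d i)) x) x ⥤ᵇ
        FibCat.fp (BasedFunctor.comp (AlgSt.overMap (c i)) p) x :=
      fpMap (BasedFunctor.id _) (BasedFunctor.id _) (BasedFunctor.id 𝒳) j.symm (Iso.refl _)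
    exact (repWith_equiv_comp_iff (show FibCat.IsEquivOver M from
      fpMap_isEquivOver _ _ _ _ _ (essSurjOver_id _) (essSurjOver_id _))).1 h2
  obtain ⟨G, e', he', h⟩ := hdata
  exact repWith_of_fppf hloc (sourceIsoInv_locP Q) hx (repWith_locP_mono smooth_le_flat hp)
    (repWith_locP_mono smooth_le_lfp hp) hps
    (repWith_fpFst_of_data (baseStable_locP hQ) p he' h)

include e in
/-- A section of a gerbe over a scheme is flat. -/
theorem flat_section (h𝒳 : AlgSt.IsAlgStack K₀ 𝒳) (hπ : Gerb.LocSurjHom (QuotSh.J K₀ S) π) :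
    AlgSt.RepByAlgSpWith (LP @Flat) x :=
  repWith_section_of_smooth e h𝒳 hπ H12AlgSp.etLocal_flat smooth_le_flat (fun _ h _ => h)
    (localFppf_of_fpqc (S10530.result S)) (fun hX hY hB πY i r h h' =>
      locP_flat_of_retract hX hY hB πY i r h h')

include e in
/-- A section of a gerbe over a scheme is locally of finite presentation. -/
theorem lfp_section (h𝒳 : AlgSt.IsAlgStack K₀ 𝒳) (hπ : Gerb.LocSurjHom (QuotSh.J K₀ S) π) :
    AlgSt.RepByAlgSpWith (LP @LocallyOfFinitePresentation) x :=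
  repWith_section_of_smooth e h𝒳 hπ H12AlgSp.etLocal_lfp smooth_le_lfp (fun _ _ h => h)
    (localFppf_of_fpqc (S10527.result S)) (fun hX hY hB πY i r h h' =>
      locP_lfp_of_retract hX hY hB πY i r h h')

include e in
/-- A section of a gerbe over a scheme is surjective. -/
theorem surjective_section (h𝒳 : AlgSt.IsAlgStack K₀ 𝒳) (hπ : Gerb.LocSurjHom (QuotSh.J K₀ S) π) :
    AlgSt.RepByAlgSpWith AlgSp.IsSurjectiveMor x := by
  intro U y
  obtain ⟨G, e₀, he₀⟩ := rep1_section e h𝒳 U y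
  refine ⟨G, e₀, he₀, fun t => ?_⟩
  obtain ⟨t, rfl⟩ := (AlgSp.Points.schemeEquiv U).surjective t
  obtain ⟨C, c, d, -, -, hc3, hz⟩ := locally_iso_section h𝒳.isStack.1 hπ e y
  obtain ⟨i, w, rfl⟩ := hc3 t
  obtain ⟨j⟩ := hz i
  obtain ⟨m, hm⟩ := exists_map_of_fun y he₀ (c i)
    (FibCat.fpLift (AlgSt.overMap (c i)) (AlgSt.overMap (d i)) j) (Iso.refl _)
  refine ⟨AlgSp.Points.map m (AlgSp.Points.ofScheme (C i) w), ?_⟩
  rw [← AlgSp.Points.map_comp, hm]
  exact range_map_yon_map (c i) w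

end Groth.Agent.H14Gerbe
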