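import Groth.Agent.H14Gerbe.ResInertia

/-!
# Strata: locally closed gerbes
-/

set_option autoImplicit false
set_option backward.isDefEq.respectTransparency false
set_option backward.isDefEq.respectTransparency.types false

universe u

open CategoryTheory CategoryTheory.Functor Opposite AlgebraicGeometry CategoryTheory.Limits

noncomputable section

namespace Groth.Agent.H14Gerbe

open H14Fib H14Stk H14AlgSt

variable {S : Scheme.{u}} {𝒳 : AlgSt.Cat S} {Q : 𝒳.obj → Prop}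

local notation "K₀" => Scheme.fppfPrecoverage

/-- An open substack of a gerbe is a gerbe. -/
lemma isAlgGerbe_fullSub (hX : AlgSt.IsAlgStack K₀ 𝒳)
    (hh : ∀ {a b : 𝒳.obj}, (b ⟶ a) → Q a → Q b) (hQ : AlgSt.IsAlgStack K₀ (AlgSt.fullSub 𝒳 Q))
    (hg : Gerb.IsAlgGerbe K₀ 𝒳) : Gerb.IsAlgGerbe K₀ (AlgSt.fullSub 𝒳 Q) := by
  obtain ⟨X, π, hπ⟩ := hg
  obtain ⟨h1, h2⟩ := repWith_inertia_of_gerbe hX X π hπ
  have key : ∀ {P : MorphismProperty (AlgSp.Sp S)},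
      AlgSt.RepByAlgSpWith P (FibCat.inertiaToBase (FibCat.toSelf 𝒳)) →
        AlgSt.RepByAlgSpWith P (FibCat.inertiaToBase (FibCat.toSelf (AlgSt.fullSub 𝒳 Q))) :=
    fun h => (repWith_equiv_comp_iff (f := FibCat.fpFst (AlgSt.subIncl 𝒳 Q) _)
      (subInertia_isEquivOver (Q := Q) hh)).1 (repWith_fpFst _ h)
  exact (isAlgGerbe_iff hQ).2 ⟨locQ_of_repWith smLocal_flat (isAlgStack_inertia hQ) hQ (key h1),
    locQ_of_repWith smLocal_lfp (isAlgStack_inertia hQ) hQ (key h2)⟩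

/-- Being a gerbe is invariant under equivalence. -/
lemma isAlgGerbe_of_equiv {𝒴 : AlgSt.Cat S} (hX : AlgSt.IsAlgStack K₀ 𝒳)
    (hY : AlgSt.IsAlgStack K₀ 𝒴) {e : 𝒳 ⥤ᵇ 𝒴} (he : FibCat.IsEquivOver e)
    (hg : Gerb.IsAlgGerbe K₀ 𝒳) : Gerb.IsAlgGerbe K₀ 𝒴 := by
  obtain ⟨X, π, hπ⟩ := hg
  obtain ⟨e', ⟨i⟩, ⟨j⟩⟩ := he
  exact ⟨X, BasedFunctor.comp e' π, isGerbeOver_comp e' π hY.isStack.1 hX.isStack.1
    (isGerbeOver_of_isEquivOver e' hY.isStack.1 ⟨e, ⟨j⟩, ⟨i⟩⟩) hπ⟩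

/-- A smaller substack of a substack which is a gerbe is a gerbe. -/
lemma isAlgGerbe_of_le {Q₀ : 𝒳.obj → Prop} (_hX : AlgSt.IsAlgStack K₀ 𝒳)
    (h₀ : AlgSt.IsAlgStack K₀ (AlgSt.fullSub 𝒳 Q₀)) (hQ : AlgSt.IsAlgStack K₀ (AlgSt.fullSub 𝒳 Q))
    (hle : ∀ a, Q a → Q₀ a) (hh : ∀ {a b : 𝒳.obj}, (b ⟶ a) → Q a → Q b)
    (hg : Gerb.IsAlgGerbe K₀ (AlgSt.fullSub 𝒳 Q₀)) :
    Gerb.IsAlgGerbe K₀ (AlgSt.fullSub 𝒳 Q) := by
  let Q' : (AlgSt.fullSub 𝒳 Q₀).obj → Prop := fun a => Q a.obj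
  let e₁ : AlgSt.fullSub 𝒳 Q ⥤ᵇ AlgSt.fullSub 𝒳 Q₀ :=
    liftSub (AlgSt.subIncl 𝒳 Q) fun a => hle _ a.property
  let E : AlgSt.fullSub 𝒳 Q ⥤ᵇ AlgSt.fullSub (AlgSt.fullSub 𝒳 Q₀) Q' :=
    liftSub e₁ fun a => a.property
  have hE : FibCat.IsEquivOver E := by
    refine (isEquivOver_iff _).2 ⟨⟨⟨fun {a b} f => ⟨ObjectProperty.homMk f.hom.hom,
      rfl⟩⟩, ⟨fun {a b} f g h => ObjectProperty.hom_ext _ (congrArg (fun t => t.hom.hom) h)⟩⟩,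
      fun z => ⟨⟨z.obj.obj, z.property⟩, Iso.refl _, IsHomLift.id rfl⟩⟩
  have hQ' := (isAlgStack_iff K₀ hE).1 hQ
  obtain ⟨E', ⟨i⟩, ⟨j⟩⟩ := hE
  exact isAlgGerbe_of_equiv hQ' hQ ⟨E, ⟨j⟩, ⟨i⟩⟩
    (isAlgGerbe_fullSub h₀ (fun φ => hh φ.hom) hQ' hg)

/-- A locally closed gerbe inside a closed substack, as a substack. -/
lemma exists_stratum_of_open (hX : AlgSt.IsAlgStack K₀ 𝒳) (hQ : AlgSt.IsClosedSubstack 𝒳 Q K₀)
    (hred : AlgSt.SmoothLocally (fun X => IsReduced X) (AlgSt.fullSub 𝒳 Q))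
    {O : Set (AlgSt.Points (AlgSt.fullSub 𝒳 Q))} (hO : IsOpen O)
    (hg : Gerb.IsAlgGerbe K₀ (AlgSt.fullSub (AlgSt.fullSub 𝒳 Q) (ptPred O))) :
    ∃ R : 𝒳.obj → Prop, AlgSt.IsLocClosedSubstack 𝒳 R K₀ ∧
      AlgSt.SmoothLocally (fun X => IsReduced X) (AlgSt.fullSub 𝒳 R) ∧
      Gerb.IsAlgGerbe K₀ (AlgSt.fullSub 𝒳 R) ∧
      Set.range (AlgSt.Points.map (AlgSt.subIncl 𝒳 R)) =
        AlgSt.Points.map (AlgSt.subIncl 𝒳 Q) '' O ∧
      (AlgSt.IsQuasiCompact (AlgSt.fullSub (AlgSt.fullSub 𝒳 Q) (ptPred O)) →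
        AlgSt.IsQuasiCompact (AlgSt.fullSub 𝒳 R)) := by
  obtain ⟨-, h𝒰, hj⟩ := isOpenSubstack_ptPred hQ.2.1 hO
  let i := AlgSt.subIncl 𝒳 Q
  let j := AlgSt.subIncl (AlgSt.fullSub 𝒳 Q) (ptPred O)
  let m := BasedFunctor.comp j i
  have hi' : AlgSt.IsImm i := repWith_mono (fun _ _ _ hh => H12AlgSp.repWith_le
    (fun _ _ g (_ : IsClosedImmersion g) => (inferInstance : IsImmersion g)) hh) hQ.2.2
  have hj' : AlgSt.IsImm j := repWith_mono (fun _ _ _ hh => H12AlgSp.repWith_le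
    (fun _ _ g (_ : IsOpenImmersion g) => (inferInstance : IsImmersion g)) hh) hj
  have hm : AlgSt.IsImm m :=
    repWith_repWith_comp @IsImmersion h𝒰.isStack.1 hQ.2.1.isStack.1 hj' hi'
  have hmono := isMono_of_isImm hm
  have hE := toImage_isEquivOver h𝒰.isStack.1 hX.isStack.1 hmono
  have hR := imPred_alg h𝒰 hX.isStack.1 hmono
  refine ⟨imPred m, ⟨imPred_closed m, hR, imPred_repWith h𝒰.isStack.1 hX.isStack.1 hmono hm⟩,
    smoothLocally_of_equiv hE fun U z hz => hred U (BasedFunctor.comp z j) ?_,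
    isAlgGerbe_of_equiv h𝒰 hR hE hg, ?_, fun ⟨U, z, hU, h1, h2⟩ =>
      ⟨U, BasedFunctor.comp z (toImage m), hU, (repWith_comp_equiv_iff hE).2 h1,
        (repWith_comp_equiv_iff hE).2 h2⟩⟩
  · refine repWith_locP_comp H12AlgSp.etLocal_smooth (fibGrpd_overCat U) h𝒰.isStack.1 hz
      (repWith_mono (fun _ _ _ hh => H12AlgSp.locP_of_repWith H12AlgSp.etLocal_smooth
        (H12AlgSp.repWith_le
          (fun _ _ g (_ : IsOpenImmersion g) => (inferInstance : Smooth g)) hh)) hj)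
  · ext p
    constructor
    · rintro ⟨w, rfl⟩
      obtain ⟨v, rfl⟩ := (points_map_bijective hE).2 w
      refine ⟨AlgSt.Points.map j v, ?_, ?_⟩
      · exact (range_ptPred (O := O)).le ⟨v, rfl⟩
      · rw [← points_map_comp, ← points_map_comp]
        exact (points_map_iso (liftSubIso m (imPred_obj m)) v).symm
    · rintro ⟨w, hw, rfl⟩
      obtain ⟨v, rfl⟩ := (range_ptPred (O := O)).ge hw
      refine ⟨AlgSt.Points.map (toImage m) v, ?_⟩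
      rw [← points_map_comp, ← points_map_comp]
      exact points_map_iso (liftSubIso m (imPred_obj m)) v

/-- The stratum of a closed set. -/
lemma exists_stratum (hX : AlgSt.IsAlgStack K₀ 𝒳)
    (hI : AlgSt.IsQuasiCompactMor K₀ (FibCat.inertiaToBase (FibCat.toSelf 𝒳)))
    (T : Set (AlgSt.Points 𝒳)) (hT : IsClosed T) :
    ∃ R : 𝒳.obj → Prop, AlgSt.IsLocClosedSubstack 𝒳 R K₀ ∧
      AlgSt.SmoothLocally (fun X => IsReduced X) (AlgSt.fullSub 𝒳 R) ∧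
      Gerb.IsAlgGerbe K₀ (AlgSt.fullSub 𝒳 R) ∧
      (∃ O : Set (AlgSt.Points 𝒳), IsOpen O ∧
        Set.range (AlgSt.Points.map (AlgSt.subIncl 𝒳 R)) = O ∩ T) ∧
      T ⊆ closure (Set.range (AlgSt.Points.map (AlgSt.subIncl 𝒳 R))) := by
  obtain ⟨Q, hQ, hr, hred⟩ := exists_reduced_substack hX T hT
  have hh : ∀ {a b : 𝒳.obj}, (b ⟶ a) → Q a → Q b :=
    pred_of_hom hX.isStack.1 hQ.1 hQ.2.1.isStack.1
  obtain ⟨O, hO, hOd, hg⟩ :=
    exists_dense_gerbe hQ.2.1 hred (isQCMor_inertia_fullSub hX hh hQ.2.1 hI)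
  obtain ⟨R, h1, h2, h3, h4, -⟩ := exists_stratum_of_open hX hQ hred hO hg
  obtain ⟨O', hO', hpre⟩ := exists_open_of_closedSubstack hX hQ hO
  refine ⟨R, h1, h2, h3, ⟨O', hO', ?_⟩, ?_⟩
  · rw [h4, ← hpre, Set.image_preimage_eq_inter_range, hr]
  · rw [h4, ← hr]
    exact (continuous_points_map hX _).range_subset_closure_image_dense hOd

/-- The quasi-compact stratum of a closed set. -/
lemma exists_qc_stratum (hX : AlgSt.IsAlgStack K₀ 𝒳)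
    (hI : AlgSt.IsQuasiCompactMor K₀ (FibCat.inertiaToBase (FibCat.toSelf 𝒳)))
    (T : Set (AlgSt.Points 𝒳)) (hT : IsClosed T) :
    ∃ R : 𝒳.obj → Prop, AlgSt.IsLocClosedSubstack 𝒳 R K₀ ∧
      AlgSt.SmoothLocally (fun X => IsReduced X) (AlgSt.fullSub 𝒳 R) ∧
      Gerb.IsAlgGerbe K₀ (AlgSt.fullSub 𝒳 R) ∧
      AlgSt.IsQuasiCompact (AlgSt.fullSub 𝒳 R) ∧
      (∃ O : Set (AlgSt.Points 𝒳), IsOpen O ∧
        Set.range (AlgSt.Points.map (AlgSt.subIncl 𝒳 R)) = O ∩ T) ∧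
      (T.Nonempty → (Set.range (AlgSt.Points.map (AlgSt.subIncl 𝒳 R))).Nonempty) := by
  obtain ⟨Q, hQ, hr, hred⟩ := exists_reduced_substack hX T hT
  have hh : ∀ {a b : 𝒳.obj}, (b ⟶ a) → Q a → Q b :=
    pred_of_hom hX.isStack.1 hQ.1 hQ.2.1.isStack.1
  let 𝒵 := AlgSt.fullSub 𝒳 Q
  obtain ⟨O₀, hO₀, hOd, hg⟩ :=
    exists_dense_gerbe hQ.2.1 hred (isQCMor_inertia_fullSub hX hh hQ.2.1 hI)
  obtain ⟨U, x, hx, hxs⟩ := id hQ.2.1.atlas
  obtain ⟨W, hW, hWO, hWne⟩ : ∃ W : U.left.Opens, IsAffineOpen W ∧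
      AlgSt.Points.ofChart x '' W ⊆ O₀ ∧ (T.Nonempty → (W : Set U.left).Nonempty) := by
    by_cases hne : T.Nonempty
    · obtain ⟨_, z, rfl⟩ : (Set.range (AlgSt.Points.map (AlgSt.subIncl 𝒳 Q))).Nonempty :=
        hr.symm ▸ hne
      obtain ⟨q, hq⟩ := hOd.nonempty (h := ⟨z⟩)
      obtain ⟨a, rfl⟩ := ofChart_surjective hQ.2.1.isStack.1 hxs q
      obtain ⟨_, ⟨W, hW, rfl⟩, haW, hWO⟩ := U.left.isBasis_affineOpens.exists_subset_of_mem_open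
        (show a ∈ AlgSt.Points.ofChart x ⁻¹' O₀ from hq) (hO₀.preimage (continuous_ofChart hQ.2.1 x))
      exact ⟨W, hW, Set.image_subset_iff.2 hWO, fun _ => ⟨a, haW⟩⟩
    · exact ⟨⊥, isAffineOpen_bot _, by simp, fun h => (hne h).elim⟩
  let F := BasedFunctor.comp (AlgSt.overMap (subUIncl W)) x
  have hF := repWith_restrict hQ.2.1.isStack.1 hx W
  have hrange : Set.range (AlgSt.Points.map F) = AlgSt.Points.ofChart x '' W := range_restrict x W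
  let O := Set.range (AlgSt.Points.map F)
  have hO : IsOpen O := by
    rw [show O = _ from hrange]
    exact isOpenMap_ofChart hQ.2.1.isStack.1
      (repWith_locP_mono smooth_le_flat hx) (repWith_locP_mono smooth_le_lfp hx) _ W.isOpen
  obtain ⟨w, hw, hws, -⟩ := exists_image_substack hQ.2.1 (isAlgStack_overCat (subU W)) F hO hF
  have hqc : AlgSt.IsQuasiCompact (AlgSt.fullSub 𝒵 (ptPred O)) := ⟨subU W, w, hW, hw, hws⟩
  have hle : ∀ a, ptPred O a → ptPred O₀ a := fun a h r hr' => (hrange.le.trans hWO) (h r hr')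
  have hg' : Gerb.IsAlgGerbe K₀ (AlgSt.fullSub 𝒵 (ptPred O)) :=
    isAlgGerbe_of_le hQ.2.1 (isOpenSubstack_ptPred hQ.2.1 hO₀).2.1
      (isOpenSubstack_ptPred hQ.2.1 hO).2.1 hle (fun φ h => ptPred_of_hom φ h) hg
  obtain ⟨R, h1, h2, h3, h4, h5⟩ := exists_stratum_of_open hX hQ hred hO hg'
  obtain ⟨O', hO', hpre⟩ := exists_open_of_closedSubstack hX hQ hO
  refine ⟨R, h1, h2, h3, h5 hqc, ⟨O', hO', ?_⟩, fun h => ?_⟩
  · rw [h4, ← hpre, Set.image_preimage_eq_inter_range, hr]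
  · obtain ⟨t, ht⟩ := hWne h
    rw [h4]
    exact ⟨_, _, hrange.ge ⟨t, ht, rfl⟩, rfl⟩

end Groth.Agent.H14Gerbe
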