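import Mathlib

/-!
# Transfinite stratification of a topological space
-/

set_option autoImplicit false

universe u v

open Set

namespace Groth.Agent.H14Gerbe

variable {P : Type u} [TopologicalSpace P] {D : Type v}

/-- An index type too large to inject into `P`. -/
structure Idx (P : Type u) where
  /-- The underlying set. -/
  val : Set P

/-- Iterating a choice of non-empty relatively open pieces of closed sets exhausts a space. -/
theorem exists_stratification (r : D → Set P) (good : Set P → D → Prop)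
    (h : ∀ T : Set P, IsClosed T → ∃ d, (∃ O, IsOpen O ∧ r d = O ∩ T) ∧
      (T.Nonempty → (r d).Nonempty) ∧ good T d) :
    ∃ (I : Type u) (_ : LinearOrder I) (_ : WellFoundedLT I) (Q : I → D) (T : I → Set P),
      (∀ i, T i = {p | ∀ i', i' < i → p ∉ r (Q i')}) ∧ (∀ p, ∃ i, p ∈ r (Q i)) ∧
      (∀ i, IsClosed (T i)) ∧
      (∀ i, good (T i) (Q i) ∧ r (Q i) ⊆ T i ∧ IsOpen ((Subtype.val : T i → P) ⁻¹' r (Q i))) := by
  classical
  obtain ⟨d₀, -⟩ := h ∅ isClosed_empty
  let f : Set P → D := fun T => if hT : IsClosed T then (h T hT).choose else d₀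
  let I := Idx P
  let _ : LinearOrder I := linearOrderOfSTO WellOrderingRel
  have hwf : WellFoundedLT I := ⟨WellOrderingRel.isWellOrder.wf⟩
  let Q : I → D := hwf.wf.fix (fun i rec => f {p | ∀ i' (hi : i' < i), p ∉ r (rec i' hi)})
  let T : I → Set P := fun i => {p | ∀ i', i' < i → p ∉ r (Q i')}
  have hQ : ∀ i, Q i = f (T i) := fun i => hwf.wf.fix_eq _ i
  have spec : ∀ i, IsClosed (T i) → (∃ O, IsOpen O ∧ r (Q i) = O ∩ T i) ∧
      ((T i).Nonempty → (r (Q i)).Nonempty) ∧ good (T i) (Q i) := fun i hT => by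
    rw [hQ i]
    simp only [f, dif_pos hT]
    exact (h (T i) hT).choose_spec
  have hcl : ∀ i, IsClosed (T i) := fun i => by
    induction i using WellFoundedLT.induction with
    | ind i ih =>
      refine isOpen_compl_iff.1 (isOpen_iff_forall_mem_open.2 fun p hp => ?_)
      simp only [T, Set.mem_compl_iff, Set.mem_setOf_eq, not_forall, not_not] at hp
      obtain ⟨j, hj, hpj⟩ := hp
      obtain ⟨O, hO, e⟩ := (spec j (ih j hj)).1
      refine ⟨O, fun q hq hqT => ?_, hO, (e.le hpj).1⟩
      exact hqT j hj (e.ge ⟨hq, fun k hk => hqT k (hk.trans hj)⟩)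
  refine ⟨I, inferInstance, hwf, Q, T, fun i => rfl, fun p => ?_, hcl, fun i => ?_⟩
  · by_contra hp
    simp only [not_exists] at hp
    have hne : ∀ i, (r (Q i)).Nonempty := fun i =>
      (spec i (hcl i)).2.1 ⟨p, fun j _ => hp j⟩
    choose g hg using hne
    suffices hinj : Function.Injective g from
      Function.cantor_injective (fun s => g ⟨s⟩) fun a b e => congrArg Idx.val (hinj e)
    intro i j e
    obtain ⟨O, -, eO⟩ := (spec i (hcl i)).1
    obtain ⟨O', -, eO'⟩ := (spec j (hcl j)).1
    rcases lt_trichotomy i j with hlt | heq | hgt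
    · exact absurd (e ▸ hg i) ((eO'.le (hg j)).2 i hlt)
    · exact heq
    · exact absurd (e ▸ hg j) ((eO.le (hg i)).2 j hgt)
  · obtain ⟨⟨O, hO, e⟩, -, hg⟩ := spec i (hcl i)
    refine ⟨hg, fun q hq => (e.le hq).2, O, hO, Set.ext fun q => ?_⟩
    rw [Set.mem_preimage, Set.mem_preimage, e]
    exact ⟨fun hq => ⟨hq, q.2⟩, fun hq => hq.1⟩

end Groth.Agent.H14Gerbe
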